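import Groth.Agent.RG.Loc.Descent

/-!
# Operations on localised pieces
-/

set_option autoImplicit false
set_option linter.style.haveILetI false
set_option backward.isDefEq.respectTransparency false

universe u

open TensorProduct

namespace Groth.Agent.RG.Loc

/-- localising a module at an element of the smaller ring or at its image gives the same -/
theorem exists_equiv_restrict {R A A' : Type u} [CommRing R] [CommRing A] [CommRing A'] [Algebra R A] [Algebra A A']
    (M : Type u) [AddCommGroup M] [Module A' M] [Module A M] [IsScalarTower A A' M] [Module R M] [IsScalarTower R A M]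
    [Algebra R A'] [IsScalarTower R A A'] [IsScalarTower R A' M] (g : A) :
    Nonempty (LocalizedModule (Submonoid.powers g) M ≃ₗ[R] LocalizedModule (Submonoid.powers (algebraMap A A' g)) M) := by
  let f := LocalizedModule.mkLinearMap (Submonoid.powers (algebraMap A A' g)) M
  haveI : IsLocalizedModule (Submonoid.powers g) (f.restrictScalars A) := IsLocalizedModule.restrictScalars_powers g f
  exact ⟨(IsLocalizedModule.iso (Submonoid.powers g) (f.restrictScalars A)).restrictScalars R⟩

/-- the same after a linear identification -/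
theorem exists_equiv_congr {R A : Type u} [CommRing R] [CommRing A] [Algebra R A]
    {M M' : Type u} [AddCommGroup M] [Module A M] [Module R M] [IsScalarTower R A M]
    [AddCommGroup M'] [Module A M'] [Module R M'] [IsScalarTower R A M'] (e : M ≃ₗ[A] M') (g : A) :
    Nonempty (LocalizedModule (Submonoid.powers g) M ≃ₗ[R] LocalizedModule (Submonoid.powers g) M') := by
  let f : M →ₗ[A] LocalizedModule (Submonoid.powers g) M' :=
    (LocalizedModule.mkLinearMap (Submonoid.powers g) M').comp e.toLinearMap
  haveI : IsLocalizedModule (Submonoid.powers g) f := inferInstance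
  exact ⟨(IsLocalizedModule.iso (Submonoid.powers g) f).restrictScalars R⟩

attribute [local instance] Algebra.TensorProduct.rightAlgebra in
/-- every element of `R' ⊗ S` is, near `p'`, congruent to one of `S` -/
theorem exists_approx {R R' S : Type u} [CommRing R] [CommRing R'] [CommRing S] [Algebra R R'] [Algebra R S]
    {p : Ideal R} [p.IsPrime] {p' : Ideal R'} [p'.IsPrime] (hn : FlatCA.IsEtaleNhd R R' p p') (x : R' ⊗[R] S) :
    ∃ (s : R) (y : S), s ∉ p ∧ algebraMap R (R' ⊗[R] S) s * x - algebraMap S (R' ⊗[R] S) y ∈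
      p'.map (algebraMap R' (R' ⊗[R] S)) := by
  induction x using TensorProduct.induction_on with
  | zero => exact ⟨1, 0, fun h => ‹p.IsPrime›.ne_top ((Ideal.eq_top_iff_one p).2 h), by simp⟩
  | tmul a b =>
    obtain ⟨r, s, hs, h⟩ := exists_sub_mem_of_isEtaleNhd hn a
    refine ⟨s, r • b, hs, ?_⟩
    have h1 : algebraMap R (R' ⊗[R] S) s * (a ⊗ₜ b) - algebraMap S (R' ⊗[R] S) (r • b) =
        algebraMap R' (R' ⊗[R] S) (algebraMap R R' s * a - algebraMap R R' r) * ((1 : R') ⊗ₜ b) := by
      change (algebraMap R R' s ⊗ₜ[R] (1 : S)) * (a ⊗ₜ b) - (1 : R') ⊗ₜ[R] (r • b) = _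
      rw [Algebra.TensorProduct.tmul_mul_tmul, one_mul, Algebra.TensorProduct.algebraMap_apply,
        Algebra.TensorProduct.tmul_mul_tmul, one_mul, mul_one, Algebra.algebraMap_self, RingHom.id_apply, sub_tmul,
        ← smul_tmul, Algebra.algebraMap_eq_smul_one r]
    rw [h1]
    exact Ideal.mul_mem_right _ _ (Ideal.mem_map_of_mem _ h)
  | add a b ha hb =>
    obtain ⟨s, y, hs, h⟩ := ha
    obtain ⟨s', y', hs', h'⟩ := hb
    refine ⟨s * s', algebraMap R S s' * y + algebraMap R S s * y', ‹p.IsPrime›.mul_notMem hs hs', ?_⟩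
    have hR : ∀ r : R, algebraMap S (R' ⊗[R] S) (algebraMap R S r) = algebraMap R (R' ⊗[R] S) r := fun r => by
      change (1 : R') ⊗ₜ[R] algebraMap R S r = algebraMap R R' r ⊗ₜ[R] (1 : S)
      rw [Algebra.algebraMap_eq_smul_one, Algebra.algebraMap_eq_smul_one, smul_tmul]
    have e : algebraMap R (R' ⊗[R] S) (s * s') * (a + b) -
        algebraMap S (R' ⊗[R] S) (algebraMap R S s' * y + algebraMap R S s * y') =
        algebraMap R (R' ⊗[R] S) s' * (algebraMap R (R' ⊗[R] S) s * a - algebraMap S (R' ⊗[R] S) y) +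
        algebraMap R (R' ⊗[R] S) s * (algebraMap R (R' ⊗[R] S) s' * b - algebraMap S (R' ⊗[R] S) y') := by
      rw [map_mul, map_add, map_mul, map_mul, hR, hR]
      ring
    rw [e]
    exact add_mem (Ideal.mul_mem_left _ _ h) (Ideal.mul_mem_left _ _ h')

attribute [local instance] Algebra.TensorProduct.rightAlgebra in
/-- a prime of `R' ⊗ S` over `p'` is determined by its contraction to `S` -/
theorem mem_iff_of_nhd {R R' S : Type u} [CommRing R] [CommRing R'] [CommRing S] [Algebra R R'] [Algebra R S]
    {p : Ideal R} [p.IsPrime] {p' : Ideal R'} [p'.IsPrime] (hn : FlatCA.IsEtaleNhd R R' p p') {Q : Ideal (R' ⊗[R] S)}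
    [Q.IsPrime] (hQ : Q.comap (algebraMap R' (R' ⊗[R] S)) = p') {x : R' ⊗[R] S} {s : R} {y : S} (hs : s ∉ p)
    (h : algebraMap R (R' ⊗[R] S) s * x - algebraMap S (R' ⊗[R] S) y ∈ p'.map (algebraMap R' (R' ⊗[R] S))) :
    x ∈ Q ↔ y ∈ Q.comap (algebraMap S (R' ⊗[R] S)) := by
  have hle : p'.map (algebraMap R' (R' ⊗[R] S)) ≤ Q := Ideal.map_le_iff_le_comap.2 hQ.ge
  have hsQ : algebraMap R (R' ⊗[R] S) s ∉ Q := fun hm => hs (by
    rw [← comap_of_isEtaleNhd hn, ← hQ, Ideal.mem_comap, Ideal.mem_comap, ← IsScalarTower.algebraMap_apply]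
    exact hm)
  rw [Ideal.mem_comap]
  refine ⟨fun hx => ?_, fun hy => ?_⟩
  · have := sub_mem (Q.mul_mem_left (algebraMap R (R' ⊗[R] S) s) hx) (hle h)
    rwa [sub_sub_cancel] at this
  · have := add_mem (hle h) hy
    rw [sub_add_cancel] at this
    exact (‹Q.IsPrime›.mem_or_mem this).resolve_left hsQ

attribute [local instance] Algebra.TensorProduct.rightAlgebra in
/-- the prime of `R' ⊗ S` over a prime of `S` over `p` -/
theorem exists_prime_of_nhd {R R' S : Type u} [CommRing R] [CommRing R'] [CommRing S] [Algebra R R'] [Algebra R S]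
    {p : Ideal R} [p.IsPrime] {p' : Ideal R'} [p'.IsPrime] (hn : FlatCA.IsEtaleNhd R R' p p') (q : Ideal S) [q.IsPrime]
    (hq : q.comap (algebraMap R S) = p) : ∃ Q : Ideal (R' ⊗[R] S), Q.IsPrime ∧
      Q.comap (algebraMap R' (R' ⊗[R] S)) = p' ∧ Q.comap (algebraMap S (R' ⊗[R] S)) = q := by
  obtain ⟨-, hl, hbij⟩ := id hn
  let ι : p.ResidueField →ₐ[R] q.ResidueField := Ideal.ResidueField.mapₐ p q (Algebra.ofId R S) hq.symm
  let e : p.ResidueField ≃ₐ[R] p'.ResidueField := AlgEquiv.ofBijective _ hbij
  let α : R' →ₐ[R] q.ResidueField := (ι.comp e.symm.toAlgHom).comp (IsScalarTower.toAlgHom R R' p'.ResidueField)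
  let ψ : R' ⊗[R] S →ₐ[R] q.ResidueField :=
    Algebra.TensorProduct.lift α (IsScalarTower.toAlgHom R S q.ResidueField) fun _ _ => Commute.all _ _
  refine ⟨RingHom.ker ψ.toRingHom, RingHom.ker_isPrime _, ?_, ?_⟩
  · ext a
    rw [Ideal.mem_comap, RingHom.mem_ker]
    change ψ (algebraMap R' (R' ⊗[R] S) a) = 0 ↔ _
    rw [Algebra.TensorProduct.algebraMap_apply, Algebra.TensorProduct.lift_tmul, map_one, mul_one,
      Algebra.algebraMap_self, RingHom.id_apply]
    change ι (e.symm (algebraMap R' p'.ResidueField a)) = 0 ↔ _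
    rw [map_eq_zero_iff ι ι.injective, map_eq_zero_iff e.symm e.symm.injective]
    exact Ideal.algebraMap_residueField_eq_zero
  · ext y
    rw [Ideal.mem_comap, RingHom.mem_ker]
    change ψ ((1 : R') ⊗ₜ[R] y) = 0 ↔ _
    rw [Algebra.TensorProduct.lift_tmul, map_one, one_mul]
    exact Ideal.algebraMap_residueField_eq_zero

attribute [local instance] Algebra.TensorProduct.rightAlgebra in
/-- an open piece is a piece -/
theorem EPiece.of_openPiece {R : Type u} [CommRing R] [IsNoetherianRing R] {S : Type u} [CommRing S] [Algebra R S]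
    [Algebra.FiniteType R S] {p : Ideal R} [p.IsPrime] {q : Ideal S} {N : Type u} [AddCommGroup N] [Module S N]
    (h : OpenPiece R S p q N) : EPiece R S p q N := by
  obtain ⟨R', _, _, p', _, hn, g, q', hq', hqp, hqq, hgq, hproj⟩ := h
  haveI := hn.1
  let A := R' ⊗[R] S
  let C := Localization.Away g
  haveI : IsScalarTower R S C := IsScalarTower.of_algebraMap_eq fun r => by
    rw [IsScalarTower.algebraMap_apply S A C, IsScalarTower.algebraMap_apply R A C]
    congr 1
    change algebraMap R R' r ⊗ₜ[R] (1 : S) = (1 : R') ⊗ₜ[R] algebraMap R S r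
    rw [Algebra.algebraMap_eq_smul_one, Algebra.algebraMap_eq_smul_one, smul_tmul]
  haveI : IsScalarTower R R' C := IsScalarTower.of_algebraMap_eq fun r => by
    rw [IsScalarTower.algebraMap_apply R A C, IsScalarTower.algebraMap_apply R R' A, ← IsScalarTower.algebraMap_apply]
  haveI : Algebra.FiniteType R' C := Algebra.FiniteType.trans (S := A) inferInstance
    (IsLocalization.finiteType_of_monoid_fg (Submonoid.powers g) C)
  have hflat : (pieceHom R R' S C).toRingHom.Flat := by
    have : (pieceHom R R' S C).toRingHom = algebraMap A C := by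
      refine RingHom.ext fun a => ?_
      change pieceHom R R' S C a = algebraMap A C a
      induction a using TensorProduct.induction_on with
      | zero => simp
      | tmul r s =>
        rw [pieceHom_tmul, IsScalarTower.algebraMap_apply R' A C, IsScalarTower.algebraMap_apply S A C, ← map_mul]
        congr 1
        change (algebraMap R' A r) * ((1 : R') ⊗ₜ[R] s) = _
        rw [Algebra.TensorProduct.algebraMap_apply, Algebra.TensorProduct.tmul_mul_tmul, mul_one, one_mul]
        rfl
      | add a b ha hb => rw [map_add, map_add, ha, hb]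
    rw [this]
    exact RingHom.flat_algebraMap_iff.2 (IsLocalization.flat C (Submonoid.powers g))
  haveI := hproj
  have hd : Disjoint (Submonoid.powers g : Set A) (q' : Set A) := by
    rwa [Ideal.disjoint_powers_iff_notMem_of_isPrime]
  have hQc : (q'.map (algebraMap A C)).comap (algebraMap A C) = q' := IsLocalization.comap_map_of_isPrime_disjoint _ C hq' hd
  refine ⟨R', inferInstance, inferInstance, p', inferInstance, hn, C, inferInstance, inferInstance, inferInstance,
    inferInstance, inferInstance, inferInstance, inferInstance, hflat, ?_, q'.map (algebraMap A C),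
    IsLocalization.isPrime_of_isPrime_disjoint _ C q' hq' hd, ?_, ?_⟩
  · exact Module.Projective.of_equiv (((LocalizedModule.equivTensorProduct (Submonoid.powers g) (A ⊗[S] N)) ≪≫ₗ
      AlgebraTensorModule.cancelBaseChange S A C C N).restrictScalars R')
  · rw [IsScalarTower.algebraMap_eq R' A C, ← Ideal.comap_comap, hQc, hqp]
  · rw [IsScalarTower.algebraMap_eq S A C, ← Ideal.comap_comap, hQc, hqq]

attribute [local instance] Algebra.TensorProduct.rightAlgebra in
/-- a localisation which becomes projective over `R[1/f]` gives a piece -/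
theorem epiece_of_localized {R : Type u} [CommRing R] {S : Type u} [CommRing S] [Algebra R S]
    [Algebra.FiniteType R S] {p : Ideal R} [p.IsPrime] {q : Ideal S} [q.IsPrime] (hq : q.comap (algebraMap R S) = p)
    {N : Type u} [AddCommGroup N] [Module S N] [Module R N] [IsScalarTower R S N] (g : S) (hg : g ∉ q) (f : R) (hf : f ∉ p)
    (h : Module.Projective (Localization.Away f) (Localization.Away f ⊗[R] LocalizedModule (Submonoid.powers g) N)) :
    EPiece R S p q N := by
  let L := Localization.Away f
  obtain ⟨pL, _, hn⟩ := isEtaleNhd_away (R := R) (p := p) f hf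
  let Sg := Localization.Away g
  let C := L ⊗[R] Sg
  letI : Algebra S C := ((algebraMap Sg C).comp (algebraMap S Sg)).toAlgebra
  haveI : IsScalarTower S Sg C := IsScalarTower.of_algebraMap_eq' rfl
  haveI : IsScalarTower R Sg C := IsScalarTower.of_algebraMap_eq fun r => by
    change algebraMap R L r ⊗ₜ[R] (1 : Sg) = (1 : L) ⊗ₜ[R] algebraMap R Sg r
    rw [Algebra.algebraMap_eq_smul_one, Algebra.algebraMap_eq_smul_one, smul_tmul]
  haveI : IsScalarTower R S C := IsScalarTower.of_algebraMap_eq fun r => by
    rw [IsScalarTower.algebraMap_apply S Sg C, ← IsScalarTower.algebraMap_apply R S Sg,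
      ← IsScalarTower.algebraMap_apply R Sg C]
  haveI : Algebra.FiniteType R Sg := Algebra.FiniteType.trans (S := S) inferInstance
    (IsLocalization.finiteType_of_monoid_fg (Submonoid.powers g) Sg)
  have hcomp : pieceHom R L S C = Algebra.TensorProduct.map (AlgHom.id L L) (IsScalarTower.toAlgHom R S Sg) := by
    refine Algebra.TensorProduct.ext' fun a s => ?_
    rw [pieceHom_tmul, Algebra.TensorProduct.map_tmul, IsScalarTower.algebraMap_apply S Sg C]
    change (a ⊗ₜ[R] (1 : Sg)) * ((1 : L) ⊗ₜ[R] algebraMap S Sg s) = _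
    rw [Algebra.TensorProduct.tmul_mul_tmul, mul_one, one_mul]
    rfl
  have hd : Disjoint (Submonoid.powers g : Set S) (q : Set S) := by
    rwa [Ideal.disjoint_powers_iff_notMem_of_isPrime]
  haveI hQ₀ : (q.map (algebraMap S Sg)).IsPrime := IsLocalization.isPrime_of_isPrime_disjoint _ Sg q inferInstance hd
  have hQc : (q.map (algebraMap S Sg)).comap (algebraMap S Sg) = q :=
    IsLocalization.comap_map_of_isPrime_disjoint _ Sg inferInstance hd
  obtain ⟨x, hx, hxp, hxq⟩ := exists_prime_of_nhd hn (q.map (algebraMap S Sg)) (by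
    rw [IsScalarTower.algebraMap_eq R S Sg, ← Ideal.comap_comap, hQc, hq])
  haveI := h
  refine ⟨L, inferInstance, inferInstance, pL, inferInstance, hn, C, inferInstance, inferInstance, inferInstance,
    inferInstance, inferInstance, inferInstance, inferInstance, ?_, ?_, x, hx, hxp, ?_⟩
  · rw [hcomp]
    exact flat_map_id R L (IsScalarTower.toAlgHom R S Sg) (RingHom.flat_algebraMap_iff.2 (IsLocalization.flat Sg (Submonoid.powers g)))
  · let e0 : LocalizedModule (Submonoid.powers g) N ≃ₗ[Sg] Sg ⊗[S] N := LocalizedModule.equivTensorProduct (Submonoid.powers g) N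
    exact Module.Projective.of_equiv ((AlgebraTensorModule.congr (LinearEquiv.refl L L) (e0.restrictScalars R)) ≪≫ₗ
      (Algebra.IsPushout.cancelBaseChange R L Sg C (Sg ⊗[S] N)).symm ≪≫ₗ
      ((AlgebraTensorModule.cancelBaseChange S Sg C C N).restrictScalars L))
  · rw [IsScalarTower.algebraMap_eq S Sg C, ← Ideal.comap_comap, hxq, hQc]

end Groth.Agent.RG.Loc
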