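import Groth.Prelude.Def_FlatCA
import Mathlib.RingTheory.Etale.Basic
import Mathlib.RingTheory.Smooth.StandardSmooth

/-!
# Elementary étale neighbourhoods: criterion, composition, localisation
-/

set_option autoImplicit false
set_option linter.style.haveILetI false
set_option backward.isDefEq.respectTransparency false

universe u

namespace Groth.Agent.RG.Loc

variable {R R' : Type u} [CommRing R] [CommRing R'] [Algebra R R'] {p : Ideal R} [p.IsPrime] {p' : Ideal R'} [p'.IsPrime]

theorem exists_frac_residue (y : p.ResidueField) :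
    ∃ r s : R, s ∉ p ∧ algebraMap R p.ResidueField s * y = algebraMap R p.ResidueField r := by
  obtain ⟨a, rfl⟩ := IsLocalRing.residue_surjective y
  obtain ⟨r, s, rfl⟩ := IsLocalization.exists_mk'_eq p.primeCompl a
  refine ⟨r, s, s.2, ?_⟩
  change IsLocalRing.residue _ (algebraMap R (Localization.AtPrime p) (s : R)) * IsLocalRing.residue _ _ =
    IsLocalRing.residue _ (algebraMap R (Localization.AtPrime p) r)
  rw [← map_mul, IsLocalization.mk'_spec']

theorem isEtaleNhd_mk [Algebra.Etale R R'] (hc : p'.comap (algebraMap R R') = p)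
    (hsurj : ∀ x : R', ∃ r s : R, s ∉ p ∧ algebraMap R R' s * x - algebraMap R R' r ∈ p') :
    FlatCA.IsEtaleNhd R R' p p' := by
  refine ⟨inferInstance, ⟨hc.symm⟩, RingHom.injective _, fun y => ?_⟩
  let φ := Ideal.ResidueField.mapₐ p p' (Algebra.ofId R R') hc.symm
  have hφ : ∀ r : R, φ (algebraMap R p.ResidueField r) = algebraMap R' p'.ResidueField (algebraMap R R' r) := fun r => by
    rw [φ.commutes, IsScalarTower.algebraMap_apply R R' p'.ResidueField]
  obtain ⟨a, b, hb, hab⟩ := exists_frac_residue (p := p') y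
  obtain ⟨ra, sa, hsa, ha⟩ := hsurj a
  obtain ⟨rb, sb, hsb, hb'⟩ := hsurj b
  have hr : ∀ {x : R'} {r s : R}, algebraMap R R' s * x - algebraMap R R' r ∈ p' →
      φ (algebraMap R _ s) * algebraMap R' p'.ResidueField x = φ (algebraMap R _ r) := fun {x r s} h => by
    rw [hφ, hφ, ← map_mul, ← sub_eq_zero, ← map_sub]
    exact Ideal.algebraMap_residueField_eq_zero.2 h
  have hne : ∀ {s : R}, s ∉ p → φ (algebraMap R _ s) ≠ 0 := fun {s} hs h => hs (by
    rw [map_eq_zero] at h
    exact Ideal.algebraMap_residueField_eq_zero.1 h)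
  have hb0 : algebraMap R' p'.ResidueField b ≠ 0 := fun h => hb (Ideal.algebraMap_residueField_eq_zero.1 h)
  refine ⟨algebraMap R _ (sb * ra) / algebraMap R _ (sa * rb), ?_⟩
  change φ _ = y
  rw [map_div₀, map_mul, map_mul, map_mul, map_mul, ← hr ha, ← hr hb', ← hab,
    div_eq_iff (mul_ne_zero (hne hsa) (mul_ne_zero (hne hsb) hb0))]
  ring

theorem comap_of_isEtaleNhd (h : FlatCA.IsEtaleNhd R R' p p') : p'.comap (algebraMap R R') = p := h.2.1.over.symm

theorem exists_sub_mem_of_isEtaleNhd (h : FlatCA.IsEtaleNhd R R' p p') (x : R') :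
    ∃ r s : R, s ∉ p ∧ algebraMap R R' s * x - algebraMap R R' r ∈ p' := by
  obtain ⟨-, hl, -, hsurj⟩ := h
  obtain ⟨y, hy⟩ := hsurj (algebraMap R' p'.ResidueField x)
  obtain ⟨r, s, hs, hrs⟩ := exists_frac_residue y
  refine ⟨r, s, hs, Ideal.algebraMap_residueField_eq_zero.1 ?_⟩
  have := congrArg (Ideal.ResidueField.mapₐ p p' (Algebra.ofId R R') hl.over) hrs
  rw [map_mul, AlgHom.commutes, AlgHom.commutes, hy, IsScalarTower.algebraMap_apply R R' p'.ResidueField,
    IsScalarTower.algebraMap_apply R R' p'.ResidueField] at this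
  rw [map_sub, map_mul, this, sub_self]

theorem isEtaleNhd_trans {R'' : Type u} [CommRing R''] [Algebra R R''] [Algebra R' R''] [IsScalarTower R R' R'']
    {p'' : Ideal R''} [p''.IsPrime] (h₁ : FlatCA.IsEtaleNhd R R' p p') (h₂ : FlatCA.IsEtaleNhd R' R'' p' p'') :
    FlatCA.IsEtaleNhd R R'' p p'' := by
  haveI := h₁.1
  haveI := h₂.1
  haveI : Algebra.Etale R R'' := Algebra.Etale.comp R R' R''
  have hc : p''.comap (algebraMap R R'') = p := by
    rw [IsScalarTower.algebraMap_eq R R' R'', ← Ideal.comap_comap, comap_of_isEtaleNhd h₂, comap_of_isEtaleNhd h₁]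
  refine isEtaleNhd_mk hc fun x => ?_
  obtain ⟨r', s', hs', h'⟩ := exists_sub_mem_of_isEtaleNhd h₂ x
  obtain ⟨rr, sr, hsr, hr⟩ := exists_sub_mem_of_isEtaleNhd h₁ r'
  obtain ⟨rs, ss, hss, hs⟩ := exists_sub_mem_of_isEtaleNhd h₁ s'
  have hrs : rs ∉ p := fun hrs => by
    have : algebraMap R R' rs ∈ p' := Ideal.mem_comap.1 (by rwa [comap_of_isEtaleNhd h₁])
    have := add_mem hs this
    rw [sub_add_cancel] at this
    rcases ‹p'.IsPrime›.mem_or_mem this with h | h
    · exact hss (by rw [← comap_of_isEtaleNhd h₁]; exact h)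
    · exact hs' h
  refine ⟨ss * rr, sr * rs, (‹p.IsPrime›).mul_notMem hsr hrs, ?_⟩
  have hup : ∀ {a : R'}, a ∈ p' → algebraMap R' R'' a ∈ p'' := fun {a} ha =>
    Ideal.mem_comap.1 (by rwa [comap_of_isEtaleNhd h₂])
  have hre : algebraMap R R'' (sr * rs) * x - algebraMap R R'' (ss * rr) =
      (algebraMap R R'' ss * algebraMap R R'' sr) * (algebraMap R' R'' s' * x - algebraMap R' R'' r') -
      algebraMap R R'' sr * x * algebraMap R' R'' (algebraMap R R' ss * s' - algebraMap R R' rs) +
      algebraMap R R'' ss * algebraMap R' R'' (algebraMap R R' sr * r' - algebraMap R R' rr) := by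
    simp only [map_mul, map_sub, ← IsScalarTower.algebraMap_apply]
    ring
  rw [hre]
  exact add_mem (sub_mem (p''.mul_mem_left _ h') (p''.mul_mem_left _ (hup hs))) (p''.mul_mem_left _ (hup hr))

theorem isEtaleNhd_away (f : R) (hf : f ∉ p) :
    ∃ (p₁ : Ideal (Localization.Away f)) (_ : p₁.IsPrime), FlatCA.IsEtaleNhd R (Localization.Away f) p p₁ := by
  have hd : Disjoint (Submonoid.powers f : Set R) (p : Set R) := by
    rwa [Ideal.disjoint_powers_iff_notMem_of_isPrime]
  haveI hP : (p.map (algebraMap R (Localization.Away f))).IsPrime :=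
    IsLocalization.isPrime_of_isPrime_disjoint _ _ p inferInstance hd
  haveI : Algebra.Etale R (Localization.Away f) := Algebra.Etale.of_isLocalizationAway f
  refine ⟨_, hP, isEtaleNhd_mk (IsLocalization.comap_map_of_isPrime_disjoint _ _ inferInstance hd) fun x => ?_⟩
  obtain ⟨r, s, rfl⟩ := IsLocalization.exists_mk'_eq (Submonoid.powers f) x
  obtain ⟨n, hn⟩ := s.2
  exact ⟨r, s, fun h => hf (‹p.IsPrime›.mem_of_pow_mem n (by rwa [← hn] at h)), by
    rw [IsLocalization.mk'_spec', sub_self]; exact zero_mem _⟩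

end Groth.Agent.RG.Loc
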