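import Groth.Agent.RG.Loc.OpenPure
import Groth.Agent.RG.Pure.Global
import Groth.Agent.LocalCrit.UnivInj

/-!
# Consequences of projectivity of pure modules: closed vanishing loci, contents, universal injectivity
-/

set_option autoImplicit false
set_option linter.style.haveILetI false
set_option backward.isDefEq.respectTransparency false

universe u

open TensorProduct

namespace Groth.Agent.RG.Loc

variable {A : Type u} [CommRing A]

/-- a splitting of a projective module off a free one -/
theorem exists_coords (N : Type u) [AddCommGroup N] [Module A N] [Module.Projective A N] :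
    ∃ s : N →ₗ[A] (N →₀ A), Function.LeftInverse (Finsupp.linearCombination A (id : N → N)) s :=
  (Module.projective_def).1 inferInstance

theorem tmul_eq_zero_iff_coords {N : Type u} [AddCommGroup N] [Module A N] (s : N →ₗ[A] (N →₀ A))
    (hs : Function.LeftInverse (Finsupp.linearCombination A (id : N → N)) s) (A' : Type u) [CommRing A'] [Algebra A A']
    (k : N) : (1 : A') ⊗ₜ[A] k = 0 ↔ ∀ i, algebraMap A A' (s k i) = 0 := by
  classical
  refine ⟨fun h i => ?_, fun h => ?_⟩
  · have h1 := congrArg (fun z => finsuppScalarRight A A' A' N (s.baseChange A' z) i) h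
    simpa [Algebra.smul_def] using h1
  · rw [← hs k, Finsupp.linearCombination_apply, Finsupp.sum, tmul_sum]
    refine Finset.sum_eq_zero fun i _ => ?_
    rw [← TensorProduct.smul_tmul, Algebra.smul_def, h, zero_mul, zero_tmul]

theorem baseChange_bijective_iff {B N N' : Type u} [CommRing B] [Algebra A B] [AddCommGroup N] [Module B N] [Module A N]
    [IsScalarTower A B N] [AddCommGroup N'] [Module B N'] [Module A N'] [IsScalarTower A B N'] (u : N →ₗ[B] N')
    (hu : Function.Surjective u) (A' : Type u) [CommRing A'] [Algebra A A'] :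
    Function.Bijective ((u.restrictScalars A).baseChange A') ↔ ∀ k : N, u k = 0 → (1 : A') ⊗ₜ[A] k = 0 := by
  let w := u.restrictScalars A
  have hex : Function.Exact (LinearMap.ker w).subtype w := LinearMap.exact_subtype_ker_map w
  refine ⟨fun h k hk => h.1 (by simp [hk]), fun h => ⟨?_, LinearMap.baseChange_surjective A' hu⟩⟩
  rw [injective_iff_map_eq_zero]
  intro z hz
  obtain ⟨y, rfl⟩ := (lTensor_exact A' hex hu z).1 hz
  clear hz
  induction y using TensorProduct.induction_on with
  | zero => simp
  | tmul a k =>
    have hk : u (k : N) = 0 := k.2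
    rw [LinearMap.lTensor_tmul, Submodule.coe_subtype, show a ⊗ₜ[A] (k : N) = a • ((1 : A') ⊗ₜ[A] (k : N)) by
      rw [smul_tmul', smul_eq_mul, mul_one], h k hk, smul_zero]
  | add y y' hy hy' => rw [map_add, hy, hy', add_zero]

/-- the locus where a quotient of a projective module is an isomorphism is closed -/
theorem exists_iso_ideal {B : Type u} [CommRing B] [Algebra A B] {N : Type u} [AddCommGroup N] [Module B N]
    [Module A N] [IsScalarTower A B N] [Module.Projective A N] {N' : Type u} [AddCommGroup N'] [Module B N']
    [Module A N'] [IsScalarTower A B N'] (u : N →ₗ[B] N') (hu : Function.Surjective u) :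
    ∃ I : Ideal A, (∀ (A' : Type u) [CommRing A'] [Algebra A A'],
      Function.Bijective ((u.restrictScalars A).baseChange A') ↔ I.map (algebraMap A A') = ⊥) ∧
      ((LinearMap.ker u).FG → I.FG) := by
  classical
  obtain ⟨s, hs⟩ := exists_coords (A := A) N
  let I : Ideal A := Ideal.span {a | ∃ k, u k = 0 ∧ ∃ i, s k i = a}
  refine ⟨I, fun A' _ _ => ?_, fun ⟨G, hG⟩ => ?_⟩
  · rw [baseChange_bijective_iff u hu, Ideal.map_eq_bot_iff_le_ker]
    refine ⟨fun h => Ideal.span_le.2 ?_, fun h k hk => (tmul_eq_zero_iff_coords s hs A' k).2 fun i =>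
      h (Ideal.subset_span ⟨k, hk, i, rfl⟩)⟩
    rintro _ ⟨k, hk, i, rfl⟩
    exact (tmul_eq_zero_iff_coords s hs A' k).1 (h k hk) i
  · let T : Finset A := G.biUnion fun k => (s k).support.image (s k)
    refine ⟨T, le_antisymm (Submodule.span_le.2 ?_) (Ideal.span_le.2 ?_)⟩
    · intro a ha
      obtain ⟨k, hk, i, -, rfl⟩ : ∃ k ∈ G, ∃ i, i ∈ (s k).support ∧ s k i = a := by simpa [T] using ha
      refine Ideal.subset_span ⟨k, ?_, i, rfl⟩
      exact LinearMap.mem_ker.1 (hG ▸ Submodule.subset_span hk)
    · rintro _ ⟨k, hk, i, rfl⟩
      let I₀ : Ideal A := Ideal.span (T : Set A)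
      have hk' : k ∈ Submodule.span B (G : Set N) := hG.symm ▸ LinearMap.mem_ker.2 hk
      have h0 : (1 : A ⧸ I₀) ⊗ₜ[A] k = 0 := by
        clear hk
        induction hk' using Submodule.span_induction with
        | mem g hg =>
          refine (tmul_eq_zero_iff_coords s hs _ g).2 fun j => ?_
          by_cases hj : s g j = 0
          · rw [hj, map_zero]
          · exact Ideal.Quotient.eq_zero_iff_mem.2 (Ideal.subset_span (Finset.mem_biUnion.2
              ⟨g, hg, Finset.mem_image.2 ⟨j, Finsupp.mem_support_iff.2 hj, rfl⟩⟩))
        | zero => simp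
        | add a b _ _ ha hb => rw [tmul_add, ha, hb, add_zero]
        | smul b x _ hx =>
          have := congrArg (((LinearMap.lsmul B N b).restrictScalars A).baseChange (A ⧸ I₀)) hx
          simpa using this
      exact Ideal.Quotient.eq_zero_iff_mem.1 ((tmul_eq_zero_iff_coords s hs _ k).1 h0 i)

/-- an element of a universally injective submodule lies in `J N` iff it lies in `J N'` -/
theorem mem_smul_top_iff_of_univInj {P N : Type u} [AddCommGroup P] [Module A P] [AddCommGroup N] [Module A N]
    (g : P →ₗ[A] N) (hg : FlatCA.UnivInj A g) (J : Ideal A) (x : P) :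
    g x ∈ J • (⊤ : Submodule A N) ↔ x ∈ J • (⊤ : Submodule A P) := by
  refine ⟨fun h => (LocalCrit.quot_lTensor_injective_iff J g).1 (hg _) x h, fun h => ?_⟩
  have := Submodule.mem_map_of_mem (f := g) h
  rw [Submodule.map_smul''] at this
  exact Submodule.smul_mono le_rfl le_top this

/-- content ideals in projective modules -/
theorem exists_content_ideal {P : Type u} [AddCommGroup P] [Module A P] [Module.Projective A P] (x : P) :
    ∃ I : Ideal A, x ∈ I • (⊤ : Submodule A P) ∧ ∀ J : Ideal A, x ∈ J • (⊤ : Submodule A P) → I ≤ J := by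
  classical
  obtain ⟨s, hs⟩ := exists_coords (A := A) P
  refine ⟨Ideal.span (Set.range (s x)), ?_, fun J hJ => Ideal.span_le.2 ?_⟩
  · have h : Finsupp.linearCombination A (id : P → P) (s x) ∈
        Ideal.span (Set.range (s x)) • (⊤ : Submodule A P) := by
      rw [Finsupp.linearCombination_apply, Finsupp.sum]
      exact Submodule.sum_mem _ fun i _ =>
        Submodule.smul_mem_smul (Ideal.subset_span (Set.mem_range_self i)) Submodule.mem_top
    rwa [hs x] at h
  · rintro _ ⟨i, rfl⟩
    have h1 := Submodule.mem_map_of_mem (f := Finsupp.lapply i ∘ₗ s) hJ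
    rw [Submodule.map_smul''] at h1
    have h2 := Submodule.smul_mono le_rfl (le_top (a := Submodule.map (Finsupp.lapply i ∘ₗ s) ⊤)) h1
    simpa using h2

theorem injective_lTensor_baseChange_mod {R' X Y : Type u} [CommRing R'] [Algebra A R'] [AddCommGroup X] [Module A X]
    [AddCommGroup Y] [Module A Y] (u : X →ₗ[A] Y) (K : Type u) [AddCommGroup K] [Module A K] [Module R' K]
    [IsScalarTower A R' K] : Function.Injective ((u.baseChange R').lTensor K) ↔ Function.Injective (u.lTensor K) := by
  let eX := AlgebraTensorModule.cancelBaseChange A R' R' K X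
  let eY := AlgebraTensorModule.cancelBaseChange A R' R' K Y
  have key : ∀ z, eY ((u.baseChange R').lTensor K z) = u.lTensor K (eX z) := by
    intro z
    induction z using TensorProduct.induction_on with
    | zero => simp
    | tmul k w =>
      induction w using TensorProduct.induction_on with
      | zero => simp
      | tmul l x => simp [eX, eY]
      | add a b ha hb => simp only [tmul_add, map_add, ha, hb]
    | add a b ha hb => simp only [map_add, ha, hb]
  refine ⟨fun h a b hab => ?_, fun h a b hab => eX.injective (h (by rw [← key, ← key, hab]))⟩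
  obtain ⟨a, rfl⟩ := eX.surjective a
  obtain ⟨b, rfl⟩ := eX.surjective b
  rw [← key, ← key] at hab
  rw [h (eY.injective hab)]

/-- maps from projective to flat modules, injective modulo every maximal ideal, are universally injective -/
theorem univInj_of_residue {P M : Type u} [AddCommGroup P] [Module A P] [Module.Projective A P] [AddCommGroup M]
    [Module A M] [Module.Flat A M] (v : P →ₗ[A] M)
    (hv : ∀ (m : Ideal A) [m.IsMaximal], Function.Injective (v.lTensor (A ⧸ m))) : FlatCA.UnivInj A v := by
  intro Q _ _
  rw [injective_iff_map_eq_zero]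
  intro z hz
  refine Module.eq_zero_of_localization_maximal (R := A)
    (fun m _ => Localization.AtPrime m ⊗[A] (Q ⊗[A] P))
    (fun m _ => TensorProduct.mk A (Localization.AtPrime m) (Q ⊗[A] P) 1) z fun m _ => ?_
  let L := Localization.AtPrime m
  let e : (A ⧸ m) ≃ₗ[A] IsLocalRing.ResidueField L :=
    LinearEquiv.ofBijective (IsScalarTower.toAlgHom A (A ⧸ m) m.ResidueField).toLinearMap
      m.bijective_algebraMap_quotient_residueField
  have hres : Function.Injective ((v.baseChange L).lTensor (IsLocalRing.ResidueField L)) := by
    rw [injective_lTensor_baseChange_mod]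
    intro a b hab
    refine (e.symm.rTensor P).injective (hv m ?_)
    have hc : ∀ w, v.lTensor (A ⧸ m) (e.symm.rTensor P w) = e.symm.rTensor M (v.lTensor _ w) := fun w => by
      induction w using TensorProduct.induction_on with
      | zero => simp
      | tmul _ _ => simp
      | add a b ha hb => simp only [map_add, ha, hb]
    rw [hc, hc, hab]
  have h1 : Function.Injective (v.lTensor (L ⊗[A] Q)) := by
    rw [← injective_lTensor_baseChange_mod (R' := L)]
    intro a b hab
    refine (TensorProduct.comm L _ _).injective (LocalCrit.rTensor_injective_of_residue (v.baseChange L) hres _ ?_)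
    have hc : ∀ w, (v.baseChange L).rTensor (L ⊗[A] Q) (TensorProduct.comm L _ _ w) =
        TensorProduct.comm L _ _ ((v.baseChange L).lTensor (L ⊗[A] Q) w) := fun w => by
      induction w using TensorProduct.induction_on with
      | zero => simp
      | tmul _ _ => simp
      | add a b ha hb => simp only [map_add, ha, hb]
    rw [hc, hc, hab]
  refine (TensorProduct.assoc A L Q P).symm.injective ?_
  rw [map_zero]
  refine h1 ?_
  have hc : v.lTensor (L ⊗[A] Q) ((TensorProduct.assoc A L Q P).symm ((1 : L) ⊗ₜ z)) =
      (TensorProduct.assoc A L Q M).symm ((1 : L) ⊗ₜ v.lTensor Q z) := by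
    clear hz
    induction z using TensorProduct.induction_on with
    | zero => simp
    | tmul _ _ => simp
    | add a b ha hb => simp only [tmul_add, map_add, ha, hb]
  rw [TensorProduct.mk_apply, hc, hz, tmul_zero, map_zero, map_zero]

end Groth.Agent.RG.Loc
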