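import Groth.Agent.RG.Loc.HensStructure
import Mathlib.RingTheory.Flat.FaithfullyFlat.Algebra
import Mathlib.RingTheory.Finiteness.Descent
import Mathlib.RingTheory.Ideal.GoingUp

/-!
# Finite presentation near a point: transfer tools
-/

set_option autoImplicit false
set_option linter.style.haveILetI false
set_option backward.isDefEq.respectTransparency false

universe u

open TensorProduct

namespace Groth.Agent.RG.Loc

/-- finite presentation over a finite algebra from finite presentation over the base -/
theorem fp_restrict {T S : Type u} [CommRing T] [CommRing S] [Algebra T S] [Module.Finite T S] (M : Type u)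
    [AddCommGroup M] [Module T M] [Module S M] [IsScalarTower T S M] [Module.FinitePresentation T M] :
    Module.FinitePresentation S M := by
  haveI : Module.Finite S M := Module.Finite.of_restrictScalars_finite T S M
  obtain ⟨r, f, hf⟩ := Module.Finite.exists_fin' S M
  refine Module.finitePresentation_of_surjective f hf ?_
  obtain ⟨G, hG⟩ := Module.FinitePresentation.fg_ker (f.restrictScalars T) hf
  refine ⟨G, le_antisymm (Submodule.span_le.2 fun x hx => ?_) fun x hx => ?_⟩
  · have h : x ∈ LinearMap.ker (f.restrictScalars T) := hG ▸ Submodule.subset_span hx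
    exact h
  · have h : x ∈ Submodule.span T (G : Set (Fin r → S)) := hG ▸ (hx : x ∈ LinearMap.ker (f.restrictScalars T))
    exact Submodule.span_le_restrictScalars T S _ h

/-- finite presentation does not depend on the model of the localisation -/
theorem fp_model {S : Type u} [CommRing S] (g : S) {C C' : Type u} [CommRing C] [CommRing C'] [Algebra S C]
    [Algebra S C'] [IsLocalization.Away g C] [IsLocalization.Away g C'] {N : Type u} [AddCommGroup N] [Module S N]
    (h : Module.FinitePresentation C (C ⊗[S] N)) : Module.FinitePresentation C' (C' ⊗[S] N) := by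
  let e : C ≃ₐ[S] C' := IsLocalization.algEquiv (Submonoid.powers g) C C'
  letI : Algebra C C' := e.toAlgHom.toRingHom.toAlgebra
  haveI : IsScalarTower S C C' := IsScalarTower.of_algebraMap_eq fun s => (e.commutes s).symm
  haveI := h
  exact Module.FinitePresentation.of_equiv (AlgebraTensorModule.cancelBaseChange S C C' C' N)

/-- a basic open of a basic open is a basic open -/
theorem exists_away_trans {T : Type u} [CommRing T] (x : T) (T₁ : Type u) [CommRing T₁] [Algebra T T₁]
    [IsLocalization.Away x T₁] (y : T₁) (C : Type u) [CommRing C] [Algebra T₁ C] [Algebra T C] [IsScalarTower T T₁ C]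
    [IsLocalization.Away y C] :
    ∃ a : T, IsLocalization.Away (x * a) C ∧
      ∀ Q : Ideal T₁, Q.IsPrime → y ∉ Q → x * a ∉ Q.comap (algebraMap T T₁) := by
  obtain ⟨k, a, ha⟩ := IsLocalization.Away.surj x y
  have hx : IsUnit (algebraMap T T₁ x) := IsLocalization.Away.algebraMap_isUnit x
  haveI : IsLocalization.Away (algebraMap T T₁ a) C :=
    IsLocalization.Away.of_associated (r := y) ⟨(hx.pow k).unit, by rw [IsUnit.unit_spec, ← map_pow]; simpa using ha⟩
  refine ⟨a, IsLocalization.Away.mul' T₁ C x a, fun Q hQ hy hm => ?_⟩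
  rw [Ideal.mem_comap, map_mul] at hm
  rcases hQ.mem_or_mem hm with hm | hm
  · exact hQ.ne_top (Q.eq_top_of_isUnit_mem hm hx)
  · rw [← ha] at hm
    exact (hQ.mem_or_mem hm).elim hy fun h => hQ.ne_top (Q.eq_top_of_isUnit_mem h (by
      rw [← map_pow] at *; exact (map_pow (algebraMap T T₁) x k).symm ▸ hx.pow k))

/-- flatness at a point is unchanged on a basic open -/
theorem flat_localized_away {R T : Type u} [CommRing R] [CommRing T] [Algebra R T] {g : T} (T₁ : Type u) [CommRing T₁]
    [Algebra T T₁] [Algebra R T₁] [IsScalarTower R T T₁] [IsLocalization.Away g T₁] (t : Ideal T₁) [t.IsPrime]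
    (N : Type u) [AddCommGroup N] [Module T N] [Module R N] [IsScalarTower R T N]
    (h : Module.Flat R (LocalizedModule (t.comap (algebraMap T T₁)).primeCompl N)) :
    Module.Flat R (LocalizedModule t.primeCompl (T₁ ⊗[T] N)) := by
  let P := t.comap (algebraMap T T₁)
  let L := Localization.AtPrime t
  haveI : IsLocalization.AtPrime L P :=
    IsLocalization.isLocalization_isLocalization_atPrime_isLocalization (Submonoid.powers g) L t
  let e : LocalizedModule t.primeCompl (T₁ ⊗[T] N) ≃ₗ[R] L ⊗[T] N :=
    ((LocalizedModule.equivTensorProduct t.primeCompl (T₁ ⊗[T] N)) ≪≫ₗ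
      AlgebraTensorModule.cancelBaseChange T T₁ L L N).restrictScalars R
  let f : N →ₗ[T] L ⊗[T] N := TensorProduct.mk T L N 1
  haveI : IsLocalizedModule P.primeCompl f := (isLocalizedModule_iff_isBaseChange P.primeCompl L f).2
    (TensorProduct.isBaseChange T N L)
  haveI := h
  haveI : Module.Flat R (L ⊗[T] N) :=
    Module.Flat.of_linearEquiv ((IsLocalizedModule.iso P.primeCompl f).restrictScalars R).symm
  exact Module.Flat.of_linearEquiv e

/-- with a single prime over `P`, localising at `P` and at that prime agree -/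
theorem flat_unique_prime {R T S : Type u} [CommRing R] [CommRing T] [CommRing S] [Algebra R T] [Algebra R S]
    [Algebra T S] [IsScalarTower R T S] [Module.Finite T S] (P : Ideal T) [P.IsPrime] (q : Ideal S) [q.IsPrime]
    (hq : q.comap (algebraMap T S) = P) (huniq : ∀ Q : Ideal S, Q.IsPrime → Q.comap (algebraMap T S) = P → Q = q)
    (M : Type u) [AddCommGroup M] [Module S M] [Module T M] [IsScalarTower T S M] [Module R M] [IsScalarTower R S M]
    [IsScalarTower R T M] (h : Module.Flat R (LocalizedModule q.primeCompl M)) :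
    Module.Flat R (LocalizedModule P.primeCompl M) := by
  have key : ∀ s : S, s ∉ q → ∃ (c : S) (u : T), u ∉ P ∧ c * s = algebraMap T S u := by
    intro s hs
    by_contra hcon
    push Not at hcon
    have hd : Disjoint ((Ideal.span {s} : Ideal S) : Set S) (Algebra.algebraMapSubmonoid S P.primeCompl : Set S) := by
      rw [Set.disjoint_left]
      rintro _ hx ⟨u, hu, rfl⟩
      obtain ⟨c, hc⟩ := Ideal.mem_span_singleton'.1 hx
      exact hcon c u hu hc
    obtain ⟨Q, hQ, hle, hdQ⟩ := Ideal.exists_le_prime_disjoint _ _ hd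
    have hQP : Q.comap (algebraMap T S) ≤ P := fun u hu => by
      by_contra h'
      exact Set.disjoint_left.1 hdQ hu ⟨u, h', rfl⟩
    obtain ⟨Q', hQ', hQ'p, hQ'c⟩ := Ideal.exists_ideal_over_prime_of_isIntegral P Q hQP
    exact hs (huniq Q' hQ'p hQ'c ▸ hQ' (hle (Ideal.mem_span_singleton_self s)))
  let f : M →ₗ[T] LocalizedModule q.primeCompl M := (LocalizedModule.mkLinearMap q.primeCompl M).restrictScalars T
  have hu' : ∀ u : T, u ∉ P → algebraMap T S u ∉ q := fun u hu hm => hu (by rw [← hq]; exact hm)
  haveI : IsLocalizedModule P.primeCompl f := by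
    refine ⟨fun u => ?_, fun y => ?_, fun {x₁ x₂} he => ?_⟩
    · rw [Module.End.isUnit_iff]
      have := (Module.End.isUnit_iff _).1 (IsLocalizedModule.map_units (LocalizedModule.mkLinearMap q.primeCompl M)
        (⟨algebraMap T S u, hu' u u.2⟩ : q.primeCompl))
      convert this using 1
      funext z
      exact (algebraMap_smul S (u : T) z).symm
    · obtain ⟨⟨m, s⟩, hms⟩ := IsLocalizedModule.surj q.primeCompl (LocalizedModule.mkLinearMap q.primeCompl M) y
      obtain ⟨c, u, hu, hcu⟩ := key s s.2
      refine ⟨(c • m, ⟨u, hu⟩), ?_⟩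
      change u • y = LocalizedModule.mkLinearMap q.primeCompl M (c • m)
      rw [map_smul, ← hms, Submonoid.smul_def, smul_smul, hcu, algebraMap_smul]
    · obtain ⟨⟨s, hs⟩, hse⟩ := IsLocalizedModule.exists_of_eq (S := q.primeCompl)
        (f := LocalizedModule.mkLinearMap q.primeCompl M) he
      obtain ⟨c, u, hu, hcu⟩ := key s hs
      refine ⟨⟨u, hu⟩, ?_⟩
      change u • x₁ = u • x₂
      rw [← algebraMap_smul S u x₁, ← algebraMap_smul S u x₂, ← hcu, mul_smul, mul_smul]
      exact congrArg (c • ·) hse
  haveI := h
  exact Module.Flat.of_linearEquiv ((IsLocalizedModule.iso P.primeCompl f).restrictScalars R)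

/-- base change of finite presentation along a commutative square -/
theorem fp_baseChange {S C S₁ C₁ : Type u} [CommRing S] [CommRing C] [CommRing S₁] [CommRing C₁] [Algebra S C]
    [Algebra S S₁] [Algebra C C₁] [Algebra S₁ C₁] [Algebra S C₁] [IsScalarTower S C C₁] [IsScalarTower S S₁ C₁]
    (N : Type u) [AddCommGroup N] [Module S N] [Module.FinitePresentation C (C ⊗[S] N)] :
    Module.FinitePresentation C₁ (C₁ ⊗[S₁] (S₁ ⊗[S] N)) :=
  Module.FinitePresentation.of_equiv (R := C₁) ((AlgebraTensorModule.cancelBaseChange S C C₁ C₁ N) ≪≫ₗ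
    (AlgebraTensorModule.cancelBaseChange S S₁ C₁ C₁ N).symm)

/-- finite presentation after two base changes is finite presentation after one -/
theorem fp_cancel {S C : Type u} [CommRing S] [CommRing C] [Algebra S C] (S₁ : Type u) [CommRing S₁] [Algebra S S₁]
    [Algebra S₁ C] [IsScalarTower S S₁ C] {N : Type u} [AddCommGroup N] [Module S N]
    (h : Module.FinitePresentation C (C ⊗[S₁] (S₁ ⊗[S] N))) : Module.FinitePresentation C (C ⊗[S] N) :=
  haveI := h
  Module.FinitePresentation.of_equiv (R := C) (AlgebraTensorModule.cancelBaseChange S S₁ C C N)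

/-- faithfully flat descent of finite presentation for a finite module -/
theorem fp_of_ff {S C : Type u} [CommRing S] [CommRing C] [Algebra S C] [Module.FaithfullyFlat S C] (N : Type u)
    [AddCommGroup N] [Module S N] [Module.Finite S N] (h : Module.FinitePresentation C (C ⊗[S] N)) :
    Module.FinitePresentation S N := by
  obtain ⟨r, π, hπ⟩ := Module.Finite.exists_fin' S N
  refine Module.finitePresentation_of_surjective π hπ ?_
  haveI : Module.Finite C (C ⊗[S] LinearMap.ker π) := by
    have hsurj : Function.Surjective (π.baseChange C) := LinearMap.lTensor_surjective C hπ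
    have hinj : Function.Injective ((LinearMap.ker π).subtype.baseChange C) :=
      Module.Flat.lTensor_preserves_injective_linearMap (M := C) _ Subtype.val_injective
    have hfg := Module.FinitePresentation.fg_ker (π.baseChange C) hsurj
    have hex : Function.Exact ((LinearMap.ker π).subtype.baseChange C) (π.baseChange C) :=
      lTensor_exact C π.exact_subtype_ker_map hπ
    rw [LinearMap.exact_iff.1 hex] at hfg
    haveI : Module.Finite C (LinearMap.range ((LinearMap.ker π).subtype.baseChange C)) := Module.Finite.of_fg hfg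
    exact Module.Finite.equiv (LinearEquiv.ofInjective _ hinj).symm
  exact Module.Finite.iff_fg.1 (Module.Finite.of_finite_tensorProduct_of_faithfullyFlat C)

attribute [local instance] Algebra.TensorProduct.rightAlgebra in
/-- finite presentation near `q` descends along a flat finitely presented algebra with a point over `q` -/
theorem fp_descend {S C : Type u} [CommRing S] [CommRing C] [Algebra S C] [Algebra.FinitePresentation S C]
    [Module.Flat S C] (N : Type u) [AddCommGroup N] [Module S N] [Module.Finite S N]
    (h : Module.FinitePresentation C (C ⊗[S] N)) (q : Ideal S) [q.IsPrime] (x : Ideal C) [x.IsPrime]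
    (hx : x.comap (algebraMap S C) = q) :
    ∃ g : S, g ∉ q ∧ Module.FinitePresentation (Localization.Away g) (Localization.Away g ⊗[S] N) := by
  have hopen : IsOpen (Set.range (PrimeSpectrum.comap (algebraMap S C))) :=
    (PrimeSpectrum.isOpenMap_comap_of_hasGoingDown_of_finitePresentation (R := S) (S := C)).isOpen_range
  obtain ⟨_, ⟨g, rfl⟩, hgq, hg⟩ := PrimeSpectrum.isTopologicalBasis_basic_opens.exists_subset_of_mem_open
    (show (⟨q, ‹_›⟩ : PrimeSpectrum S) ∈ Set.range (PrimeSpectrum.comap (algebraMap S C)) from ⟨⟨x, ‹_›⟩, PrimeSpectrum.ext hx⟩) hopen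
  refine ⟨g, hgq, ?_⟩
  let S₁ := Localization.Away g
  let C₁ := S₁ ⊗[S] C
  haveI hloc : IsLocalization.Away (algebraMap S C g) C₁ := by
    have h := (Algebra.isLocalization_iff_isPushout (Submonoid.powers g) S₁ (T := C) (B := C₁)).2
      (Algebra.IsPushout.symm inferInstance)
    rw [Algebra.algebraMapSubmonoid_powers] at h
    exact h
  haveI : Module.Flat S₁ C₁ := inferInstance
  haveI : Module.FaithfullyFlat S₁ C₁ := by
    refine Module.FaithfullyFlat.of_comap_surjective fun P => ?_
    have hgP : g ∉ P.asIdeal.comap (algebraMap S S₁) := fun hm =>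
      P.isPrime.ne_top (P.asIdeal.eq_top_of_isUnit_mem hm (IsLocalization.Away.algebraMap_isUnit g))
    obtain ⟨y, hy⟩ := hg (show (⟨P.asIdeal.comap (algebraMap S S₁), Ideal.IsPrime.comap _⟩ : PrimeSpectrum S) ∈
      PrimeSpectrum.basicOpen g from hgP)
    have hy' : y.asIdeal.comap (algebraMap S C) = P.asIdeal.comap (algebraMap S S₁) := congrArg PrimeSpectrum.asIdeal hy
    have hd : Disjoint (Submonoid.powers (algebraMap S C g) : Set C) (y.asIdeal : Set C) := by
      rw [Ideal.disjoint_powers_iff_notMem_of_isPrime]
      exact fun hm => hgP (hy' ▸ Ideal.mem_comap.2 hm)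
    refine ⟨⟨_, IsLocalization.isPrime_of_isPrime_disjoint _ C₁ y.asIdeal y.isPrime hd⟩, ?_⟩
    refine PrimeSpectrum.localization_comap_injective S₁ (Submonoid.powers g) (PrimeSpectrum.ext ?_)
    change ((y.asIdeal.map (algebraMap C C₁)).comap (algebraMap S₁ C₁)).comap (algebraMap S S₁) = _
    have hc : (y.asIdeal.map (algebraMap C C₁)).comap (algebraMap C C₁) = y.asIdeal :=
      IsLocalization.comap_map_of_isPrime_disjoint _ C₁ y.isPrime hd
    rw [Ideal.comap_comap, ← IsScalarTower.algebraMap_eq S S₁ C₁, IsScalarTower.algebraMap_eq S C C₁,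
      ← Ideal.comap_comap, hc, hy']
    rfl
  haveI := h
  haveI := h
  exact fp_of_ff (C := C₁) (S₁ ⊗[S] N) (fp_baseChange (C := C) N (C₁ := C₁))

/-- extension by a free module -/
theorem fp_extension {T C M : Type u} [CommRing T] [CommRing C] [Algebra T C] [Module.Flat T C] [AddCommGroup M]
    [Module T M] {r : ℕ} (α : (Fin r → T) →ₗ[T] M) (hinj : Function.Injective α)
    (h : Module.FinitePresentation C (C ⊗[T] (M ⧸ LinearMap.range α))) : Module.FinitePresentation C (C ⊗[T] M) := by
  haveI := h
  let l : C ⊗[T] M →ₗ[C] C ⊗[T] (M ⧸ LinearMap.range α) := (LinearMap.range α).mkQ.baseChange C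
  let k : C ⊗[T] (Fin r → T) →ₗ[C] C ⊗[T] M := α.baseChange C
  have hk : Function.Injective k := Module.Flat.lTensor_preserves_injective_linearMap (M := C) _ hinj
  have hker : LinearMap.ker l = LinearMap.range k :=
    LinearMap.exact_iff.1 (lTensor_exact C (LinearMap.exact_map_mkQ_range α) (Submodule.mkQ_surjective _) :
      Function.Exact k l)
  haveI : Module.FinitePresentation C (LinearMap.ker l) :=
    Module.FinitePresentation.of_equiv (R := C) (M := C ⊗[T] (Fin r → T)) (N := LinearMap.ker l)
      ((LinearEquiv.ofInjective k hk) ≪≫ₗ LinearEquiv.ofEq _ _ hker.symm)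
  exact Module.finitePresentation_of_ker l (LinearMap.lTensor_surjective C (Submodule.mkQ_surjective _))

/-- finite presentation over a finitely presented finite algebra goes down -/
theorem fp_pushout_down {T C S₀ C' P : Type u} [CommRing T] [CommRing C] [CommRing S₀] [CommRing C'] [Algebra T C]
    [Algebra T S₀] [Algebra T C'] [Algebra C C'] [Algebra S₀ C'] [IsScalarTower T C C'] [IsScalarTower T S₀ C']
    [Algebra.IsPushout T C S₀ C'] [Module.FinitePresentation T S₀] [AddCommGroup P] [Module T P] [Module S₀ P]
    [IsScalarTower T S₀ P] (h : Module.FinitePresentation C' (C' ⊗[S₀] P)) :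
    Module.FinitePresentation C (C ⊗[T] P) := by
  haveI := h
  haveI : Module.FinitePresentation C C' :=
    FinitePresentation.of_isBaseChange (IsScalarTower.toAlgHom T S₀ C').toLinearMap Algebra.IsPushout.out
  haveI : Module.FinitePresentation C (C' ⊗[S₀] P) := Module.FinitePresentation.trans (R := C) (M := C' ⊗[S₀] P) C'
  exact Module.FinitePresentation.of_equiv (R := C) (Algebra.IsPushout.cancelBaseChange T C S₀ C' P)

/-- finite presentation over the base gives it over a finite algebra, after base change -/
theorem fp_pushout_up {T C S₀ C' P : Type u} [CommRing T] [CommRing C] [CommRing S₀] [CommRing C'] [Algebra T C]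
    [Algebra T S₀] [Algebra T C'] [Algebra C C'] [Algebra S₀ C'] [IsScalarTower T C C'] [IsScalarTower T S₀ C']
    [Algebra.IsPushout T C S₀ C'] [Module.Finite T S₀] [AddCommGroup P] [Module T P] [Module S₀ P]
    [IsScalarTower T S₀ P] (h : Module.FinitePresentation C (C ⊗[T] P)) :
    Module.FinitePresentation C' (C' ⊗[S₀] P) := by
  haveI := h
  haveI : Module.Finite C C' := Module.Finite.equiv (IsBaseChange.equiv
    (Algebra.IsPushout.out (R := T) (S := C) (R' := S₀) (S' := C')))
  haveI : Module.FinitePresentation C (C' ⊗[S₀] P) :=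
    Module.FinitePresentation.of_equiv (R := C) (Algebra.IsPushout.cancelBaseChange T C S₀ C' P).symm
  exact fp_restrict (T := C) (C' ⊗[S₀] P)

/-- quasi-finite at every point of the fibre over `p` when the fibre is finite over the coordinates -/
theorem quasiFiniteAt_fibre {R A S : Type u} [CommRing R] [CommRing A] [CommRing S] [Algebra R A] [Algebra R S]
    [Algebra A S] [IsScalarTower R A S] [Algebra.FiniteType R S] (p : Ideal R) [p.IsPrime] (t : Ideal A) [t.IsPrime]
    (ht : t.comap (algebraMap R A) = p) (q : Ideal S) [q.IsPrime] [q.LiesOver t] {s : ℕ} (y : Fin s → A)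
    (hfin : (MvPolynomial.aeval fun i => (1 : p.ResidueField) ⊗ₜ[R] algebraMap A S (y i) :
      MvPolynomial (Fin s) p.ResidueField →ₐ[p.ResidueField] p.Fiber S).Finite) :
    Algebra.QuasiFiniteAt A q := by
  let k := p.ResidueField
  let Ft := t.Fiber S
  let ι : k →ₐ[R] t.ResidueField := Ideal.ResidueField.mapₐ p t (Algebra.ofId R A) ht.symm
  let G : p.Fiber S →ₐ[R] Ft := Algebra.TensorProduct.lift ((IsScalarTower.toAlgHom R t.ResidueField Ft).comp ι)
    ((Algebra.TensorProduct.includeRight : S →ₐ[A] Ft).restrictScalars R) fun _ _ => Commute.all _ _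
  haveI : Algebra.FiniteType A S := Algebra.FiniteType.of_restrictScalars_finiteType R A S
  let ev : MvPolynomial (Fin s) k →+* t.ResidueField :=
    MvPolynomial.eval₂Hom ι.toRingHom fun i => algebraMap A t.ResidueField (y i)
  have hev : (algebraMap t.ResidueField Ft).comp ev =
      G.toRingHom.comp (MvPolynomial.aeval fun i => (1 : k) ⊗ₜ[R] algebraMap A S (y i)).toRingHom := by
    refine MvPolynomial.ringHom_ext (fun a => ?_) fun i => ?_
    · change algebraMap t.ResidueField Ft (ev (MvPolynomial.C a)) = G (MvPolynomial.aeval _ (MvPolynomial.C a))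
      simp [ev, G, Algebra.TensorProduct.algebraMap_apply]
      rfl
    · change algebraMap t.ResidueField Ft (ev (MvPolynomial.X i)) = G (MvPolynomial.aeval _ (MvPolynomial.X i))
      rw [MvPolynomial.eval₂Hom_X', MvPolynomial.aeval_X, Algebra.TensorProduct.lift_tmul, map_one, one_mul,
        AlgHom.restrictScalars_apply, ← IsScalarTower.algebraMap_apply A t.ResidueField Ft]
      exact ((Algebra.TensorProduct.includeRight : S →ₐ[A] Ft).commutes (y i)).symm
  haveI : Algebra.IsIntegral t.ResidueField Ft := ⟨fun z => by
    induction z using TensorProduct.induction_on with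
    | zero => exact isIntegral_zero
    | add a b ha hb => exact ha.add hb
    | tmul a x =>
      have h1 : G ((1 : k) ⊗ₜ x) = (1 : t.ResidueField) ⊗ₜ[A] x := by simp [G]; rfl
      rw [show a ⊗ₜ[A] x = algebraMap t.ResidueField Ft a * ((1 : t.ResidueField) ⊗ₜ[A] x) by
        rw [Algebra.TensorProduct.algebraMap_apply, Algebra.TensorProduct.tmul_mul_tmul, one_mul, Algebra.algebraMap_self,
          RingHom.id_apply, mul_one], ← h1]
      refine isIntegral_algebraMap.mul ?_
      exact (RingHom.Finite.to_isIntegral hfin ((1 : k) ⊗ₜ x)).elim fun f ⟨hf, hf0⟩ =>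
        ⟨f.map ev, hf.map _, by
          rw [Polynomial.eval₂_map, hev]
          exact (Polynomial.hom_eval₂ f _ G.toRingHom ((1 : k) ⊗ₜ x)).symm.trans ((congrArg G hf0).trans (map_zero G))⟩⟩
  haveI : Module.Finite t.ResidueField Ft := Algebra.IsIntegral.finite
  obtain ⟨Q, hQ⟩ := (PrimeSpectrum.preimageEquivFiber A S ⟨t, ‹_›⟩).symm.surjective
    ⟨⟨q, ‹_›⟩, PrimeSpectrum.ext (q.over_def t).symm⟩
  exact Algebra.QuasiFiniteAt.of_quasiFiniteAt_residueField t q Q.asIdeal (congrArg (fun x => x.1.asIdeal) hQ)

end Groth.Agent.RG.Loc
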