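import Groth.Agent.RG.Loc.Common
import Groth.Agent.Hensel.Local
import Groth.Agent.LocalCrit.UnivInj
import Groth.Agent.LocalCrit.Criterion

/-!
# Finite modules flat at a point over a henselian local ring: sections and structure
-/

set_option autoImplicit false
set_option linter.style.haveILetI false
set_option backward.isDefEq.respectTransparency false

universe u

open TensorProduct IsLocalRing

namespace Groth.Agent.RG.Loc

/-- an elementary étale neighbourhood of the closed point of a henselian local ring has a section -/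
theorem exists_section_nhd {R R' : Type u} [CommRing R] [HenselianLocalRing R] [CommRing R'] [Algebra R R']
    {p' : Ideal R'} [p'.IsPrime] (hn : FlatCA.IsEtaleNhd R R' (maximalIdeal R) p') :
    ∃ φ : R' →ₐ[R] R, (maximalIdeal R).comap φ.toRingHom = p' := by
  haveI := hn.1
  obtain ⟨-, hl, hbij⟩ := id hn
  let κ := (maximalIdeal R).ResidueField
  let π : R →ₐ[R] κ := IsScalarTower.toAlgHom R R κ
  have hπ : Function.Surjective π := fun x => by
    obtain ⟨y, rfl⟩ := (Ideal.bijective_algebraMap_quotient_residueField (maximalIdeal R)).2 x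
    obtain ⟨r, rfl⟩ := Ideal.Quotient.mk_surjective y
    exact ⟨r, rfl⟩
  have hker : RingHom.ker π.toRingHom = maximalIdeal R := by
    ext r
    rw [RingHom.mem_ker]
    exact Ideal.algebraMap_residueField_eq_zero
  haveI : HenselianRing R (RingHom.ker π.toRingHom) := by rw [hker]; infer_instance
  let e : κ ≃ₐ[R] p'.ResidueField := AlgEquiv.ofBijective _ hbij
  let σ : R' →ₐ[R] κ := e.symm.toAlgHom.comp (IsScalarTower.toAlgHom R R' p'.ResidueField)
  obtain ⟨φ, hφ, -⟩ := Groth.Agent.Hensel.existsUnique_algHom_of_quotient π hπ inferInstance σ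
  refine ⟨φ, ?_⟩
  ext x
  have h1 : π (φ x) = σ x := AlgHom.congr_fun hφ x
  rw [Ideal.mem_comap, ← hker, RingHom.mem_ker]
  change π (φ x) = 0 ↔ _
  rw [h1]
  change e.symm (algebraMap R' p'.ResidueField x) = 0 ↔ _
  rw [map_eq_zero_iff e.symm e.symm.injective]
  exact Ideal.algebraMap_residueField_eq_zero

attribute [local instance] Algebra.TensorProduct.rightAlgebra in
/-- over a henselian local ring the projective piece is a basic open -/
theorem exists_projective_away {R T : Type u} [CommRing R] [HenselianLocalRing R] [CommRing T] [Algebra R T]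
    [Algebra.FinitePresentation R T] (P : Ideal T) [P.IsPrime] (hP : P.comap (algebraMap R T) = maximalIdeal R)
    (N : Type u) [AddCommGroup N] [Module T N] [Module R N] [IsScalarTower R T N] [Module.FinitePresentation T N]
    (hflat : Module.Flat R (LocalizedModule P.primeCompl N)) :
    ∃ g : T, g ∉ P ∧ Module.Projective R (Localization.Away g ⊗[T] N) := by
  obtain ⟨R', _, _, p', _, hn, h, q', hq', hq'p, hq'q, hh, hproj⟩ := projPiece_of_flat (maximalIdeal R) P hP N hflat
  haveI := hq'
  obtain ⟨φ, hφ⟩ := exists_section_nhd hn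
  obtain ⟨c, y, hc, hcy⟩ := exists_approx hn h
  have hy : y ∉ P := fun hy => hh ((mem_iff_of_nhd hn hq'p hc hcy).2 (by rw [hq'q]; exact hy))
  have hcov : Covers R R' T p' N y := ⟨h, hproj, fun Q hQ hQp hy' hm => hy' (by
    haveI := hQ
    exact (mem_iff_of_nhd hn hQp hc hcy).1 hm)⟩
  letI : Algebra R' R := φ.toRingHom.toAlgebra
  haveI : IsScalarTower R R' R := IsScalarTower.of_algebraMap_eq fun r => (φ.commutes r).symm
  obtain ⟨h₂, hproj₂, hh₂⟩ := hcov.baseChange (R₂ := R) (p₂ := maximalIdeal R) hφ
  let e : R ⊗[R] T ≃ₐ[R] T := Algebra.TensorProduct.lid R T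
  let C := Localization.Away h₂
  have he : ∀ t : T, e ((1 : R) ⊗ₜ t) = t := fun t => by simp [e]
  have hesymm : algebraMap T C = (algebraMap (R ⊗[R] T) C).comp e.symm.toRingEquiv.toRingHom := by
    refine RingHom.ext fun t => ?_
    rw [IsScalarTower.algebraMap_apply T (R ⊗[R] T) C]
    exact congrArg (algebraMap (R ⊗[R] T) C) ((e.symm_apply_eq).2 (he t).symm).symm
  haveI : IsLocalization.Away (e h₂) C := by
    have h1 := IsLocalization.isLocalization_of_base_ringEquiv (Submonoid.powers h₂) C e.toRingEquiv
    rw [Submonoid.map_powers] at h1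
    convert h1 using 1
    all_goals first | rfl | exact Algebra.algebra_ext _ _ (RingHom.congr_fun hesymm)
  refine ⟨e h₂, fun hm => hh₂ (P.comap e.toRingEquiv.toRingHom) (Ideal.IsPrime.comap _) ?_ ?_ hm, ?_⟩
  · rw [← hP, Ideal.comap_comap]
    congr 1
    exact e.toAlgHom.comp_algebraMap
  · intro h'
    exact hy (by
      have : e ((1 : R) ⊗ₜ y) ∈ P := h'
      rwa [he] at this)
  · haveI := hproj₂
    let ψ : C ≃ₐ[T] Localization.Away (e h₂) := IsLocalization.algEquiv (Submonoid.powers (e h₂)) C _
    haveI : IsScalarTower R T C := IsScalarTower.of_algebraMap_eq fun r => by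
      rw [IsScalarTower.algebraMap_apply R (R ⊗[R] T) C, hesymm]
      exact congrArg (algebraMap (R ⊗[R] T) C) (e.symm.commutes r).symm
    exact Module.Projective.of_equiv ((AlgebraTensorModule.congr (ψ.toLinearEquiv) (LinearEquiv.refl T N)).restrictScalars R)

/-- structure near `t` of a finite module flat at `t`, over a local base -/
theorem exists_structure_local {R T : Type u} [CommRing R] [IsLocalRing R] [CommRing T] [Algebra R T]
    [Module.Projective R T] (η t : Ideal T) [η.IsPrime] [t.IsPrime] (hηt : η ≤ t)
    (hη : ∀ x ∈ η, x ∈ (maximalIdeal R).map (algebraMap R T)) (hηm : (maximalIdeal R).map (algebraMap R T) ≤ η)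
    (M : Type u) [AddCommGroup M] [Module T M] [Module R M] [IsScalarTower R T M] [Module.Finite T M]
    (hflat : Module.Flat R (LocalizedModule t.primeCompl M)) :
    ∃ (r : ℕ) (α : (Fin r → T) →ₗ[T] M) (a : T), a ∉ η ∧ (∀ m, a • m ∈ LinearMap.range α) ∧ Function.Injective α ∧
      Module.Flat R (LocalizedModule t.primeCompl (M ⧸ LinearMap.range α)) := by
  classical
  let κ := η.ResidueField
  let j : M →ₗ[T] κ ⊗[T] M := TensorProduct.mk T κ M 1
  have hspan : Submodule.span κ (Set.range j) = ⊤ := by
    refine top_le_iff.1 fun z _ => ?_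
    induction z using TensorProduct.induction_on with
    | zero => exact zero_mem _
    | tmul c m =>
      rw [show c ⊗ₜ[T] m = c • j m by simp [j, smul_tmul']]
      exact Submodule.smul_mem _ _ (Submodule.subset_span ⟨m, rfl⟩)
    | add a b ha hb => exact add_mem (ha trivial) (hb trivial)
  obtain ⟨b, hb, hbspan, hbind⟩ := exists_linearIndependent κ (Set.range j)
  haveI : Finite b := hbind.finite
  haveI := Fintype.ofFinite b
  let e := Fintype.equivFin b
  choose m hm using fun i : Fin (Fintype.card b) => hb (e.symm i).2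
  let α := Fintype.linearCombination T m
  have hind : LinearIndependent κ fun i => j (m i) := by
    rw [show (fun i => j (m i)) = (fun i => ((e.symm i : b) : κ ⊗[T] M)) from funext hm]
    exact hbind.comp _ e.symm.injective
  have hjα : ∀ v, j (α v) = ∑ i, algebraMap T κ (v i) • j (m i) := fun v => by
    simp [α, Fintype.linearCombination_apply, algebraMap_smul]
  let Mt := LocalizedModule t.primeCompl M
  let ι : M →ₗ[T] Mt := LocalizedModule.mkLinearMap t.primeCompl M
  have hunit : ∀ u : t.primeCompl, IsUnit ((algebraMap T (Module.End T (κ ⊗[T] M))) u) := by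
    intro u
    rw [Module.End.isUnit_iff]
    have hu : algebraMap T κ u ≠ 0 := fun h => u.2 (hηt (Ideal.algebraMap_residueField_eq_zero.1 h))
    have := (LinearEquiv.smulOfNeZero κ (κ ⊗[T] M) _ hu).bijective
    convert this using 1
    funext z
    exact (algebraMap_smul κ (u : T) z).symm
  let jt : Mt →ₗ[T] κ ⊗[T] M := IsLocalizedModule.lift t.primeCompl ι j hunit
  have hjt : ∀ x, jt (ι x) = j x := fun x => IsLocalizedModule.lift_apply _ _ _ hunit x
  haveI : Module.Projective R (Fin (Fintype.card b) → T) :=
    Module.Projective.of_equiv (TensorProduct.piScalarRight R R T (Fin (Fintype.card b)))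
  let αt : (Fin (Fintype.card b) → T) →ₗ[R] Mt := (ι.comp α).restrictScalars R
  have hres : Function.Injective (αt.lTensor (IsLocalRing.ResidueField R)) := by
    refine (Groth.Agent.LocalCrit.quot_lTensor_injective_iff (maximalIdeal R) αt).2 fun v hv => ?_
    have hker : ∀ y ∈ maximalIdeal R • (⊤ : Submodule R Mt), jt y = 0 := fun y hy => by
      refine Submodule.smul_induction_on hy (fun a ha y _ => ?_) fun a b ha hb => by rw [map_add, ha, hb, add_zero]
      rw [← algebraMap_smul T a y, map_smul, ← algebraMap_smul κ (algebraMap R T a),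
        Ideal.algebraMap_residueField_eq_zero.2 (hηm (Ideal.mem_map_of_mem _ ha)), zero_smul]
    have hjv : j (α v) = 0 := (hjt (α v)).symm.trans (hker _ hv)
    rw [hjα] at hjv
    rw [← Finset.univ_sum_single v]
    refine Submodule.sum_mem _ fun i _ => ?_
    have h2 : v i ∈ maximalIdeal R • (⊤ : Submodule R T) := by
      rw [Ideal.smul_top_eq_map, Submodule.restrictScalars_mem]
      exact hη _ (Ideal.algebraMap_residueField_eq_zero.1 (Fintype.linearIndependent_iff.1 hind _ hjv i))
    have h3 := Submodule.mem_map_of_mem (f := LinearMap.single R (fun _ : Fin (Fintype.card b) => T) i) h2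
    rw [Submodule.map_smul''] at h3
    exact Submodule.smul_mono le_rfl le_top h3
  haveI := hflat
  have huniv : ∀ (Q : Type u) [AddCommGroup Q] [Module R Q], Function.Injective (αt.rTensor Q) :=
    fun Q _ _ => Groth.Agent.LocalCrit.rTensor_injective_of_residue αt hres Q
  have hinj : Function.Injective α := by
    have hαt : Function.Injective αt := fun a b hab => by
      have h1 : αt.rTensor R (a ⊗ₜ[R] (1 : R)) = αt.rTensor R (b ⊗ₜ[R] (1 : R)) := by simp [hab]
      simpa using congrArg (TensorProduct.rid R _) (huniv R h1)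
    exact fun a b hab => hαt (congrArg ι hab)
  let P := M ⧸ LinearMap.range α
  have hPflat : Module.Flat R (LocalizedModule t.primeCompl P) := by
    let Ft := LocalizedModule t.primeCompl (Fin (Fintype.card b) → T)
    let ιF : (Fin (Fintype.card b) → T) →ₗ[T] Ft := LocalizedModule.mkLinearMap t.primeCompl _
    let A : Ft →ₗ[T] Mt := (LocalizedModule.map t.primeCompl α).restrictScalars T
    let B : Mt →ₗ[T] LocalizedModule t.primeCompl P :=
      (LocalizedModule.map t.primeCompl (LinearMap.range α).mkQ).restrictScalars T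
    have hA : ∀ v, A (ιF v) = ι (α v) := fun v => by
      change LocalizedModule.map t.primeCompl α (LocalizedModule.mk v 1) = LocalizedModule.mk (α v) 1
      rw [RG.lmap_mk]
    have hAuniv : ∀ (Q : Type u) [AddCommGroup Q] [Module R Q], Function.Injective ((A.restrictScalars R).rTensor Q) := by
      intro Q _ _
      rw [injective_iff_map_eq_zero]
      intro z hz
      obtain ⟨⟨w, u⟩, hw⟩ := IsLocalizedModule.surj t.primeCompl (AlgebraTensorModule.rTensor R Q ιF) z
      have h1 : αt.rTensor Q w = 0 := by
        have h2 : AlgebraTensorModule.rTensor R Q A ((u : T) • z) = 0 := by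
          rw [map_smul]
          change (u : T) • (A.restrictScalars R).rTensor Q z = 0
          rw [hz, smul_zero]
        rw [show (u : T) • z = AlgebraTensorModule.rTensor R Q ιF w from hw] at h2
        refine Eq.trans ?_ h2
        clear hw h2
        induction w using TensorProduct.induction_on with
        | zero => simp
        | tmul v c => simp [αt, hA]
        | add a b ha hb => rw [map_add, map_add, map_add, ha, hb]
      have h3 : w = 0 := huniv Q (h1.trans (map_zero _).symm)
      rw [h3, map_zero] at hw
      exact IsLocalizedModule.smul_injective (AlgebraTensorModule.rTensor R Q ιF) u (hw.trans (smul_zero u).symm)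
    have hAinj : Function.Injective A := LocalizedModule.map_injective t.primeCompl α hinj
    refine Groth.Agent.LocalCrit.flat_of_exact (A.restrictScalars R) hAinj (B.restrictScalars R)
      (LocalizedModule.map_surjective t.primeCompl _ (Submodule.mkQ_surjective _))
      (LocalizedModule.map_exact t.primeCompl α _ (LinearMap.exact_map_mkQ_range α)) fun J _ => ?_
    refine (Groth.Agent.LocalCrit.quot_lTensor_injective_iff J (A.restrictScalars R)).1 ?_
    exact (LinearMap.lTensor_inj_iff_rTensor_inj _ _).2 (hAuniv _)
  have hP : (⟨η, ‹_›⟩ : PrimeSpectrum T) ∉ Module.support T P := by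
    rw [Module.mem_support_iff_nontrivial_residueField_tensorProduct, not_nontrivial_iff_subsingleton]
    refine subsingleton_of_forall_eq 0 fun z => ?_
    let q : κ ⊗[T] M →ₗ[κ] κ ⊗[T] P := (LinearMap.range α).mkQ.baseChange κ
    obtain ⟨z, rfl⟩ := LinearMap.lTensor_surjective κ (Submodule.mkQ_surjective (LinearMap.range α)) z
    change q z = 0
    have hz : z ∈ LinearMap.ker q := by
      suffices hle : Submodule.span κ (Set.range j) ≤ LinearMap.ker q by
        exact hle (hspan ▸ trivial)
      rw [← hbspan, Submodule.span_le]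
      intro y hy
      obtain ⟨i, rfl⟩ : ∃ i, y = j (m i) := ⟨e ⟨y, hy⟩, by rw [hm, Equiv.symm_apply_apply]⟩
      change q ((1 : κ) ⊗ₜ[T] m i) = 0
      rw [LinearMap.baseChange_tmul, Submodule.mkQ_apply,
        (Submodule.Quotient.mk_eq_zero _).2 (LinearMap.mem_range.2 ⟨Pi.single i 1, by simp [α]⟩), tmul_zero]
    exact hz
  rw [Module.support_eq_zeroLocus, PrimeSpectrum.mem_zeroLocus, Set.not_subset] at hP
  obtain ⟨a, ha, haη⟩ := hP
  refine ⟨_, α, a, haη, fun x => ?_, hinj, hPflat⟩
  have := Module.mem_annihilator.1 ha (Submodule.Quotient.mk x)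
  rwa [← Submodule.Quotient.mk_smul, Submodule.Quotient.mk_eq_zero] at this

end Groth.Agent.RG.Loc
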