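import Groth.Agent.RG.Loc.Open

/-!
# Elements regular in a fibre: associated points, generisation and spreading
-/

set_option autoImplicit false
set_option linter.style.haveILetI false
set_option backward.isDefEq.respectTransparency false

universe u

open TensorProduct

namespace Groth.Agent.RG.Loc

variable {R S N : Type u} [CommRing R] [CommRing S] [Algebra R S] [AddCommGroup N] [Module S N] [Module R N]
  [IsScalarTower R S N]

theorem injective_act_iff [IsNoetherianRing S] (p : Ideal R) [p.IsPrime] (g : S) :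
    Function.Injective (Pure.act R p.ResidueField (N := N) g) ↔ ∀ σ ∈ assPts R S N p, g ∉ σ := by
  refine ⟨fun h σ hσ hg => ?_, fun h => ?_⟩
  · obtain ⟨hprime, -⟩ := isPrime_of_mem_assPts R S N hσ
    obtain ⟨y, hy⟩ := Pure.assAt_of_mem_assPts hσ
    obtain ⟨k, hk⟩ := (hy g).1 hg
    have hone : ∀ z, Pure.act R p.ResidueField (N := N) (1 : S) z = z := fun z => by
      induction z using TensorProduct.induction_on with
      | zero => simp
      | tmul a n => rw [Pure.act_tmul, one_smul]
      | add a b ha hb => rw [map_add, ha, hb]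
    have hy0 : y = 0 := by
      clear hy
      induction k generalizing y with
      | zero => rwa [pow_zero, hone] at hk
      | succ k ih =>
        refine h ?_
        rw [map_zero, ih (Pure.act R p.ResidueField g y) (by rwa [← Pure.act_mul, ← pow_succ])]
    exact hprime.ne_top ((Ideal.eq_top_iff_one σ).2 ((hy 1).2 ⟨0, by rw [hy0, map_zero]⟩))
  · rw [injective_iff_map_eq_zero]
    intro y₀ hy₀
    by_contra hne
    let κ := p.ResidueField
    let ann : (κ ⊗[R] N) → Ideal S := fun y =>
      { carrier := {s | Pure.act R κ s y = 0}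
        add_mem' := fun {a b} ha hb => by
          rw [Set.mem_ofPred_eq] at ha hb ⊢
          rw [Pure.act_add, ha, hb, add_zero]
        zero_mem' := by
          have := Pure.act_algebraMap (S := S) (N := N) κ (0 : R) y
          simpa using this
        smul_mem' := fun c a ha => by
          rw [Set.mem_ofPred_eq] at ha ⊢
          rw [smul_eq_mul, Pure.act_mul, ha, map_zero] }
    obtain ⟨I, ⟨y, hy, hgy, rfl⟩, hmax⟩ := WellFounded.has_min (wellFounded_gt (α := Ideal S))
      {I : Ideal S | ∃ y, y ≠ 0 ∧ g ∈ ann y ∧ I = ann y} ⟨_, y₀, hne, hy₀, rfl⟩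
    have hprime : (ann y).IsPrime := by
      refine ⟨fun htop => hy ?_, fun {a b} hab => ?_⟩
      · have h1 : Pure.act R κ (1 : S) y = 0 := (Ideal.eq_top_iff_one _).1 htop
        rwa [← map_one (algebraMap R S), Pure.act_algebraMap, map_one, one_smul] at h1
      · by_contra hcon
        push Not at hcon
        obtain ⟨ha, hb⟩ := hcon
        have hle : ann y ≤ ann (Pure.act R κ b y) := fun s hs => by
          change Pure.act R κ s (Pure.act R κ b y) = 0
          rw [← Pure.act_mul, mul_comm, Pure.act_mul, show Pure.act R κ s y = 0 from hs, map_zero]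
        refine hmax _ ⟨_, hb, hle hgy, rfl⟩ (lt_of_le_of_ne hle fun he => ha ?_)
        rw [he]
        change Pure.act R κ a (Pure.act R κ b y) = 0
        rw [← Pure.act_mul]
        exact hab
    refine h (ann y) (Pure.mem_assPts_of_assAt (K := κ) hprime ⟨y, fun s => ⟨fun hs => ⟨1, by rwa [pow_one]⟩,
      fun ⟨k, hk⟩ => hprime.mem_of_pow_mem k hk⟩⟩) hgy

omit [IsScalarTower R S N] in
/-- an endomorphism of a projective module injective in a fibre is injective in the fibres at generisations -/
theorem injective_lTensor_generisation {M : Type u} [AddCommGroup M] [Module R M] [Module.Projective R M]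
    (v : M →ₗ[R] M) (p t : Ideal R) [p.IsPrime] [t.IsPrime] (hle : t ≤ p)
    (h : Function.Injective (v.lTensor p.ResidueField)) : Function.Injective (v.lTensor t.ResidueField) := by
  classical
  obtain ⟨j, hj⟩ := Module.projective_def'.1 (inferInstance : Module.Projective R M)
  let π : (M →₀ R) →ₗ[R] M := Finsupp.linearCombination R (id : M → M)
  let v' : (M →₀ R) →ₗ[R] (M →₀ R) := j ∘ₗ v ∘ₗ π + (LinearMap.id - j ∘ₗ π)
  have hπj : π ∘ₗ j = LinearMap.id := hj
  have hv'p : Function.Injective (v'.lTensor p.ResidueField) := by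
    rw [injective_iff_map_eq_zero]
    intro z hz
    have h1 : π ∘ₗ v' = v ∘ₗ π := by
      ext w
      simp [v', ← LinearMap.comp_apply π j, hπj]
    have h2 : v.lTensor p.ResidueField (π.lTensor p.ResidueField z) = 0 := by
      rw [← LinearMap.lTensor_comp_apply, ← h1, LinearMap.lTensor_comp_apply, hz, map_zero]
    have h3 : π.lTensor p.ResidueField z = 0 := h (h2.trans (map_zero _).symm)
    have h4 : (j ∘ₗ π).lTensor p.ResidueField z = 0 := by rw [LinearMap.lTensor_comp_apply, h3, map_zero]
    have h5 : (j ∘ₗ v ∘ₗ π).lTensor p.ResidueField z = 0 := by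
      rw [LinearMap.lTensor_comp_apply, LinearMap.lTensor_comp_apply, h3, map_zero, map_zero]
    rw [show v' = j ∘ₗ v ∘ₗ π + (LinearMap.id - j ∘ₗ π) from rfl, LinearMap.lTensor_add, LinearMap.add_apply,
      LinearMap.lTensor_sub, LinearMap.sub_apply, h4, h5, LinearMap.lTensor_id, LinearMap.id_apply, zero_add,
      sub_zero] at hz
    exact hz
  have hv't : Function.Injective (v'.lTensor t.ResidueField) := by
    rw [injective_iff_map_eq_zero]
    intro z hz
    obtain ⟨T, hT⟩ := TensorProduct.exists_finset z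
    let U : Finset M := T.biUnion fun x => x.2.support
    let e := U.equivFin
    let ε : (Fin U.card → R) →ₗ[R] (M →₀ R) :=
      Fintype.linearCombination R fun i => Finsupp.single (e.symm i).1 (1 : R)
    let ρ : (M →₀ R) →ₗ[R] (Fin U.card → R) := LinearMap.pi fun i => Finsupp.lapply (e.symm i).1
    have hρε : ρ ∘ₗ ε = LinearMap.id := by
      refine LinearMap.pi_ext fun i c => funext fun k => ?_
      simp only [ρ, ε, LinearMap.comp_apply, LinearMap.pi_apply, Fintype.linearCombination_apply_single,
        Finsupp.lapply_apply, LinearMap.id_apply]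
      by_cases hik : i = k
      · subst hik; simp
      · simp [Pi.single_eq_of_ne' hik, Subtype.ext_iff.not.1 fun he => hik (e.symm.injective he)]
    have hεinj : ∀ (K : Type u) [AddCommGroup K] [Module R K], Function.Injective (ε.lTensor K) := fun K _ _ =>
      Function.LeftInverse.injective (g := ρ.lTensor K) fun z => by
        rw [← LinearMap.lTensor_comp_apply, hρε, LinearMap.lTensor_id, LinearMap.id_apply]
    have hmem : ∀ x ∈ T, ∃ c, ε c = x.2 := fun x hx => by
      refine ⟨ρ x.2, ?_⟩
      simp only [ε, ρ, Fintype.linearCombination_apply, LinearMap.pi_apply, Finsupp.lapply_apply]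
      refine Eq.trans ?_ (Finsupp.sum_single x.2)
      rw [Finsupp.sum_of_support_subset _ (Finset.subset_biUnion_of_mem (fun x : _ × (M →₀ R) => x.2.support) hx) _
        (fun _ _ => Finsupp.single_zero _)]
      rw [Fintype.sum_equiv e.symm (fun i => x.2 (e.symm i).1 • Finsupp.single (e.symm i).1 (1 : R))
        (fun m : U => x.2 m.1 • Finsupp.single m.1 (1 : R)) (fun i => rfl)]
      rw [Finset.sum_coe_sort U fun m => x.2 m • Finsupp.single m (1 : R)]
      simp [U]
    choose c hc using hmem
    let z' : t.ResidueField ⊗[R] (Fin U.card → R) := ∑ x : T, x.1.1 ⊗ₜ c x.1 x.2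
    have hz' : ε.lTensor t.ResidueField z' = z := by
      rw [hT, map_sum, ← Finset.sum_coe_sort T fun x => x.1 ⊗ₜ[R] x.2]
      exact Finset.sum_congr rfl fun x _ => by rw [LinearMap.lTensor_tmul, hc]
    have hu : Function.Injective ((v' ∘ₗ ε).lTensor p.ResidueField) := by
      rw [LinearMap.lTensor_comp, LinearMap.coe_comp]
      exact hv'p.comp (hεinj _)
    obtain ⟨φ, hφ⟩ := (Pure.injective_lTensor_iff_det (v' ∘ₗ ε) p).1 hu
    have hu' := (Pure.injective_lTensor_iff_det (v' ∘ₗ ε) t).2 ⟨φ, fun h0 => hφ (hle h0)⟩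
    have h0 : z' = 0 := hu' (by rw [LinearMap.lTensor_comp_apply, hz', hz, map_zero])
    rw [← hz', h0, map_zero]
  have hcomm : v' ∘ₗ j = j ∘ₗ v := by
    ext w
    simp [v', ← LinearMap.comp_apply π j, hπj]
  refine Function.Injective.of_comp (f := j.lTensor t.ResidueField) ?_
  rw [← LinearMap.coe_comp, ← LinearMap.lTensor_comp, ← hcomm, LinearMap.lTensor_comp, LinearMap.coe_comp]
  exact hv't.comp (Function.LeftInverse.injective (g := π.lTensor t.ResidueField) fun z => by
    rw [← LinearMap.lTensor_comp_apply, hπj, LinearMap.lTensor_id, LinearMap.id_apply])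

omit [IsScalarTower R S N] in
theorem injective_lTensor_of_projective_coker {L X Y : Type u} [CommRing L] [AddCommGroup X] [Module L X]
    [AddCommGroup Y] [Module L Y] [Module.Projective L Y] (v : X →ₗ[L] X) (π : X →ₗ[L] Y) (hv : Function.Injective v)
    (hex : Function.Exact v π) (hπ : Function.Surjective π) (K : Type u) [AddCommGroup K] [Module L K] :
    Function.Injective (v.lTensor K) := by
  obtain ⟨s, hs⟩ := Module.projective_lifting_property π LinearMap.id hπ
  have hmem : ∀ x, x - s (π x) ∈ LinearMap.range v := fun x => by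
    refine (hex _).1 ?_
    rw [map_sub, ← LinearMap.comp_apply π s, hs, LinearMap.id_apply, sub_self]
  let e := LinearEquiv.ofInjective v hv
  let l : X →ₗ[L] X := e.symm.toLinearMap ∘ₗ (LinearMap.id - s ∘ₗ π).codRestrict (LinearMap.range v) hmem
  have hl : l ∘ₗ v = LinearMap.id := LinearMap.ext fun x => by
    refine e.injective (Subtype.ext ?_)
    simp only [l, e, LinearMap.comp_apply, LinearEquiv.coe_coe, LinearEquiv.apply_symm_apply, LinearMap.id_apply,
      LinearEquiv.ofInjective_apply, LinearMap.codRestrict_apply, LinearMap.sub_apply]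
    rw [show π (v x) = 0 from (hex _).2 ⟨x, rfl⟩, map_zero, sub_zero]
  exact Function.LeftInverse.injective (g := l.lTensor K) fun z => by
    rw [← LinearMap.lTensor_comp_apply, hl, LinearMap.lTensor_id, LinearMap.id_apply]

omit [IsScalarTower R S N] in
theorem exact_baseChange {X Y Z : Type u} [AddCommGroup X] [Module R X] [AddCommGroup Y] [Module R Y] [AddCommGroup Z]
    [Module R Z] (L : Type u) [CommRing L] [Algebra R L] {u : X →ₗ[R] Y} {w : Y →ₗ[R] Z} (h : Function.Exact u w)
    (hw : Function.Surjective w) :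
    Function.Exact (u.baseChange L) (w.baseChange L) ∧ Function.Surjective (w.baseChange L) :=
  ⟨lTensor_exact L h hw, LinearMap.lTensor_surjective L hw⟩

attribute [local instance] Algebra.TensorProduct.rightAlgebra in
/-- regularity in a fibre of a projective module spreads to a neighbourhood -/
theorem exists_nhd_regular [IsNoetherianRing R] [Algebra.FiniteType R S] [Module.Finite S N] [Module.Projective R N]
    (p : Ideal R) [p.IsPrime] (g : S) (h : Function.Injective (Pure.act R p.ResidueField (N := N) g)) :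
    ∃ f ∉ p, ∀ (t : Ideal R) [t.IsPrime], f ∉ t → Function.Injective (Pure.act R t.ResidueField (N := N) g) := by
  classical
  let μ : N →ₗ[R] N := (LinearMap.lsmul S N g).restrictScalars R
  change ∃ f ∉ p, ∀ (t : Ideal R) [t.IsPrime], f ∉ t → Function.Injective (μ.lTensor t.ResidueField)
  have hgen : ∀ (t : Ideal R) [t.IsPrime], t ≤ p → Function.Injective (μ.lTensor t.ResidueField) :=
    fun t _ hle => injective_lTensor_generisation μ p t hle h
  have h1p : (1 : R) ∉ p := fun h => (‹p.IsPrime›).ne_top ((Ideal.eq_top_iff_one p).2 h)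
  suffices key : ∀ J : Ideal R, ∃ f ∉ p, ∀ (t : Ideal R) [t.IsPrime], f ∉ t → J ≤ t →
      Function.Injective (μ.lTensor t.ResidueField) by
    obtain ⟨f, hf, hf'⟩ := key ⊥
    exact ⟨f, hf, fun t _ ht => hf' t ht bot_le⟩
  intro J
  induction J using WellFoundedGT.induction with
  | ind P ih =>
  by_cases htop : P = ⊤
  · exact ⟨1, h1p, fun t ht _ hle => absurd (top_le_iff.1 (htop ▸ hle)) ht.ne_top⟩
  by_cases hP : P.IsPrime
  swap
  · obtain ⟨a, ha, b, hb, hab⟩ := (Ideal.not_isPrime_iff.1 hP).resolve_left htop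
    obtain ⟨g₁, hg₁, h₁⟩ := ih (P ⊔ Ideal.span {a}) (lt_of_le_of_ne le_sup_left fun he => ha (he ▸ Ideal.mem_sup_right (Ideal.mem_span_singleton_self a)))
    obtain ⟨g₂, hg₂, h₂⟩ := ih (P ⊔ Ideal.span {b}) (lt_of_le_of_ne le_sup_left fun he => hb (he ▸ Ideal.mem_sup_right (Ideal.mem_span_singleton_self b)))
    refine ⟨g₁ * g₂, (‹p.IsPrime›).mul_notMem hg₁ hg₂, fun t ht hgt hle => ?_⟩
    rcases ht.mem_or_mem (hle hab) with hx | hx
    · exact h₁ t (fun hm => hgt (t.mul_mem_right _ hm)) (sup_le hle ((Ideal.span_singleton_le_iff_mem t).2 hx))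
    · exact h₂ t (fun hm => hgt (t.mul_mem_left _ hm)) (sup_le hle ((Ideal.span_singleton_le_iff_mem t).2 hx))
  haveI := hP
  by_cases hPp : P ≤ p
  swap
  · obtain ⟨c, hcP, hcp⟩ := SetLike.not_le_iff_exists.1 hPp
    exact ⟨c, hcp, fun t _ hct hle => absurd (hle hcP) hct⟩
  let C := N ⧸ LinearMap.range (LinearMap.lsmul S N g)
  let π₀ : N →ₗ[S] C := (LinearMap.range (LinearMap.lsmul S N g)).mkQ
  let Rb := R ⧸ P
  let Sb := Rb ⊗[R] S
  let Cb := Sb ⊗[S] C
  obtain ⟨f, -, hf0, hfree, -, -, -⟩ :=
    GenFree.generic_freeness_reduced (R := Rb) (S := Sb) (M := Cb) (a := 1) one_ne_zero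
  let L := Localization.Away f
  haveI : Module.Free L (L ⊗[R] C) :=
    haveI := hfree
    Module.Free.of_equiv (((LocalizedModule.equivTensorProduct (Submonoid.powers f) Cb).trans
      (AlgebraTensorModule.congr (LinearEquiv.refl L L) (Algebra.IsPushout.cancelBaseChange R Rb S Sb C))).trans
      (AlgebraTensorModule.cancelBaseChange R Rb L L C))
  obtain ⟨f₀, rfl⟩ := Ideal.Quotient.mk_surjective f
  have hf₀ : f₀ ∉ P := fun h => hf0 (Ideal.Quotient.eq_zero_iff_mem.2 h)
  obtain ⟨g₀, hg₀, h₀⟩ := ih (P ⊔ Ideal.span {f₀})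
    (lt_of_le_of_ne le_sup_left fun he => hf₀ (he ▸ Ideal.mem_sup_right (Ideal.mem_span_singleton_self f₀)))
  refine ⟨g₀, hg₀, fun t ht hgt hle => ?_⟩
  by_cases hft : f₀ ∈ t
  · exact h₀ t hgt (sup_le hle ((Ideal.span_singleton_le_iff_mem t).2 hft))
  -- the fibres over `D(f₀) ∩ V(P)`
  have hmap : ∀ (Q : Ideal R) [Q.IsPrime], P ≤ Q → f₀ ∉ Q →
      ∃ ρ : L →+* Q.ResidueField, ρ.comp (algebraMap R L) = algebraMap R Q.ResidueField := by
    intro Q _ hQ hfQ
    let ρb : Rb →+* Q.ResidueField := Ideal.Quotient.lift P (algebraMap R Q.ResidueField) fun a ha =>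
      Ideal.algebraMap_residueField_eq_zero.2 (hQ ha)
    have hu : IsUnit (ρb (Ideal.Quotient.mk P f₀)) := isUnit_iff_ne_zero.2 fun h0 => hfQ
      (Ideal.algebraMap_residueField_eq_zero.1 (by rwa [Ideal.Quotient.lift_mk] at h0))
    refine ⟨IsLocalization.Away.lift (Ideal.Quotient.mk P f₀) hu, ?_⟩
    ext a
    rw [RingHom.comp_apply, IsScalarTower.algebraMap_apply R Rb L, IsLocalization.Away.lift_eq]
    rfl
  let v := μ.baseChange L
  have h1 : Function.Exact ⇑μ ⇑(π₀.restrictScalars R) := by
    rw [LinearMap.coe_restrictScalars, LinearMap.coe_restrictScalars]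
    exact LinearMap.exact_map_mkQ_range (LinearMap.lsmul S N g)
  have h1' : Function.Surjective ⇑(π₀.restrictScalars R) := by
    rw [LinearMap.coe_restrictScalars]
    exact Submodule.mkQ_surjective _
  obtain ⟨hex, hsurj⟩ := exact_baseChange (R := R) L h1 h1'
  have hvinj : Function.Injective v := by
    obtain ⟨ρ, hρ⟩ := hmap P le_rfl hf₀
    letI : Algebra L P.ResidueField := ρ.toAlgebra
    haveI : IsScalarTower R L P.ResidueField := IsScalarTower.of_algebraMap_eq' hρ.symm
    have hρinj : Function.Injective ρ := by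
      rw [injective_iff_map_eq_zero]
      intro x hx
      obtain ⟨a, s, rfl⟩ := IsLocalization.exists_mk'_eq (Submonoid.powers (Ideal.Quotient.mk P f₀)) x
      obtain ⟨a₀, rfl⟩ := Ideal.Quotient.mk_surjective a
      have h3 := congrArg ρ (IsLocalization.mk'_spec L (Ideal.Quotient.mk P a₀) s)
      rw [map_mul, hx, zero_mul, show algebraMap Rb L (Ideal.Quotient.mk P a₀) = algebraMap R L a₀ from
        (IsScalarTower.algebraMap_apply R Rb L a₀).symm, ← RingHom.comp_apply, hρ] at h3
      rw [Ideal.Quotient.eq_zero_iff_mem.2 (Ideal.algebraMap_residueField_eq_zero.1 h3.symm),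
        IsLocalization.mk'_zero]
    have h2 : Function.Injective ((μ.baseChange L).lTensor P.ResidueField) :=
      (Pure.injective_lTensor_baseChange μ P.ResidueField).2 (hgen P hPp)
    haveI : Module.Flat L (L ⊗[R] N) := inferInstance
    let ι : L ⊗[R] N →ₗ[L] P.ResidueField ⊗[L] (L ⊗[R] N) :=
      (Algebra.linearMap L P.ResidueField).rTensor _ ∘ₗ (TensorProduct.lid L _).symm.toLinearMap
    have hι : Function.Injective ι := by
      simp only [ι, LinearMap.coe_comp, LinearEquiv.coe_coe]
      exact (Module.Flat.rTensor_preserves_injective_linearMap (Algebra.linearMap L P.ResidueField) hρinj).comp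
        (LinearEquiv.injective _)
    intro a b hab
    refine hι (h2 ?_)
    have : ∀ w, (μ.baseChange L).lTensor P.ResidueField (ι w) = ι (v w) := fun w => by simp [ι, v]
    rw [this, this, hab]
  obtain ⟨ρ, hρ⟩ := hmap t hle hft
  letI : Algebra L t.ResidueField := ρ.toAlgebra
  haveI : IsScalarTower R L t.ResidueField := IsScalarTower.of_algebraMap_eq' hρ.symm
  exact (Pure.injective_lTensor_baseChange μ t.ResidueField).1
    (injective_lTensor_of_projective_coker v _ hvinj hex hsurj t.ResidueField)

end Groth.Agent.RG.Loc
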