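import Groth.Agent.RG.Loc.OpenPureA
import Groth.Agent.RG.Loc.Regular

/-!
# The pure locus of a flat finitely presented module is open
-/

set_option autoImplicit false
set_option linter.style.haveILetI false
set_option backward.isDefEq.respectTransparency false

universe u

open TensorProduct

namespace Groth.Agent.RG.Loc

/-- a map with projective cokernel is universally injective as soon as it is injective -/
theorem injective_lTensor_of_projective_coker' {L X Z Y : Type u} [CommRing L] [AddCommGroup X] [Module L X]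
    [AddCommGroup Z] [Module L Z] [AddCommGroup Y] [Module L Y] [Module.Projective L Y] (v : X →ₗ[L] Z) (π : Z →ₗ[L] Y)
    (hv : Function.Injective v) (hex : Function.Exact v π) (hπ : Function.Surjective π) (K : Type u) [AddCommGroup K]
    [Module L K] : Function.Injective (v.lTensor K) := by
  obtain ⟨s, hs⟩ := Module.projective_lifting_property π LinearMap.id hπ
  have hmem : ∀ x, x - s (π x) ∈ LinearMap.range v := fun x => by
    refine (hex _).1 ?_
    rw [map_sub, ← LinearMap.comp_apply π s, hs, LinearMap.id_apply, sub_self]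
  let e := LinearEquiv.ofInjective v hv
  let l : Z →ₗ[L] X := e.symm.toLinearMap ∘ₗ (LinearMap.id - s ∘ₗ π).codRestrict (LinearMap.range v) hmem
  have hl : l ∘ₗ v = LinearMap.id := LinearMap.ext fun x => by
    refine e.injective (Subtype.ext ?_)
    simp only [l, e, LinearMap.comp_apply, LinearEquiv.coe_coe, LinearEquiv.apply_symm_apply, LinearMap.id_apply,
      LinearEquiv.ofInjective_apply, LinearMap.codRestrict_apply, LinearMap.sub_apply]
    rw [show π (v x) = 0 from (hex _).2 ⟨x, rfl⟩, map_zero, sub_zero]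
  exact Function.LeftInverse.injective (g := l.lTensor K) fun z => by
    rw [← LinearMap.lTensor_comp_apply, hl, LinearMap.lTensor_id, LinearMap.id_apply]

theorem exact_baseChange' {R X Y Z : Type u} [CommRing R] [AddCommGroup X] [Module R X] [AddCommGroup Y] [Module R Y]
    [AddCommGroup Z] [Module R Z] (L : Type u) [CommRing L] [Algebra R L] {u : X →ₗ[R] Y} {w : Y →ₗ[R] Z}
    (h : Function.Exact u w) (hw : Function.Surjective w) :
    Function.Exact (u.baseChange L) (w.baseChange L) ∧ Function.Surjective (w.baseChange L) :=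
  ⟨lTensor_exact L h hw, LinearMap.lTensor_surjective L hw⟩

attribute [local instance] Algebra.TensorProduct.rightAlgebra in
/-- injectivity in the fibres at all generisations of `p` spreads to a neighbourhood of `p` -/
theorem exists_nhd_injective {R₁ S₁ M₁ M₂ A : Type u} [CommRing R₁] [IsNoetherianRing R₁] [CommRing S₁]
    [Algebra R₁ S₁] [Algebra.FiniteType R₁ S₁] [AddCommGroup M₁] [Module S₁ M₁] [Module R₁ M₁] [IsScalarTower R₁ S₁ M₁]
    [Module.Finite S₁ M₁] [AddCommGroup M₂] [Module S₁ M₂] [Module R₁ M₂] [IsScalarTower R₁ S₁ M₂] [Module.Finite S₁ M₂]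
    [CommRing A] [Algebra R₁ A] (p : Ideal A) [p.IsPrime] (v : M₁ →ₗ[S₁] M₂)
    (h : ∀ (t : Ideal A) [t.IsPrime], t ≤ p → Function.Injective ((v.restrictScalars R₁).lTensor t.ResidueField)) :
    ∃ g ∉ p, ∀ (t : Ideal A) [t.IsPrime], g ∉ t → Function.Injective ((v.restrictScalars R₁).lTensor t.ResidueField) := by
  classical
  let μ := v.restrictScalars R₁
  have h1p : (1 : A) ∉ p := fun h => (‹p.IsPrime›).ne_top ((Ideal.eq_top_iff_one p).2 h)
  suffices key : ∀ J : Ideal R₁, ∃ g ∉ p, ∀ (t : Ideal A) [t.IsPrime], g ∉ t → J.map (algebraMap R₁ A) ≤ t →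
      Function.Injective (μ.lTensor t.ResidueField) by
    obtain ⟨g, hg, hg'⟩ := key ⊥
    exact ⟨g, hg, fun t _ ht => hg' t ht (by simp)⟩
  intro J
  induction J using WellFoundedGT.induction with
  | ind P ih =>
  by_cases htop : P = ⊤
  · exact ⟨1, h1p, fun t ht _ hle => absurd (top_le_iff.1 (by rwa [htop, Ideal.map_top] at hle)) ht.ne_top⟩
  have hsup : ∀ {t : Ideal A}, P.map (algebraMap R₁ A) ≤ t → ∀ x, algebraMap R₁ A x ∈ t →
      (P ⊔ Ideal.span {x}).map (algebraMap R₁ A) ≤ t := fun {t} hle x hx => by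
    rw [Ideal.map_sup, Ideal.map_span, Set.image_singleton]
    exact sup_le hle ((Ideal.span_singleton_le_iff_mem t).2 hx)
  have hlt : ∀ {x : R₁}, x ∉ P → P < P ⊔ Ideal.span {x} := fun {x} hx =>
    lt_of_le_of_ne le_sup_left fun he => hx (he ▸ Ideal.mem_sup_right (Ideal.mem_span_singleton_self x))
  by_cases hP : P.IsPrime
  swap
  · obtain ⟨a, ha, b, hb, hab⟩ := (Ideal.not_isPrime_iff.1 hP).resolve_left htop
    obtain ⟨g₁, hg₁, h₁⟩ := ih _ (hlt ha)
    obtain ⟨g₂, hg₂, h₂⟩ := ih _ (hlt hb)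
    refine ⟨g₁ * g₂, (‹p.IsPrime›).mul_notMem hg₁ hg₂, fun t ht hgt hle => ?_⟩
    have habt : algebraMap R₁ A (a * b) ∈ t := hle (Ideal.mem_map_of_mem _ hab)
    rw [map_mul] at habt
    rcases ht.mem_or_mem habt with hx | hx
    · exact h₁ t (fun hm => hgt (t.mul_mem_right _ hm)) (hsup hle a hx)
    · exact h₂ t (fun hm => hgt (t.mul_mem_left _ hm)) (hsup hle b hx)
  haveI := hP
  by_cases hw : ∃ (t : Ideal A), t.IsPrime ∧ t ≤ p ∧ t.comap (algebraMap R₁ A) = P
  swap
  · -- no generisation of `p` lies exactly over `P`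
    let M : Submonoid A := Algebra.algebraMapSubmonoid A P.primeCompl ⊔ p.primeCompl
    have hnd : ¬ Disjoint (P.map (algebraMap R₁ A) : Set A) (M : Set A) := fun hdis => by
      obtain ⟨Q, hQ, hle, hdQ⟩ := Ideal.exists_le_prime_disjoint _ _ hdis
      refine hw ⟨Q, hQ, fun x hx => ?_, le_antisymm (fun r hr => ?_) (Ideal.map_le_iff_le_comap.1 hle)⟩
      · by_contra hxp
        exact Set.disjoint_left.1 hdQ hx ((le_sup_right : p.primeCompl ≤ M) hxp)
      · by_contra hrP
        exact Set.disjoint_left.1 hdQ (Ideal.mem_comap.1 hr)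
          ((le_sup_left : Algebra.algebraMapSubmonoid A P.primeCompl ≤ M) ⟨r, hrP, rfl⟩)
    obtain ⟨x, hx, hxM⟩ := Set.not_disjoint_iff.1 hnd
    obtain ⟨_, ⟨d, hd, rfl⟩, c, hc, rfl⟩ := Submonoid.mem_sup.1 hxM
    obtain ⟨g₁, hg₁, h₁⟩ := ih _ (hlt hd)
    refine ⟨g₁ * c, (‹p.IsPrime›).mul_notMem hg₁ hc, fun t ht hgt hle => ?_⟩
    exact h₁ t (fun hm => hgt (t.mul_mem_right _ hm))
      (hsup hle d ((ht.mem_or_mem (hle hx)).resolve_right fun hm => hgt (t.mul_mem_left _ hm)))
  obtain ⟨t₁, _, ht₁, ht₁P⟩ := hw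
  let C := M₂ ⧸ LinearMap.range v
  let π₀ : M₂ →ₗ[S₁] C := (LinearMap.range v).mkQ
  let D := C × M₁
  let Rb := R₁ ⧸ P
  let Sb := Rb ⊗[R₁] S₁
  let Db := Sb ⊗[S₁] D
  obtain ⟨f, -, hf0, hfree, -, -, -⟩ :=
    GenFree.generic_freeness_reduced (R := Rb) (S := Sb) (M := Db) (a := 1) one_ne_zero
  let L := Localization.Away f
  haveI : Module.Free L (L ⊗[R₁] D) :=
    haveI := hfree
    Module.Free.of_equiv (((LocalizedModule.equivTensorProduct (Submonoid.powers f) Db).trans
      (AlgebraTensorModule.congr (LinearEquiv.refl L L) (Algebra.IsPushout.cancelBaseChange R₁ Rb S₁ Sb D))).trans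
      (AlgebraTensorModule.cancelBaseChange R₁ Rb L L D))
  haveI : Module.Projective L (L ⊗[R₁] C) :=
    Module.Projective.of_split ((LinearMap.inl R₁ C M₁).baseChange L) ((LinearMap.fst R₁ C M₁).baseChange L)
      (by rw [← LinearMap.baseChange_comp, LinearMap.fst_comp_inl, LinearMap.baseChange_id])
  haveI : Module.Projective L (L ⊗[R₁] M₁) :=
    Module.Projective.of_split ((LinearMap.inr R₁ C M₁).baseChange L) ((LinearMap.snd R₁ C M₁).baseChange L)
      (by rw [← LinearMap.baseChange_comp, LinearMap.snd_comp_inr, LinearMap.baseChange_id])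
  obtain ⟨f₀, rfl⟩ := Ideal.Quotient.mk_surjective f
  have hf₀ : f₀ ∉ P := fun h => hf0 (Ideal.Quotient.eq_zero_iff_mem.2 h)
  obtain ⟨g₀, hg₀, h₀⟩ := ih _ (hlt hf₀)
  refine ⟨g₀, hg₀, fun t ht hgt hle => ?_⟩
  by_cases hft : algebraMap R₁ A f₀ ∈ t
  · exact h₀ t hgt (hsup hle f₀ hft)
  have hmap : ∀ (Q : Ideal A) [Q.IsPrime], P.map (algebraMap R₁ A) ≤ Q → algebraMap R₁ A f₀ ∉ Q →
      ∃ ρ : L →+* Q.ResidueField, ρ.comp (algebraMap R₁ L) = algebraMap R₁ Q.ResidueField := by
    intro Q _ hQ hfQ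
    let ρb : Rb →+* Q.ResidueField := Ideal.Quotient.lift P (algebraMap R₁ Q.ResidueField) fun a ha => by
      rw [IsScalarTower.algebraMap_apply R₁ A Q.ResidueField]
      exact Ideal.algebraMap_residueField_eq_zero.2 (hQ (Ideal.mem_map_of_mem _ ha))
    have hu : IsUnit (ρb (Ideal.Quotient.mk P f₀)) := isUnit_iff_ne_zero.2 fun h0 => hfQ (by
      rw [Ideal.Quotient.lift_mk, IsScalarTower.algebraMap_apply R₁ A Q.ResidueField] at h0
      exact Ideal.algebraMap_residueField_eq_zero.1 h0)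
    refine ⟨IsLocalization.Away.lift (Ideal.Quotient.mk P f₀) hu, ?_⟩
    ext a
    rw [RingHom.comp_apply, IsScalarTower.algebraMap_apply R₁ Rb L, IsLocalization.Away.lift_eq]
    rfl
  let vL := μ.baseChange L
  have h1 : Function.Exact ⇑μ ⇑(π₀.restrictScalars R₁) := by
    simp only [μ, LinearMap.coe_restrictScalars]
    exact LinearMap.exact_map_mkQ_range v
  have h1' : Function.Surjective ⇑(π₀.restrictScalars R₁) := by
    rw [LinearMap.coe_restrictScalars]
    exact Submodule.mkQ_surjective _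
  obtain ⟨hex, hsurj⟩ := exact_baseChange' (R := R₁) L h1 h1'
  have ht₁P' : ∀ a, algebraMap R₁ A a ∈ t₁ ↔ a ∈ P := fun a => by rw [← ht₁P]; rfl
  have hvinj : Function.Injective vL := by
    obtain ⟨ρ, hρ⟩ := hmap t₁ (Ideal.map_le_iff_le_comap.2 ht₁P.ge) fun hm => hf₀ ((ht₁P' f₀).1 hm)
    letI : Algebra L t₁.ResidueField := ρ.toAlgebra
    haveI : IsScalarTower R₁ L t₁.ResidueField := IsScalarTower.of_algebraMap_eq' hρ.symm
    have hρinj : Function.Injective ρ := by
      rw [injective_iff_map_eq_zero]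
      intro x hx
      obtain ⟨a, s, rfl⟩ := IsLocalization.exists_mk'_eq (Submonoid.powers (Ideal.Quotient.mk P f₀)) x
      obtain ⟨a₀, rfl⟩ := Ideal.Quotient.mk_surjective a
      have h3 := congrArg ρ (IsLocalization.mk'_spec L (Ideal.Quotient.mk P a₀) s)
      rw [map_mul, hx, zero_mul, show algebraMap Rb L (Ideal.Quotient.mk P a₀) = algebraMap R₁ L a₀ from
        (IsScalarTower.algebraMap_apply R₁ Rb L a₀).symm, ← RingHom.comp_apply, hρ,
        IsScalarTower.algebraMap_apply R₁ A t₁.ResidueField] at h3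
      rw [Ideal.Quotient.eq_zero_iff_mem.2 ((ht₁P' a₀).1 (Ideal.algebraMap_residueField_eq_zero.1 h3.symm)),
        IsLocalization.mk'_zero]
    have h2 : Function.Injective ((μ.baseChange L).lTensor t₁.ResidueField) :=
      (Pure.injective_lTensor_baseChange μ t₁.ResidueField).2 (h t₁ ht₁)
    let ι : L ⊗[R₁] M₁ →ₗ[L] t₁.ResidueField ⊗[L] (L ⊗[R₁] M₁) :=
      (Algebra.linearMap L t₁.ResidueField).rTensor _ ∘ₗ (TensorProduct.lid L _).symm.toLinearMap
    have hι : Function.Injective ι := by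
      simp only [ι, LinearMap.coe_comp, LinearEquiv.coe_coe]
      exact (Module.Flat.rTensor_preserves_injective_linearMap (Algebra.linearMap L t₁.ResidueField) hρinj).comp
        (LinearEquiv.injective _)
    intro a b hab
    refine hι (h2 ?_)
    let ι₂ : L ⊗[R₁] M₂ →ₗ[L] t₁.ResidueField ⊗[L] (L ⊗[R₁] M₂) :=
      (Algebra.linearMap L t₁.ResidueField).rTensor _ ∘ₗ (TensorProduct.lid L _).symm.toLinearMap
    have : ∀ w, (μ.baseChange L).lTensor t₁.ResidueField (ι w) = ι₂ (vL w) := fun w => by simp [ι, ι₂, vL]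
    rw [this, this, hab]
  obtain ⟨ρ, hρ⟩ := hmap t hle hft
  letI : Algebra L t.ResidueField := ρ.toAlgebra
  haveI : IsScalarTower R₁ L t.ResidueField := IsScalarTower.of_algebraMap_eq' hρ.symm
  exact (Pure.injective_lTensor_baseChange μ t.ResidueField).1
    (injective_lTensor_of_projective_coker' vL _ hvinj hex hsurj t.ResidueField)

attribute [local instance] Algebra.TensorProduct.rightAlgebra in
/-- joint regularity in the fibres spreads, given a model over a noetherian ring containing the elements -/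
theorem exists_nhd_joint_coeff {R₁ S₁ M₁ A B N : Type u} [CommRing R₁] [IsNoetherianRing R₁] [CommRing S₁]
    [Algebra R₁ S₁] [Algebra.FiniteType R₁ S₁] [AddCommGroup M₁] [Module S₁ M₁] [Module R₁ M₁] [IsScalarTower R₁ S₁ M₁]
    [Module.Finite S₁ M₁] [CommRing A] [CommRing B] [Algebra A B] [Algebra R₁ A] [Algebra S₁ B] [Algebra R₁ B]
    [IsScalarTower R₁ A B] [IsScalarTower R₁ S₁ B] [Algebra.IsPushout R₁ A S₁ B] [AddCommGroup N] [Module B N]
    [Module A N] [IsScalarTower A B N] [Module S₁ N] [IsScalarTower S₁ B N] (f₁ : M₁ →ₗ[S₁] N) (hf₁ : IsBaseChange B f₁)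
    (p : Ideal A) [p.IsPrime] {m : ℕ} (s : Fin m → S₁)
    (hgen : ∀ (t : Ideal A) [t.IsPrime], t ≤ p → ∀ z : t.ResidueField ⊗[A] N,
      (∀ i, Pure.act A t.ResidueField (algebraMap S₁ B (s i)) z = 0) → z = 0) :
    ∃ g ∉ p, ∀ (t : Ideal A) [t.IsPrime], g ∉ t → ∀ z : t.ResidueField ⊗[A] N,
      (∀ i, Pure.act A t.ResidueField (algebraMap S₁ B (s i)) z = 0) → z = 0 := by
  classical
  let v : M₁ →ₗ[S₁] (Fin m → M₁) := LinearMap.pi fun i => LinearMap.lsmul S₁ M₁ (s i)
  letI : Module R₁ N := Module.compHom N (algebraMap R₁ A)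
  haveI : IsScalarTower R₁ A N := IsScalarTower.of_algebraMap_smul fun _ _ => rfl
  haveI : IsScalarTower R₁ S₁ N := IsScalarTower.of_algebraMap_smul fun r x => by
    rw [← algebraMap_smul B (algebraMap R₁ S₁ r), ← IsScalarTower.algebraMap_apply,
      IsScalarTower.algebraMap_apply R₁ A B, algebraMap_smul]
    rfl
  have hfA : IsBaseChange A (f₁.restrictScalars R₁) :=
    IsBaseChange.of_equiv ((Algebra.IsPushout.cancelBaseChange R₁ A S₁ B M₁).symm ≪≫ₗ hf₁.equiv.restrictScalars A)
      fun x => by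
        simp only [LinearEquiv.trans_apply, Algebra.IsPushout.cancelBaseChange_symm_tmul, LinearEquiv.restrictScalars_apply,
          IsBaseChange.equiv_tmul, map_one, one_smul, LinearMap.coe_restrictScalars]
  have hequiv : ∀ (t : Ideal A) [t.IsPrime],
      Function.Injective ((v.restrictScalars R₁).lTensor t.ResidueField) ↔ ∀ z : t.ResidueField ⊗[A] N,
        (∀ i, Pure.act A t.ResidueField (algebraMap S₁ B (s i)) z = 0) → z = 0 := by
    intro t _
    let K := t.ResidueField
    let γ : K ⊗[R₁] M₁ ≃ₗ[K] K ⊗[A] N := (IsBaseChange.comp hfA (TensorProduct.isBaseChange A N K)).equiv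
    have hγ : ∀ (k : K) (x : M₁), γ (k ⊗ₜ x) = k ⊗ₜ f₁ x := fun k x => by
      simp only [γ, IsBaseChange.equiv_tmul, LinearMap.comp_apply, LinearMap.coe_restrictScalars, TensorProduct.mk_apply,
        TensorProduct.smul_tmul', smul_eq_mul, mul_one]
    let π := TensorProduct.piRight R₁ K K fun _ : Fin m => M₁
    have key : ∀ (w : K ⊗[R₁] M₁) (i : Fin m),
        γ (π ((v.restrictScalars R₁).lTensor K w) i) = Pure.act A K (algebraMap S₁ B (s i)) (γ w) := by
      intro w i
      induction w using TensorProduct.induction_on with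
      | zero => simp
      | tmul k x =>
        rw [LinearMap.lTensor_tmul, TensorProduct.piRight_apply, TensorProduct.piRightHom_tmul, hγ, hγ, Pure.act_tmul,
          algebraMap_smul]
        simp [v]
      | add a b ha hb => simp only [map_add, Pi.add_apply, ha, hb]
    rw [injective_iff_map_eq_zero]
    refine ⟨fun h z hz => ?_, fun h w hw => ?_⟩
    · obtain ⟨w, rfl⟩ := γ.surjective z
      rw [h w (π.injective (funext fun i => γ.injective ?_)), map_zero]
      rw [key, hz i, map_zero]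
      simp
    · refine γ.injective ((h (γ w) fun i => ?_).trans (map_zero γ).symm)
      rw [← key, hw, map_zero, Pi.zero_apply, map_zero]
  obtain ⟨g, hg, h'⟩ := exists_nhd_injective p v fun t _ ht => (hequiv t).2 (hgen t ht)
  exact ⟨g, hg, fun t _ ht => (hequiv t).1 (h' t ht)⟩

attribute [local instance] Algebra.TensorProduct.rightAlgebra in
/-- joint regularity in the fibres spreads, given coefficients in a noetherian ring -/
theorem exists_nhd_joint_step {R₀ R₁ S₀ M₀ A B N : Type u} [CommRing R₀] [CommRing R₁] [IsNoetherianRing R₁]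
    [Algebra R₀ R₁] [CommRing S₀] [Algebra R₀ S₀] [Algebra.FiniteType R₀ S₀] [AddCommGroup M₀] [Module S₀ M₀]
    [Module.Finite S₀ M₀] [CommRing A] [CommRing B] [Algebra A B] [Algebra R₀ A] [Algebra R₁ A] [IsScalarTower R₀ R₁ A]
    [Algebra S₀ B] [Algebra R₀ B] [IsScalarTower R₀ A B] [IsScalarTower R₀ S₀ B] [Algebra.IsPushout R₀ A S₀ B]
    [AddCommGroup N] [Module B N] [Module A N] [IsScalarTower A B N] [Module S₀ N] [IsScalarTower S₀ B N]
    (f₀ : M₀ →ₗ[S₀] N) (hf₀ : IsBaseChange B f₀) (p : Ideal A) [p.IsPrime] {m : ℕ} (h : Fin m → B)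
    (s : Fin m → R₁ ⊗[R₀] S₀)
    (hs : ∀ i, Algebra.IsPushout.equiv R₀ A S₀ B ((IsScalarTower.toAlgHom R₀ R₁ A).toLinearMap.rTensor S₀ (s i)) = h i)
    (hgen : ∀ (t : Ideal A) [t.IsPrime], t ≤ p → ∀ z : t.ResidueField ⊗[A] N,
      (∀ i, Pure.act A t.ResidueField (h i) z = 0) → z = 0) :
    ∃ g ∉ p, ∀ (t : Ideal A) [t.IsPrime], g ∉ t → ∀ z : t.ResidueField ⊗[A] N,
      (∀ i, Pure.act A t.ResidueField (h i) z = 0) → z = 0 := by
  classical
  letI : Algebra R₁ B := ((algebraMap A B).comp (algebraMap R₁ A)).toAlgebra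
  haveI : IsScalarTower R₁ A B := IsScalarTower.of_algebraMap_eq' rfl
  haveI : IsScalarTower R₀ R₁ B := IsScalarTower.of_algebraMap_eq fun x => by
    rw [IsScalarTower.algebraMap_apply R₁ A B, ← IsScalarTower.algebraMap_apply R₀ R₁ A,
      ← IsScalarTower.algebraMap_apply R₀ A B]
  let S₁ := R₁ ⊗[R₀] S₀
  let Φ : S₁ →ₐ[R₁] B := Algebra.TensorProduct.lift (Algebra.ofId R₁ B) (IsScalarTower.toAlgHom R₀ S₀ B)
    fun _ _ => Commute.all _ _
  letI : Algebra S₁ B := Φ.toRingHom.toAlgebra
  haveI : IsScalarTower R₁ S₁ B := IsScalarTower.of_algebraMap_eq fun x => (Φ.commutes x).symm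
  haveI : IsScalarTower S₀ S₁ B := IsScalarTower.of_algebraMap_eq fun x => by
    change algebraMap S₀ B x = Φ ((1 : R₁) ⊗ₜ x)
    rw [Algebra.TensorProduct.lift_tmul, map_one, one_mul]
    rfl
  haveI : IsScalarTower R₀ S₁ B := IsScalarTower.of_algebraMap_eq (R := R₀) (S := S₁) (A := B) fun x => by
    rw [IsScalarTower.algebraMap_apply R₀ R₁ S₁, ← IsScalarTower.algebraMap_apply R₁ S₁ B,
      ← IsScalarTower.algebraMap_apply R₀ R₁ B]
  haveI : Algebra.IsPushout R₁ A S₁ B :=
    (Algebra.IsPushout.comp_iff R₀ R₁ S₀ S₁ (T := A) (T' := B)).1 inferInstance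
  letI : Module S₁ N := Module.compHom N (algebraMap S₁ B)
  haveI : IsScalarTower S₁ B N := IsScalarTower.of_algebraMap_smul fun _ _ => rfl
  haveI : IsScalarTower S₀ S₁ N := IsScalarTower.of_algebraMap_smul fun x n => by
    change algebraMap S₁ B (algebraMap S₀ S₁ x) • n = x • n
    rw [← IsScalarTower.algebraMap_apply, algebraMap_smul]
  let M₁ := S₁ ⊗[S₀] M₀
  let f₁ : M₁ →ₗ[S₁] N := f₀.liftBaseChange S₁
  have hf₁ : IsBaseChange B f₁ := IsBaseChange.of_comp (TensorProduct.isBaseChange S₀ M₀ S₁) (by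
    have : (f₁.restrictScalars S₀) ∘ₗ TensorProduct.mk S₀ S₁ M₀ 1 = f₀ := LinearMap.ext fun x => by
      change f₀.liftBaseChange S₁ ((1 : S₁) ⊗ₜ[S₀] x) = f₀ x
      rw [LinearMap.liftBaseChange_tmul, one_smul]
    rw [this]
    exact hf₀)
  have hs' : ∀ i, algebraMap S₁ B (s i) = h i := fun i => by
    rw [← hs i]
    generalize s i = w
    induction w using TensorProduct.induction_on with
    | zero => simp
    | tmul r x =>
      rw [LinearMap.rTensor_tmul, Algebra.IsPushout.equiv_tmul]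
      change Φ _ = _
      rw [Algebra.TensorProduct.lift_tmul]
      rfl
    | add a b ha hb => simp only [map_add, ha, hb]
  obtain ⟨g, hg, h'⟩ := exists_nhd_joint_coeff (R₁ := R₁) (A := A) (B := B) f₁ hf₁ p s fun t _ ht z hz =>
    hgen t ht z fun i => by rw [← hs' i]; exact hz i
  exact ⟨g, hg, fun t _ ht z hz => h' t ht z fun i => by rw [hs' i]; exact hz i⟩

attribute [local instance] Algebra.TensorProduct.rightAlgebra in
/-- joint regularity in the fibres spreads, given a model over a noetherian ring -/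
theorem exists_nhd_joint_model {R₀ S₀ M₀ A B N : Type u} [CommRing R₀] [IsNoetherianRing R₀] [CommRing S₀]
    [Algebra R₀ S₀] [Algebra.FiniteType R₀ S₀] [AddCommGroup M₀] [Module S₀ M₀] [Module R₀ M₀] [IsScalarTower R₀ S₀ M₀]
    [Module.Finite S₀ M₀] [CommRing A] [CommRing B] [Algebra A B] [Algebra R₀ A] [Algebra S₀ B] [Algebra R₀ B]
    [IsScalarTower R₀ A B] [IsScalarTower R₀ S₀ B] [Algebra.IsPushout R₀ A S₀ B] [AddCommGroup N] [Module B N]
    [Module A N] [IsScalarTower A B N] [Module S₀ N] [IsScalarTower S₀ B N] (f₀ : M₀ →ₗ[S₀] N) (hf₀ : IsBaseChange B f₀)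
    (p : Ideal A) [p.IsPrime] {m : ℕ} (h : Fin m → B)
    (hgen : ∀ (t : Ideal A) [t.IsPrime], t ≤ p → ∀ z : t.ResidueField ⊗[A] N,
      (∀ i, Pure.act A t.ResidueField (h i) z = 0) → z = 0) :
    ∃ g ∉ p, ∀ (t : Ideal A) [t.IsPrime], g ∉ t → ∀ z : t.ResidueField ⊗[A] N,
      (∀ i, Pure.act A t.ResidueField (h i) z = 0) → z = 0 := by
  classical
  let e : A ⊗[R₀] S₀ ≃ₐ[A] B := Algebra.IsPushout.equiv R₀ A S₀ B
  choose T hT using fun i : Fin m => TensorProduct.exists_finset (e.symm (h i))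
  let R₁ := MvPolynomial (Σ i : Fin m, T i) R₀
  let a : R₁ →ₐ[R₀] A := MvPolynomial.aeval fun x => x.2.1.1
  letI : Algebra R₁ A := a.toRingHom.toAlgebra
  haveI : IsScalarTower R₀ R₁ A := IsScalarTower.of_algebraMap_eq fun x => (a.commutes x).symm
  refine exists_nhd_joint_step (R₁ := R₁) f₀ hf₀ p h
    (fun i => ∑ x : T i, (MvPolynomial.X (R := R₀) (⟨i, x⟩ : Σ i : Fin m, T i)) ⊗ₜ[R₀] x.1.2) (fun i => ?_) hgen
  conv_rhs => rw [← e.apply_symm_apply (h i), hT i, ← Finset.sum_coe_sort (T i)]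
  rw [map_sum]
  refine congrArg _ (Finset.sum_congr rfl fun x _ => ?_)
  rw [LinearMap.rTensor_tmul]
  change a _ ⊗ₜ[R₀] _ = _
  rw [MvPolynomial.aeval_X]

attribute [local instance] Algebra.TensorProduct.rightAlgebra in
/-- the base change of a module projective at `p` is pure along every prime over `p` -/
theorem isPureAlong_baseChange {A A' B : Type u} [CommRing A] [CommRing A'] [CommRing B] [Algebra A A'] [Algebra A B]
    (N : Type u) [AddCommGroup N] [Module B N] [Module A N] [IsScalarTower A B N] (p : Ideal A) [p.IsPrime]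
    [Module.Projective (Localization.AtPrime p) (LocalizedModule p.primeCompl N)] (p' : Ideal A') [p'.IsPrime]
    (hp : p'.comap (algebraMap A A') = p) : FlatCA.IsPureAlong A' (A' ⊗[A] B) ((A' ⊗[A] B) ⊗[B] N) p' := by
  let Ap := Localization.AtPrime p
  let At := Localization.AtPrime p'
  let N' := (A' ⊗[A] B) ⊗[B] N
  letI : Algebra Ap At := (Localization.localRingHom p p' (algebraMap A A') hp.symm).toAlgebra
  haveI : IsScalarTower A Ap At := IsScalarTower.of_algebraMap_eq fun a => by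
    rw [RingHom.algebraMap_toAlgebra, Localization.localRingHom_to_map, ← IsScalarTower.algebraMap_apply A A' At]
  haveI : Module.Projective Ap (Ap ⊗[A] N) :=
    Module.Projective.of_equiv (LocalizedModule.equivTensorProduct p.primeCompl N)
  haveI : Module.Projective At (LocalizedModule p'.primeCompl N') :=
    Module.Projective.of_equiv (((AlgebraTensorModule.cancelBaseChange A Ap At At N) ≪≫ₗ
      (AlgebraTensorModule.cancelBaseChange A A' At At N).symm ≪≫ₗ
      AlgebraTensorModule.congr (LinearEquiv.refl At At) (Algebra.IsPushout.cancelBaseChange A A' B (A' ⊗[A] B) N).symm) ≪≫ₗ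
      (LocalizedModule.equivTensorProduct p'.primeCompl N').symm)
  exact fun A'' B'' N'' _ _ _ _ _ _ _ _ _ _ _ _ _ _ f t' t _ _ P _ _ =>
    Pure.isUnivPureAlong_of_projective N' p' A'' B'' N'' f t' t P

attribute [local instance] Algebra.TensorProduct.rightAlgebra in
/-- the pure locus is a neighbourhood of each of its points -/
theorem exists_nhd_pure {A B : Type u} [CommRing A] [CommRing B] [Algebra A B] [Algebra.FinitePresentation A B]
    (N : Type u) [AddCommGroup N] [Module B N] [Module A N] [IsScalarTower A B N] [Module.FinitePresentation B N]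
    [Module.Flat A N] (p : Ideal A) [p.IsPrime]
    [Module.Projective (Localization.AtPrime p) (LocalizedModule p.primeCompl N)] :
    ∃ (U : Set (PrimeSpectrum A)), IsOpen U ∧ (⟨p, ‹_›⟩ : PrimeSpectrum A) ∈ U ∧
      ∀ s ∈ U, Module.Projective (Localization.AtPrime s.asIdeal) (LocalizedModule s.asIdeal.primeCompl N) := by
  obtain ⟨A', _, _, p', _, hn, m, h, hproj, hcov⟩ := exists_common p N fun q _ hq =>
    projPiece_of_flat p q hq N (InjFibre.flat_localized (R := A) (S := B) (M := N)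
      (M' := LocalizedModule q.primeCompl N) q.primeCompl (LocalizedModule.mkLinearMap q.primeCompl N))
  haveI := hn.1
  let B' := A' ⊗[A] B
  let N' := B' ⊗[B] N
  have hpure := isPureAlong_baseChange (B := B) N p p' (comap_of_isEtaleNhd hn)
  have hgen : ∀ (t : Ideal A') [t.IsPrime], t ≤ p' → ∀ z : t.ResidueField ⊗[A'] N',
      (∀ i, Pure.act A' t.ResidueField (h i) z = 0) → z = 0 := fun t _ ht z hz =>
    eq_zero_of_assPts h (fun σ hσ => by
      obtain ⟨Q, hQ, hle, hQp⟩ := Pure.exists_over_of_pure hpure t ht σ hσ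
      obtain ⟨i, hi⟩ := hcov Q hQ hQp
      exact ⟨i, fun hm => hi (hle hm)⟩) z hz
  haveI : Module.Flat A' N' := Module.Flat.of_linearEquiv (Algebra.IsPushout.cancelBaseChange A A' B B' N)
  haveI : Module.FinitePresentation B' N' := inferInstance
  obtain ⟨R₀, _, _, S₀, _, _, _, _, _, _, M₀, _, _, _, _, _, _, f₀, hft, hS₀, hM₀, -, hpush, hbc⟩ :=
    FlatSpread.exists_model_module A' B' N'
  haveI := hS₀
  haveI := hM₀
  haveI := hpush
  haveI : IsNoetherianRing R₀ := Algebra.FiniteType.isNoetherianRing ℤ R₀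
  obtain ⟨g, hg, hgU⟩ := exists_nhd_joint_model (R₀ := R₀) (A := A') (B := B') f₀ hbc p' h hgen
  have hopen : IsOpenMap (PrimeSpectrum.comap (algebraMap A A')) :=
    PrimeSpectrum.isOpenMap_comap_of_hasGoingDown_of_finitePresentation (R := A) (S := A')
  refine ⟨PrimeSpectrum.comap (algebraMap A A') '' (PrimeSpectrum.basicOpen g : Set (PrimeSpectrum A')),
    hopen _ (PrimeSpectrum.basicOpen g).isOpen, ⟨⟨p', ‹_›⟩, hg, PrimeSpectrum.ext (comap_of_isEtaleNhd hn)⟩, ?_⟩
  rintro s ⟨t, ht, rfl⟩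
  exact projective_localized_of_cover N h hproj t.asIdeal (fun t₀ _ hle σ hσ =>
    exists_notMem_of_joint h (hgU t₀ fun hm => ht (hle hm)) hσ) _ rfl

end Groth.Agent.RG.Loc
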