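import Groth.Agent.RG.Loc.Models
import Mathlib.LinearAlgebra.TensorProduct.Pi
import Mathlib.RingTheory.Etale.Pi

/-!
# A common étale neighbourhood for the whole fibre
-/

set_option autoImplicit false
set_option linter.style.haveILetI false
set_option backward.isDefEq.respectTransparency false

universe u

open TensorProduct

namespace Groth.Agent.RG.Loc

attribute [local instance] Algebra.TensorProduct.rightAlgebra in
theorem projective_away_baseChange {R₀ R A₀ A S₀ S : Type u} [CommRing R₀] [CommRing R] [CommRing A₀] [CommRing A]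
    [CommRing S₀] [CommRing S] [Algebra R₀ R] [Algebra R₀ A₀] [Algebra R A] [Algebra R₀ A] [Algebra A₀ A]
    [IsScalarTower R₀ R A] [IsScalarTower R₀ A₀ A] [Algebra.IsPushout R₀ R A₀ A] [Algebra S₀ A₀] [Algebra S₀ S]
    [Algebra S₀ A] [Algebra S A] [IsScalarTower S₀ A₀ A] [IsScalarTower S₀ S A] {M₀ N : Type u} [AddCommGroup M₀]
    [Module S₀ M₀] [AddCommGroup N] [Module S N] [Module S₀ N] [IsScalarTower S₀ S N] (f : M₀ →ₗ[S₀] N)
    (hf : IsBaseChange S f) (g : A₀) (h : Module.Projective R₀ (Localization.Away g ⊗[S₀] M₀)) :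
    Module.Projective R (Localization.Away (algebraMap A₀ A g) ⊗[S] N) := by
  let C₀ := Localization.Away g
  let C := Localization.Away (algebraMap A₀ A g)
  letI : Algebra C₀ C := (IsLocalization.Away.map C₀ C (algebraMap A₀ A) g).toAlgebra
  haveI : IsScalarTower A₀ A C := inferInstance
  haveI : IsScalarTower A₀ C₀ C := IsScalarTower.of_algebraMap_eq fun x => by
    rw [IsScalarTower.algebraMap_apply A₀ A C, RingHom.algebraMap_toAlgebra (IsLocalization.Away.map C₀ C (algebraMap A₀ A) g)]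
    exact (IsLocalization.map_eq _ x).symm
  haveI hC : Algebra.IsPushout A₀ C₀ A C := by
    haveI : IsLocalization (Algebra.algebraMapSubmonoid A (Submonoid.powers g)) C := by
      rw [Algebra.algebraMapSubmonoid_powers]; infer_instance
    exact ((Algebra.isLocalization_iff_isPushout (Submonoid.powers g) C₀ (T := A) (B := C)).1 inferInstance).symm
  haveI : IsScalarTower R₀ A C := inferInstance
  haveI : IsScalarTower R A C := inferInstance
  haveI : IsScalarTower R₀ R C := IsScalarTower.of_algebraMap_eq fun r => by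
    rw [IsScalarTower.algebraMap_apply R₀ A C, IsScalarTower.algebraMap_apply R₀ R A,
      ← IsScalarTower.algebraMap_apply R A C]
  haveI : IsScalarTower R₀ A₀ C := IsScalarTower.of_algebraMap_eq fun r => by
    rw [IsScalarTower.algebraMap_apply A₀ A C, ← IsScalarTower.algebraMap_apply R₀ A₀ A,
      ← IsScalarTower.algebraMap_apply R₀ A C]
  haveI : IsScalarTower R₀ C₀ C := IsScalarTower.of_algebraMap_eq fun r => by
    rw [IsScalarTower.algebraMap_apply R₀ A₀ C₀, ← IsScalarTower.algebraMap_apply A₀ C₀ C,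
      ← IsScalarTower.algebraMap_apply R₀ A₀ C]
  haveI : Algebra.IsPushout R₀ R C₀ C := by
    haveI : Algebra.IsPushout R₀ A₀ R A := Algebra.IsPushout.symm inferInstance
    exact ((Algebra.IsPushout.comp_iff R₀ A₀ R A (T := C₀) (T' := C)).2 inferInstance).symm
  haveI : IsScalarTower S₀ A C := inferInstance
  haveI : IsScalarTower S A C := inferInstance
  haveI : IsScalarTower S₀ S C := IsScalarTower.of_algebraMap_eq fun s => by
    rw [IsScalarTower.algebraMap_apply S₀ A C, IsScalarTower.algebraMap_apply S₀ S A,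
      ← IsScalarTower.algebraMap_apply S A C]
  haveI : IsScalarTower S₀ C₀ C := IsScalarTower.of_algebraMap_eq fun s => by
    rw [IsScalarTower.algebraMap_apply S₀ A₀ C₀, ← IsScalarTower.algebraMap_apply A₀ C₀ C,
      IsScalarTower.algebraMap_apply A₀ A C, ← IsScalarTower.algebraMap_apply S₀ A₀ A,
      ← IsScalarTower.algebraMap_apply S₀ A C]
  exact projective_baseChange_piece (R₀' := R₀) (S₀ := S₀) (C₀ := C₀) f hf h

attribute [local instance] Algebra.TensorProduct.rightAlgebra in
/-- the predicate carried to the common neighbourhood: a projective piece containing every point of `D(y)` over `p'` -/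
def Covers (R : Type u) [CommRing R] (R' : Type u) [CommRing R'] [Algebra R R'] (S : Type u) [CommRing S] [Algebra R S]
    (p' : Ideal R') (N : Type u) [AddCommGroup N] [Module S N] (y : S) : Prop :=
  ∃ h : R' ⊗[R] S, Module.Projective R' (Localization.Away h ⊗[S] N) ∧
    ∀ Q : Ideal (R' ⊗[R] S), Q.IsPrime → Q.comap (algebraMap R' (R' ⊗[R] S)) = p' →
      y ∉ Q.comap (algebraMap S (R' ⊗[R] S)) → h ∉ Q

attribute [local instance] Algebra.TensorProduct.rightAlgebra in
theorem Covers.baseChange {R R₁ R₂ S N : Type u} [CommRing R] [CommRing R₁] [CommRing R₂] [CommRing S] [Algebra R R₁]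
    [Algebra R R₂] [Algebra R₁ R₂] [IsScalarTower R R₁ R₂] [Algebra R S] [AddCommGroup N] [Module S N] {p₁ : Ideal R₁}
    {p₂ : Ideal R₂} (hp : p₂.comap (algebraMap R₁ R₂) = p₁) {y : S} (h : Covers R R₁ S p₁ N y) :
    Covers R R₂ S p₂ N y := by
  obtain ⟨h₁, hproj, hh⟩ := h
  let A₁ := R₁ ⊗[R] S
  let A₂ := R₂ ⊗[R] S
  let Φ : A₁ →ₐ[R₁] A₂ := Algebra.TensorProduct.map (Algebra.ofId R₁ R₂) (AlgHom.id R S)
  letI : Algebra A₁ A₂ := Φ.toRingHom.toAlgebra
  haveI : IsScalarTower R₁ R₂ A₂ := inferInstance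
  haveI : IsScalarTower R₁ A₁ A₂ := IsScalarTower.of_algebraMap_eq fun r => (Φ.commutes r).symm
  haveI : IsScalarTower R R₁ A₂ := IsScalarTower.to₁₂₄ R R₁ R₂ A₂
  haveI : IsScalarTower R A₁ A₂ := IsScalarTower.of_algebraMap_eq fun r => by
    rw [IsScalarTower.algebraMap_apply R R₁ A₁, ← IsScalarTower.algebraMap_apply R₁ A₁ A₂,
      ← IsScalarTower.algebraMap_apply R R₁ A₂]
  haveI : IsScalarTower S A₁ A₂ := IsScalarTower.of_algebraMap_eq fun s => by
    change (1 : R₂) ⊗ₜ[R] s = Φ ((1 : R₁) ⊗ₜ[R] s)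
    exact ((Algebra.TensorProduct.map_tmul _ _ _ _).trans (by rw [map_one]; rfl)).symm
  haveI : Algebra.IsPushout R R₁ S A₁ := inferInstance
  haveI : Algebra.IsPushout R R₂ S A₂ := inferInstance
  haveI : Algebra.IsPushout R₁ R₂ A₁ A₂ :=
    (Algebra.IsPushout.comp_iff R R₁ S A₁ (T := R₂) (T' := A₂)).1 inferInstance
  refine ⟨algebraMap A₁ A₂ h₁, projective_away_baseChange (S₀ := S) (LinearMap.id : N →ₗ[S] N)
    (IsBaseChange.ofEquiv (LinearEquiv.refl S N)) h₁ hproj, fun Q hQ hQp hy hm => ?_⟩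
  refine hh (Q.comap (algebraMap A₁ A₂)) (Ideal.IsPrime.comap _) ?_ ?_ hm
  · rw [Ideal.comap_comap, ← IsScalarTower.algebraMap_eq R₁ A₁ A₂, IsScalarTower.algebraMap_eq R₁ R₂ A₂,
      ← Ideal.comap_comap, hQp, hp]
  · rwa [Ideal.comap_comap, ← IsScalarTower.algebraMap_eq S A₁ A₂]

attribute [local instance] Algebra.TensorProduct.rightAlgebra in
/-- one neighbourhood, finitely many pieces, covering the fibre -/
theorem exists_common {R S : Type u} [CommRing R] [CommRing S] [Algebra R S] (p : Ideal R) [p.IsPrime] (N : Type u)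
    [AddCommGroup N] [Module S N]
    (hN : ∀ (q : Ideal S) [q.IsPrime], q.comap (algebraMap R S) = p → ProjPiece R S p q N) :
    ∃ (R' : Type u) (_ : CommRing R') (_ : Algebra R R') (p' : Ideal R') (_ : p'.IsPrime),
      FlatCA.IsEtaleNhd R R' p p' ∧ ∃ (m : ℕ) (h : Fin m → R' ⊗[R] S),
        (∀ i, Module.Projective R' (Localization.Away (h i) ⊗[S] N)) ∧
          ∀ Q : Ideal (R' ⊗[R] S), Q.IsPrime → Q.comap (algebraMap R' (R' ⊗[R] S)) = p' → ∃ i, h i ∉ Q := by
  classical
  let X := {q : PrimeSpectrum S // q.asIdeal.comap (algebraMap R S) = p}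
  have hX : ∀ x : X, ∃ y : S, y ∉ x.1.asIdeal ∧ ∃ (R₁ : Type u) (_ : CommRing R₁) (_ : Algebra R R₁) (p₁ : Ideal R₁)
      (_ : p₁.IsPrime), FlatCA.IsEtaleNhd R R₁ p p₁ ∧ Covers R R₁ S p₁ N y := by
    intro x
    obtain ⟨R₁, _, _, p₁, _, hn, h, q', hq', hqp, hqq, hh, hproj⟩ := hN x.1.asIdeal x.2
    obtain ⟨c, y, hc, hcy⟩ := exists_approx hn h
    haveI := hq'
    refine ⟨y, fun hy => hh ((mem_iff_of_nhd hn hqp hc hcy).2 (by rw [hqq]; exact hy)), R₁, inferInstance, inferInstance,
      p₁, inferInstance, hn, h, hproj, fun Q hQ hQp hy hm => hy ?_⟩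
    haveI := hQ
    exact (mem_iff_of_nhd hn hQp hc hcy).1 hm
  choose y hy hc using hX
  obtain ⟨T, hT⟩ : ∃ T : Finset X, ∀ q : PrimeSpectrum S, q.asIdeal.comap (algebraMap R S) = p → ∃ x ∈ T, y x ∉ q.asIdeal := by
    have hcpt : IsCompact (PrimeSpectrum.comap (algebraMap R S) ⁻¹' {(⟨p, ‹_›⟩ : PrimeSpectrum R)}) := by
      rw [isCompact_iff_compactSpace]
      exact (PrimeSpectrum.preimageHomeomorphFiber R S ⟨p, ‹_›⟩).symm.compactSpace
    obtain ⟨T, hT⟩ := hcpt.elim_finite_subcover (fun x : X => (PrimeSpectrum.basicOpen (y x) : Set (PrimeSpectrum S)))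
      (fun x => (PrimeSpectrum.basicOpen (y x)).isOpen) fun q hq => Set.mem_iUnion.2
        ⟨⟨q, congrArg PrimeSpectrum.asIdeal hq⟩, hy ⟨q, congrArg PrimeSpectrum.asIdeal hq⟩⟩
    exact ⟨T, fun q hq => by simpa using hT (PrimeSpectrum.ext hq)⟩
  have key : ∀ T : Finset X, ∃ (R' : Type u) (_ : CommRing R') (_ : Algebra R R') (p' : Ideal R') (_ : p'.IsPrime),
      FlatCA.IsEtaleNhd R R' p p' ∧ ∀ x ∈ T, Covers R R' S p' N (y x) := by
    intro T
    induction T using Finset.induction_on with
    | empty => exact ⟨R, inferInstance, inferInstance, p, inferInstance, Pure.isEtaleNhd_self p, fun x hx => absurd hx (by simp)⟩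
    | insert a T _ ih =>
      obtain ⟨R', _, _, p', _, hn', hT'⟩ := ih
      obtain ⟨R₁, _, _, p₁, _, hn₁, hc₁⟩ := hc a
      have hc' := comap_of_isEtaleNhd hn'
      subst hc'
      obtain ⟨P, _, hnP, hP₁⟩ := exists_nhd_baseChange (R := R') (R₀' := R₁) p' hn₁
      letI : Algebra R₁ (R' ⊗[R] R₁) := Algebra.TensorProduct.rightAlgebra
      haveI : IsScalarTower R R₁ (R' ⊗[R] R₁) := IsScalarTower.of_algebraMap_eq fun r => by
        change algebraMap R R' r ⊗ₜ[R] (1 : R₁) = (1 : R') ⊗ₜ[R] algebraMap R R₁ r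
        rw [Algebra.algebraMap_eq_smul_one, Algebra.algebraMap_eq_smul_one (A := R₁), smul_tmul]
      refine ⟨R' ⊗[R] R₁, inferInstance, inferInstance, P, inferInstance, isEtaleNhd_trans hn' hnP, fun x hx => ?_⟩
      rcases Finset.mem_insert.1 hx with rfl | hx
      · exact hc₁.baseChange hP₁
      · exact (hT' x hx).baseChange (comap_of_isEtaleNhd hnP)
  obtain ⟨R', _, _, p', _, hn, hcov⟩ := key T
  choose h hproj hh using fun x : T => hcov x.1 x.2
  refine ⟨R', inferInstance, inferInstance, p', inferInstance, hn, Fintype.card T,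
    fun i => h ((Fintype.equivFin T).symm i), fun i => hproj _, fun Q hQ hQp => ?_⟩
  have hqp : (Q.comap (algebraMap S (R' ⊗[R] S))).comap (algebraMap R S) = p := by
    rw [← comap_of_isEtaleNhd hn, ← hQp, Ideal.comap_comap, Ideal.comap_comap]
    congr 1
    refine RingHom.ext fun r => ?_
    change (1 : R') ⊗ₜ[R] algebraMap R S r = algebraMap R R' r ⊗ₜ[R] (1 : S)
    rw [Algebra.algebraMap_eq_smul_one, Algebra.algebraMap_eq_smul_one, smul_tmul]
  obtain ⟨x, hx, hxy⟩ := hT ⟨Q.comap (algebraMap S (R' ⊗[R] S)), Ideal.IsPrime.comap _⟩ hqp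
  exact ⟨Fintype.equivFin T ⟨x, hx⟩, by simpa using hh ⟨x, hx⟩ Q hQ hQp hxy⟩

attribute [local instance] Algebra.TensorProduct.rightAlgebra in
/-- the product of the pieces -/
theorem projective_pi {R R' S N : Type u} [CommRing R] [CommRing R'] [CommRing S] [Algebra R R'] [Algebra R S]
    [AddCommGroup N] [Module S N] {m : ℕ} (h : Fin m → R' ⊗[R] S)
    (hproj : ∀ i, Module.Projective R' (Localization.Away (h i) ⊗[S] N)) :
    Module.Projective R' ((∀ i, Localization.Away (h i)) ⊗[S] N) := by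
  classical
  haveI := hproj
  let A := R' ⊗[R] S
  let φ : (∀ i, Localization.Away (h i)) ⊗[S] N →ₗ[A] ∀ i, Localization.Away (h i) ⊗[S] N :=
    LinearMap.pi fun i => AlgebraTensorModule.map (LinearMap.proj (R := A) (φ := fun i => Localization.Away (h i)) i) LinearMap.id
  have hφ : Function.Bijective φ := by
    have : (φ : _ → _) = TensorProduct.piLeft S N (fun i => Localization.Away (h i)) := by
      funext z
      induction z using TensorProduct.induction_on with
      | zero => simp
      | tmul a n => funext i; simp [φ]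
      | add a b ha hb => rw [map_add, map_add, ha, hb]
    rw [this]
    exact (TensorProduct.piLeft S N (fun i => Localization.Away (h i))).bijective
  haveI : Module.Projective R' (∀ i, Localization.Away (h i) ⊗[S] N) :=
    Module.Projective.of_equiv (DFinsupp.linearEquivFunOnFintype (R := R'))
  exact Module.Projective.of_equiv ((LinearEquiv.ofBijective φ hφ).symm.restrictScalars R')

end Groth.Agent.RG.Loc
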