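import Groth.Agent.RG.Loc.Nhd
import Groth.Agent.Hensel.EnvelopeStage
import Groth.Agent.UnramLib.FlatUnram

/-!
# A henselian local ring which is the union of the local rings of étale neighbourhoods
-/

set_option autoImplicit false
set_option linter.style.haveILetI false

universe u

open IsLocalRing

namespace Groth.Agent.RG.Loc

theorem exists_henselian_stages {R : Type u} [CommRing R] (p : Ideal R) [p.IsPrime] :
    ∃ (H : Type u) (_ : CommRing H) (_ : HenselianLocalRing H) (_ : Algebra R H),
      (maximalIdeal H).comap (algebraMap R H) = p ∧ Module.Flat R H ∧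
      (∃ π : H →ₐ[R] p.ResidueField, ∀ z, π z = 0 ↔ z ∈ maximalIdeal H) ∧
      ∀ (n : ℕ) (z : Fin n → H), ∃ (R' : Type u) (_ : CommRing R') (_ : Algebra R R') (p' : Ideal R') (_ : p'.IsPrime),
        FlatCA.IsEtaleNhd R R' p p' ∧ ∃ (_ : Algebra (Localization.AtPrime p') H),
          IsScalarTower R (Localization.AtPrime p') H ∧ Module.FaithfullyFlat (Localization.AtPrime p') H ∧
          (maximalIdeal H).comap (algebraMap (Localization.AtPrime p') H) = maximalIdeal (Localization.AtPrime p') ∧
          ∀ k, z k ∈ Set.range (algebraMap (Localization.AtPrime p') H) := by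
  classical
  let K := p.ResidueField
  let H := Hensel.Env R K
  let ι : Hensel.EnvTop R K →ₐ[R] H := IsScalarTower.toAlgHom R (Hensel.EnvTop R K) H
  let π : H →ₐ[R] K := Hensel.envRes R K
  have hι : ∀ x, π (ι x) = Hensel.envEv R K x := Hensel.envRes_algebraMap R K
  have hloc : ∀ z : H, ∃ x t, IsUnit (ι t) ∧ z * ι t = ι x := fun z => by
    obtain ⟨x, s, rfl⟩ := IsLocalization.exists_mk'_eq (Hensel.envPrime R K).primeCompl z
    exact ⟨x, s.1, IsLocalization.map_units _ s, IsLocalization.mk'_spec H x s⟩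
  have hπ : ∀ z, π z = 0 ↔ z ∈ maximalIdeal H := fun z => by
    obtain ⟨x, s, rfl⟩ := IsLocalization.exists_mk'_eq (Hensel.envPrime R K).primeCompl z
    have h1 : π (IsLocalization.mk' H x s) * π (ι s.1) = π (ι x) := by
      rw [← map_mul]
      exact congrArg π (IsLocalization.mk'_spec H x s)
    rw [hι, hι] at h1
    rw [IsLocalization.AtPrime.mk'_mem_maximal_iff H (Hensel.envPrime R K)]
    change _ ↔ Hensel.envEv R K x = 0
    rw [← h1]
    exact ⟨fun h => by rw [h, zero_mul], fun h => (mul_eq_zero.1 h).resolve_right s.2⟩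
  have hH : HenselianLocalRing H := Hensel.henselian_of_points (S := H) R K π hπ ι hι hloc
  haveI hfl : Module.Flat R H := Hensel.flat_env R K
  refine ⟨H, inferInstance, hH, inferInstance, ?_, hfl, ⟨π, hπ⟩, fun n z => ?_⟩
  · ext r
    rw [Ideal.mem_comap, ← hπ, AlgHom.commutes, Ideal.algebraMap_residueField_eq_zero]
  -- the étale algebra containing the given elements
  choose x t ht hxt using fun k => hloc (z k)
  obtain ⟨F, y, hy⟩ := Hensel.exists_stage R K (Fin.append x t)
  let A := Hensel.EnvStage R K F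
  let inc : A →ₐ[R] H := ι.comp (Hensel.etMap (P := Hensel.envPairs R K) ((↑) : F → Hensel.EnvIdx R K))
  haveI : Algebra.Etale R A := Hensel.etale_etProd
  let T₀ : A := ∏ k, y (Fin.natAdd n k)
  have hyx : ∀ k, inc (y (Fin.castAdd n k)) = ι (x k) := fun k =>
    (congrArg ι (hy _)).trans (congrArg ι (Fin.append_left _ _ _))
  have hyt : ∀ k, inc (y (Fin.natAdd n k)) = ι (t k) := fun k =>
    (congrArg ι (hy _)).trans (congrArg ι (Fin.append_right _ _ _))
  have hT₀ : IsUnit (inc T₀) := by
    rw [map_prod]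
    exact IsUnit.prod_univ_iff.2 fun k => by rw [hyt]; exact ht k
  let R' := Localization.Away T₀
  haveI : Algebra.Etale R R' := inferInstance
  let χ : R' →ₐ[R] H := IsLocalization.Away.liftAlgHom T₀ (f := inc) hT₀
  have hχ : ∀ a, χ (algebraMap A R' a) = inc a := fun a => IsLocalization.Away.lift_eq T₀ hT₀ a
  have hzmem : ∀ k, ∃ e, χ e = z k := fun k => by
    have hu : IsUnit (algebraMap A R' (y (Fin.natAdd n k))) :=
      isUnit_of_dvd_unit (map_dvd (algebraMap A R') (Finset.dvd_prod_of_mem (fun k => y (Fin.natAdd n k))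
        (Finset.mem_univ k))) (IsLocalization.Away.algebraMap_isUnit T₀)
    refine ⟨algebraMap A R' (y (Fin.castAdd n k)) * ↑hu.unit⁻¹, (ht k).mul_left_injective ?_⟩
    change _ * ι (t k) = z k * ι (t k)
    rw [hxt, ← hyt, ← hχ, ← map_mul, mul_assoc, IsUnit.val_inv_mul, mul_one, hχ, hyx]
  let p' : Ideal R' := (maximalIdeal H).comap χ.toRingHom
  haveI : p'.IsPrime := Ideal.IsPrime.comap _
  have hpc : p'.comap (algebraMap R R') = p := by
    ext r
    rw [Ideal.mem_comap, Ideal.mem_comap, AlgHom.toRingHom_eq_coe, RingHom.coe_coe, AlgHom.commutes, ← hπ,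
      AlgHom.commutes, Ideal.algebraMap_residueField_eq_zero]
  have hn : FlatCA.IsEtaleNhd R R' p p' := by
    refine isEtaleNhd_mk hpc fun e => ?_
    obtain ⟨r, s, hs, hrs⟩ := exists_frac_residue (π (χ e))
    refine ⟨r, s, hs, ?_⟩
    change χ _ ∈ maximalIdeal H
    rw [← hπ, map_sub, map_mul, AlgHom.commutes, AlgHom.commutes, map_sub, map_mul, AlgHom.commutes, AlgHom.commutes,
      hrs, sub_self]
  let T := Localization.AtPrime p'
  haveI : Algebra.FormallyUnramified R T :=
    haveI : Algebra.FormallyUnramified R' T := Algebra.FormallyUnramified.of_isLocalization p'.primeCompl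
    Algebra.FormallyUnramified.comp R R' T
  haveI : Algebra.EssFiniteType R T :=
    haveI : Algebra.EssFiniteType R' T := Algebra.EssFiniteType.of_isLocalization T p'.primeCompl
    Algebra.EssFiniteType.comp R R' T
  let φ : T →ₐ[R] H := IsLocalization.liftAlgHom (M := p'.primeCompl) (f := χ) fun u => notMem_maximalIdeal.1 u.2
  have hφ : ∀ b, φ (algebraMap R' T b) = χ b := fun b => IsLocalization.lift_eq _ b
  letI : Algebra T H := φ.toRingHom.toAlgebra
  haveI : IsScalarTower R T H := IsScalarTower.of_algebraMap_eq fun r => (φ.commutes r).symm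
  haveI : Module.Flat T H := UnramLib.flat_of_formallyUnramified R T H
  haveI : IsLocalHom (algebraMap T H) := ⟨fun w hw => by
    obtain ⟨b, u, rfl⟩ := IsLocalization.exists_mk'_eq p'.primeCompl w
    refine (IsLocalization.AtPrime.isUnit_mk'_iff T p' b u).2 fun hb => ?_
    have h2 := congrArg φ (IsLocalization.mk'_spec T b u)
    rw [map_mul, hφ, hφ] at h2
    exact notMem_maximalIdeal.2 (h2 ▸ IsUnit.mul hw (notMem_maximalIdeal.1 u.2)) hb⟩
  haveI : Module.FaithfullyFlat T H := @Module.FaithfullyFlat.of_flat_of_isLocalHom T H _ _ _ _ _ _ _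
  refine ⟨R', inferInstance, inferInstance, p', inferInstance, hn, inferInstance, inferInstance, inferInstance,
    IsLocalRing.maximalIdeal_comap _, fun k => ?_⟩
  · obtain ⟨e, he⟩ := hzmem k
    exact ⟨algebraMap R' T e, (hφ e).trans he⟩

end Groth.Agent.RG.Loc
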