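import Groth.Agent.RG.Loc.Hens
import Groth.Agent.RG.Loc.Common
import Groth.Agent.RG.Loc.Stage
import Groth.Agent.RG.FlatLocus
import Groth.Agent.Kaplansky.Local

/-!
# Finite modules: lifting presentations and changing models
-/

set_option autoImplicit false
set_option linter.style.haveILetI false
set_option backward.isDefEq.respectTransparency false

universe u

open TensorProduct

namespace Groth.Agent.RG.Loc

/-- a finitely presented module over `T` which agrees with `N` over `C` -/
theorem exists_fp_lift {T C : Type u} [CommRing T] [CommRing C] [Algebra T C] [Module.Flat T C] (N : Type u)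
    [AddCommGroup N] [Module T N] [Module.Finite T N] (h : Module.FinitePresentation C (C ⊗[T] N)) :
    ∃ (N₁ : Type u) (_ : AddCommGroup N₁) (_ : Module T N₁) (f : N₁ →ₗ[T] N), Module.FinitePresentation T N₁ ∧
      Function.Surjective f ∧ Function.Bijective (f.baseChange C) := by
  classical
  haveI := h
  obtain ⟨r, π, hπ⟩ := Module.Finite.exists_fin' T N
  have hsurj : Function.Surjective (π.baseChange C) := LinearMap.lTensor_surjective C hπ
  have hex : Function.Exact ((LinearMap.ker π).subtype.baseChange C) (π.baseChange C) :=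
    lTensor_exact C π.exact_subtype_ker_map hπ
  obtain ⟨G, hG⟩ := Module.FinitePresentation.fg_ker (π.baseChange C) hsurj
  have hmem : ∀ x : G, ∃ z : C ⊗[T] LinearMap.ker π, (LinearMap.ker π).subtype.baseChange C z = x.1 := fun x =>
    (hex x.1).1 (LinearMap.mem_ker.1 (hG ▸ Submodule.subset_span x.2))
  choose z hz using hmem
  choose S hS using fun x : G => TensorProduct.exists_finset (z x)
  let K₁ : Submodule T (Fin r → T) :=
    Submodule.span T ↑(Finset.univ.biUnion fun x : G => (S x).image fun p => (p.2 : Fin r → T))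
  have hle : K₁ ≤ LinearMap.ker π := Submodule.span_le.2 fun y hy => by
    obtain ⟨x, -, hy⟩ := Finset.mem_biUnion.1 hy
    obtain ⟨p, -, rfl⟩ := Finset.mem_image.1 hy
    exact p.2.2
  let f : (Fin r → T) ⧸ K₁ →ₗ[T] N := K₁.liftQ π hle
  have hfm : f ∘ₗ K₁.mkQ = π := Submodule.liftQ_mkQ _ _ _
  haveI : Module.FinitePresentation T ((Fin r → T) ⧸ K₁) :=
    Module.finitePresentation_of_surjective K₁.mkQ (Submodule.mkQ_surjective _)
      (by rw [Submodule.ker_mkQ]; exact ⟨_, rfl⟩)
  have hfs : Function.Surjective f := fun y => by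
    obtain ⟨x, rfl⟩ := hπ y
    exact ⟨K₁.mkQ x, LinearMap.congr_fun hfm x⟩
  refine ⟨_, inferInstance, inferInstance, f, inferInstance, hfs, ?_, LinearMap.lTensor_surjective C hfs⟩
  rw [injective_iff_map_eq_zero]
  intro w hw
  obtain ⟨v, rfl⟩ := LinearMap.lTensor_surjective C (Submodule.mkQ_surjective K₁) w
  have hv : π.baseChange C v = 0 := by
    rw [← hfm, LinearMap.baseChange_comp]
    exact hw
  have hv' : v ∈ Submodule.span C (G : Set (C ⊗[T] (Fin r → T))) := hG ▸ hv
  suffices h' : Submodule.span C (G : Set (C ⊗[T] (Fin r → T))) ≤ LinearMap.ker (K₁.mkQ.baseChange C) from h' hv'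
  refine Submodule.span_le.2 fun x hx => ?_
  rw [SetLike.mem_coe, LinearMap.mem_ker, show x = (LinearMap.ker π).subtype.baseChange C (z ⟨x, hx⟩) from (hz ⟨x, hx⟩).symm,
    hS ⟨x, hx⟩, map_sum, map_sum]
  refine Finset.sum_eq_zero fun p hp => ?_
  rw [LinearMap.baseChange_tmul, LinearMap.baseChange_tmul, Submodule.mkQ_apply, Submodule.subtype_apply,
    (Submodule.Quotient.mk_eq_zero _).2 (Submodule.subset_span (Finset.mem_biUnion.2
      ⟨(⟨x, hx⟩ : G), Finset.mem_univ _, Finset.mem_image.2 ⟨p, hp, rfl⟩⟩)), tmul_zero]

/-- bijective after base change to `C` gives bijective after base change to a `C`-algebra -/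
theorem bijective_baseChange {T C L : Type u} [CommRing T] [CommRing C] [CommRing L] [Algebra T C] [Algebra T L]
    [Algebra C L] [IsScalarTower T C L] {M N : Type u} [AddCommGroup M] [Module T M] [AddCommGroup N] [Module T N]
    (f : M →ₗ[T] N) (h : Function.Bijective (f.baseChange C)) : Function.Bijective (f.baseChange L) := by
  let e : L ⊗[T] M ≃ₗ[L] L ⊗[T] N := (AlgebraTensorModule.cancelBaseChange T C L L M).symm ≪≫ₗ
    AlgebraTensorModule.congr (LinearEquiv.refl L L) (LinearEquiv.ofBijective (f.baseChange C) h) ≪≫ₗ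
    AlgebraTensorModule.cancelBaseChange T C L L N
  have he : ∀ x, e x = f.baseChange L x := fun x => by
    induction x using TensorProduct.induction_on with
    | zero => rw [map_zero, map_zero]
    | add a b ha hb => rw [map_add, map_add, ha, hb]
    | tmul l m => simp [e]
  rw [show (f.baseChange L : L ⊗[T] M → L ⊗[T] N) = e from funext fun x => (he x).symm]
  exact e.bijective

/-- flatness at a point survives base change -/
theorem flat_baseChange_point {R H S B : Type u} [CommRing R] [CommRing H] [CommRing S] [CommRing B] [Algebra R H]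
    [Algebra R S] [Algebra R B] [Algebra H B] [Algebra S B] [IsScalarTower R H B] [IsScalarTower R S B]
    [Algebra.IsPushout R H S B] (q : Ideal S) [q.IsPrime] (Q : Ideal B) [Q.IsPrime]
    (hQ : Q.comap (algebraMap S B) = q) (N : Type u) [AddCommGroup N] [Module S N] [Module R N] [IsScalarTower R S N]
    (h : Module.Flat R (LocalizedModule q.primeCompl N)) :
    Module.Flat H (LocalizedModule Q.primeCompl (B ⊗[S] N)) := by
  haveI := h
  let Nq := LocalizedModule q.primeCompl N
  let L := Localization.AtPrime Q
  let Sq := Localization.AtPrime q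
  letI : Algebra Sq L := (Localization.localRingHom q Q (algebraMap S B) hQ.symm).toAlgebra
  haveI : IsScalarTower S Sq L := IsScalarTower.of_algebraMap_eq fun x => by
    rw [RingHom.algebraMap_toAlgebra, Localization.localRingHom_to_map, ← IsScalarTower.algebraMap_apply]
  haveI : Module.Flat H (B ⊗[S] Nq) :=
    Module.Flat.of_linearEquiv (Algebra.IsPushout.cancelBaseChange R H S B Nq)
  haveI : Module.Flat H (L ⊗[B] (B ⊗[S] Nq)) := Groth.Agent.FlatRes.flat_tensor
  let e : L ⊗[B] (B ⊗[S] Nq) ≃ₗ[L] L ⊗[B] (B ⊗[S] N) :=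
    AlgebraTensorModule.cancelBaseChange S B L L Nq ≪≫ₗ
      AlgebraTensorModule.congr (LinearEquiv.refl L L) ((LocalizedModule.equivTensorProduct q.primeCompl N).restrictScalars S) ≪≫ₗ
      (AlgebraTensorModule.cancelBaseChange S Sq L L (Sq ⊗[S] N)).symm ≪≫ₗ
      AlgebraTensorModule.congr (LinearEquiv.refl L L)
        (IsLocalization.moduleLid (S := q.primeCompl) (A := Sq) (M₁ := Sq ⊗[S] N)) ≪≫ₗ
      AlgebraTensorModule.cancelBaseChange S Sq L L N ≪≫ₗ
      (AlgebraTensorModule.cancelBaseChange S B L L N).symm
  exact Module.Flat.of_linearEquiv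
    ((LocalizedModule.equivTensorProduct Q.primeCompl (B ⊗[S] N)).restrictScalars H ≪≫ₗ e.symm.restrictScalars H)

/-- faithful flatness along a pushout -/
theorem ff_of_isPushout {A H B B' : Type u} [CommRing A] [CommRing H] [CommRing B] [CommRing B'] [Algebra A H]
    [Algebra A B] [Algebra A B'] [Algebra H B'] [Algebra B B'] [IsScalarTower A H B'] [IsScalarTower A B B']
    [Algebra.IsPushout A B H B'] [Module.FaithfullyFlat A H] : Module.FaithfullyFlat B B' :=
  Module.FaithfullyFlat.of_linearEquiv B (B ⊗[A] H) (IsBaseChange.equiv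
    (Algebra.IsPushout.out (R := A) (S := B) (R' := H) (S' := B'))).symm

/-- flatness at a point only depends on the module over a localisation through the point -/
theorem flat_point_congr {R T L : Type u} [CommRing R] [CommRing T] [CommRing L] [Algebra R T] [Algebra R L]
    [Algebra T L] [IsScalarTower R T L] (q : Ideal T) [q.IsPrime] [IsLocalization.AtPrime L q] {M N : Type u}
    [AddCommGroup M] [Module T M] [Module R M] [IsScalarTower R T M] [AddCommGroup N] [Module T N] [Module R N]
    [IsScalarTower R T N] (f : M →ₗ[T] N) (hf : Function.Bijective (f.baseChange L))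
    (h : Module.Flat R (LocalizedModule q.primeCompl N)) : Module.Flat R (LocalizedModule q.primeCompl M) := by
  haveI := h
  let gM : M →ₗ[T] L ⊗[T] M := TensorProduct.mk T L M 1
  let gN : N →ₗ[T] L ⊗[T] N := TensorProduct.mk T L N 1
  haveI : IsLocalizedModule q.primeCompl gM :=
    (isLocalizedModule_iff_isBaseChange q.primeCompl L gM).2 (TensorProduct.isBaseChange T M L)
  haveI : IsLocalizedModule q.primeCompl gN :=
    (isLocalizedModule_iff_isBaseChange q.primeCompl L gN).2 (TensorProduct.isBaseChange T N L)
  exact Module.Flat.of_linearEquiv (((IsLocalizedModule.iso q.primeCompl gM).restrictScalars R) ≪≫ₗ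
    ((LinearEquiv.ofBijective (f.baseChange L) hf).restrictScalars R) ≪≫ₗ
    ((IsLocalizedModule.iso q.primeCompl gN).restrictScalars R).symm)

end Groth.Agent.RG.Loc
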