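import Groth.Agent.RG.Loc.Regular
import Mathlib.RingTheory.Flat.FaithfullyFlat.Algebra
import Mathlib.RingTheory.Flat.Localization

/-!
# Descending projectivity to a basic open inside the image of a flat cover
-/

set_option autoImplicit false
set_option linter.style.haveILetI false
set_option backward.isDefEq.respectTransparency false

universe u

open TensorProduct

namespace Groth.Agent.RG.Loc

theorem projective_of_cover {R A C : Type u} [CommRing R] [CommRing A] [CommRing C] [Algebra R A] [Algebra R C]
    [Algebra A C] [IsScalarTower R A C] [Algebra.FiniteType R A] [Algebra.FiniteType R C] [Module.Flat A C]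
    (M : Type u) [AddCommGroup M] [Module A M] [Module R M] [IsScalarTower R A M] [Module.Finite A M]
    [Module.Projective R (C ⊗[A] M)] (g : A)
    (hg : ∀ (t : Ideal R) [t.IsPrime],
      Function.Injective (Pure.act R t.ResidueField (N := C ⊗[A] M) (algebraMap A C g)))
    (hrange : ∀ P : PrimeSpectrum A, g ∉ P.asIdeal → P ∈ Set.range (PrimeSpectrum.comap (algebraMap A C))) :
    Module.Projective R (LocalizedModule (Submonoid.powers g) M) := by
  haveI := projective_powers (C ⊗[A] M) (algebraMap A C g) hg
  let Ag := Localization (Submonoid.powers g)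
  let Cg := Localization (Submonoid.powers (algebraMap A C g))
  let Mg := LocalizedModule (Submonoid.powers g) M
  have hle : Submonoid.powers g ≤ (Submonoid.powers (algebraMap A C g)).comap (algebraMap A C) := by
    rintro _ ⟨k, rfl⟩
    exact ⟨k, (map_pow _ _ _).symm⟩
  letI : Algebra Ag Cg := (IsLocalization.map Cg (algebraMap A C) hle : Ag →+* Cg).toAlgebra
  haveI : IsScalarTower A Ag Cg := IsScalarTower.of_algebraMap_eq fun a => by
    rw [RingHom.algebraMap_toAlgebra, IsLocalization.map_eq, IsScalarTower.algebraMap_apply A C Cg]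
  haveI : IsScalarTower R Ag Cg := IsScalarTower.of_algebraMap_eq fun r => by
    rw [IsScalarTower.algebraMap_apply R A Ag, ← IsScalarTower.algebraMap_apply A Ag Cg, ← IsScalarTower.algebraMap_apply]
  haveI : Algebra.FiniteType R Ag := Algebra.FiniteType.trans (S := A) inferInstance (IsLocalization.finiteType_of_monoid_fg (Submonoid.powers g) Ag)
  haveI : Module.Flat C Cg := IsLocalization.flat Cg (Submonoid.powers (algebraMap A C g))
  haveI : Module.Flat A Cg := Module.Flat.trans A C Cg
  haveI : Module.Flat Ag Cg := (Module.flat_iff_of_isLocalization Ag (Submonoid.powers g) Cg).2 inferInstance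
  haveI : Module.FaithfullyFlat Ag Cg := by
    refine Module.FaithfullyFlat.of_comap_surjective fun P => ?_
    let P₀ := PrimeSpectrum.comap (algebraMap A Ag) P
    have hgP : g ∉ P₀.asIdeal := fun h =>
      P.isPrime.ne_top (P.asIdeal.eq_top_of_isUnit_mem h (IsLocalization.map_units Ag ⟨g, Submonoid.mem_powers g⟩))
    obtain ⟨Q, hQ⟩ := hrange P₀ hgP
    have hgQ : Disjoint (Submonoid.powers (algebraMap A C g) : Set C) (Q.asIdeal : Set C) := by
      rw [Ideal.disjoint_powers_iff_notMem_of_isPrime]
      intro h
      refine hgP ?_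
      rw [← hQ]
      exact h
    refine ⟨⟨Q.asIdeal.map (algebraMap C Cg), IsLocalization.isPrime_of_isPrime_disjoint _ Cg _ Q.isPrime hgQ⟩,
      PrimeSpectrum.localization_comap_injective Ag (Submonoid.powers g) (PrimeSpectrum.ext ?_)⟩
    change ((Q.asIdeal.map (algebraMap C Cg)).comap (algebraMap Ag Cg)).comap (algebraMap A Ag) = P₀.asIdeal
    rw [Ideal.comap_comap, ← IsScalarTower.algebraMap_eq A Ag Cg, IsScalarTower.algebraMap_eq A C Cg,
      ← Ideal.comap_comap]
    refine Eq.trans ?_ (congrArg PrimeSpectrum.asIdeal hQ)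
    exact congrArg (Ideal.comap (algebraMap A C)) (IsLocalization.comap_map_of_isPrime_disjoint (Submonoid.powers (algebraMap A C g)) Cg Q.isPrime hgQ)
  let e1 : Cg ⊗[Ag] Mg ≃ₗ[Cg] Cg ⊗[A] M :=
    (AlgebraTensorModule.congr (LinearEquiv.refl Cg Cg) (LocalizedModule.equivTensorProduct (Submonoid.powers g) M)) ≪≫ₗ
      AlgebraTensorModule.cancelBaseChange A Ag Cg Cg M
  let e2 : LocalizedModule (Submonoid.powers (algebraMap A C g)) (C ⊗[A] M) ≃ₗ[Cg] Cg ⊗[A] M :=
    (LocalizedModule.equivTensorProduct (Submonoid.powers (algebraMap A C g)) (C ⊗[A] M)) ≪≫ₗ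
      AlgebraTensorModule.cancelBaseChange A C Cg Cg M
  refine projective_of_faithfullyFlat (B := Ag) Mg Cg ?_
  exact Module.Projective.of_equiv ((e2.trans e1.symm).restrictScalars R)

end Groth.Agent.RG.Loc
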