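import Groth.Agent.RG.Loc.OpenPure

/-!
Fibrewise injectivity at the generisations of a prime descends to a subring generated by finitely many elements.
-/

set_option autoImplicit false
set_option linter.style.haveILetI false
set_option backward.isDefEq.respectTransparency false

universe u

open TensorProduct

namespace Groth.Agent.RG.Loc

attribute [local instance] Algebra.TensorProduct.rightAlgebra in
/-- injectivity in the fibres at all generisations of `p` descends to the subrings containing finitely many elements -/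
theorem exists_finset_injective {R₁ S₁ M₁ M₂ A : Type u} [CommRing R₁] [IsNoetherianRing R₁] [CommRing S₁]
    [Algebra R₁ S₁] [Algebra.FiniteType R₁ S₁] [AddCommGroup M₁] [Module S₁ M₁] [Module R₁ M₁] [IsScalarTower R₁ S₁ M₁]
    [Module.Finite S₁ M₁] [AddCommGroup M₂] [Module S₁ M₂] [Module R₁ M₂] [IsScalarTower R₁ S₁ M₂] [Module.Finite S₁ M₂]
    [CommRing A] [Algebra R₁ A] (p : Ideal A) [p.IsPrime] (v : M₁ →ₗ[S₁] M₂)
    (h : ∀ (t : Ideal A) [t.IsPrime], t ≤ p → Function.Injective ((v.restrictScalars R₁).lTensor t.ResidueField)) :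
    ∃ F : Finset A, ∀ (C : Type u) [CommRing C] [Algebra R₁ C] (φ : C →ₐ[R₁] A), Function.Injective φ →
      (∀ a ∈ F, a ∈ Set.range φ) → ∀ (t : Ideal C) [t.IsPrime], t ≤ p.comap φ.toRingHom →
        Function.Injective ((v.restrictScalars R₁).lTensor t.ResidueField) := by
  classical
  let μ := v.restrictScalars R₁
  suffices key : ∀ J : Ideal R₁, ∃ F : Finset A, ∀ (C : Type u) [CommRing C] [Algebra R₁ C] (φ : C →ₐ[R₁] A),
      Function.Injective φ → (∀ a ∈ F, a ∈ Set.range φ) → ∀ (t : Ideal C) [t.IsPrime], t ≤ p.comap φ.toRingHom →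
        J.map (algebraMap R₁ C) ≤ t → Function.Injective (μ.lTensor t.ResidueField) by
    obtain ⟨F, hF⟩ := key ⊥
    exact ⟨F, fun C _ _ φ hφ hr t _ ht => hF C φ hφ hr t ht (by simp)⟩
  intro J
  induction J using WellFoundedGT.induction with
  | ind P ih =>
  by_cases htop : P = ⊤
  · exact ⟨∅, fun C _ _ φ _ _ t ht _ hle => absurd (top_le_iff.1 (by rwa [htop, Ideal.map_top] at hle)) ht.ne_top⟩
  have hsup : ∀ {C : Type u} [CommRing C] [Algebra R₁ C] {t : Ideal C}, P.map (algebraMap R₁ C) ≤ t →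
      ∀ x, algebraMap R₁ C x ∈ t → (P ⊔ Ideal.span {x}).map (algebraMap R₁ C) ≤ t := fun {C} _ _ {t} hle x hx => by
    rw [Ideal.map_sup, Ideal.map_span, Set.image_singleton]
    exact sup_le hle ((Ideal.span_singleton_le_iff_mem t).2 hx)
  have hlt : ∀ {x : R₁}, x ∉ P → P < P ⊔ Ideal.span {x} := fun {x} hx =>
    lt_of_le_of_ne le_sup_left fun he => hx (he ▸ Ideal.mem_sup_right (Ideal.mem_span_singleton_self x))
  by_cases hP : P.IsPrime
  swap
  · obtain ⟨a, ha, b, hb, hab⟩ := (Ideal.not_isPrime_iff.1 hP).resolve_left htop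
    obtain ⟨F₁, h₁⟩ := ih _ (hlt ha)
    obtain ⟨F₂, h₂⟩ := ih _ (hlt hb)
    refine ⟨F₁ ∪ F₂, fun C _ _ φ hφ hr t ht htp hle => ?_⟩
    have habt : algebraMap R₁ C (a * b) ∈ t := hle (Ideal.mem_map_of_mem _ hab)
    rw [map_mul] at habt
    rcases ht.mem_or_mem habt with hx | hx
    · exact h₁ C φ hφ (fun z hz => hr z (Finset.mem_union_left _ hz)) t htp (hsup hle a hx)
    · exact h₂ C φ hφ (fun z hz => hr z (Finset.mem_union_right _ hz)) t htp (hsup hle b hx)
  haveI := hP
  by_cases hw : ∃ (t : Ideal A), t.IsPrime ∧ t ≤ p ∧ t.comap (algebraMap R₁ A) = P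
  swap
  · -- no generisation of `p` lies exactly over `P`
    let M : Submonoid A := Algebra.algebraMapSubmonoid A P.primeCompl ⊔ p.primeCompl
    have hnd : ¬ Disjoint (P.map (algebraMap R₁ A) : Set A) (M : Set A) := fun hdis => by
      obtain ⟨Q, hQ, hle, hdQ⟩ := Ideal.exists_le_prime_disjoint _ _ hdis
      refine hw ⟨Q, hQ, fun x hx => ?_, le_antisymm (fun r hr => ?_) (Ideal.map_le_iff_le_comap.1 hle)⟩
      · by_contra hxp
        exact Set.disjoint_left.1 hdQ hx ((le_sup_right : p.primeCompl ≤ M) hxp)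
      · by_contra hrP
        exact Set.disjoint_left.1 hdQ (Ideal.mem_comap.1 hr)
          ((le_sup_left : Algebra.algebraMapSubmonoid A P.primeCompl ≤ M) ⟨r, hrP, rfl⟩)
    obtain ⟨x, hx, hxM⟩ := Set.not_disjoint_iff.1 hnd
    obtain ⟨_, ⟨d, hd, rfl⟩, c, hc, rfl⟩ := Submonoid.mem_sup.1 hxM
    obtain ⟨F₁, h₁⟩ := ih _ (hlt hd)
    obtain ⟨T, hT⟩ := (IsNoetherian.noetherian P : P.FG)
    rw [SetLike.mem_coe, ← hT, Ideal.map_span, ← Finset.coe_image] at hx
    obtain ⟨f, hf⟩ := Submodule.mem_span_finset'.1 hx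
    refine ⟨F₁ ∪ insert c (Finset.univ.image f), fun C _ _ φ hφ hr t ht htp hle => ?_⟩
    obtain ⟨c', hc'⟩ := hr c (Finset.mem_union_right _ (Finset.mem_insert_self _ _))
    choose f' hf' using fun y => hr (f y)
      (Finset.mem_union_right _ (Finset.mem_insert_of_mem (Finset.mem_image_of_mem f (Finset.mem_univ y))))
    have hmem : algebraMap R₁ C d * c' ∈ P.map (algebraMap R₁ C) := by
      have hpre : ∀ y : (T.image (algebraMap R₁ A) : Finset A), ∃ x ∈ P, algebraMap R₁ A x = y := fun y => by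
        obtain ⟨x, hx, hxy⟩ := Finset.mem_image.1 y.2
        exact ⟨x, hT ▸ Submodule.subset_span hx, hxy⟩
      choose g hgP hg using hpre
      have heq : algebraMap R₁ C d * c' = ∑ y, f' y * algebraMap R₁ C (g y) := hφ (by
        rw [map_mul, map_sum, hc', AlgHom.commutes, ← hf]
        refine Finset.sum_congr rfl fun y _ => ?_
        rw [map_mul, hf', AlgHom.commutes, hg, smul_eq_mul])
      rw [heq]
      exact sum_mem fun y _ => Ideal.mul_mem_left _ _ (Ideal.mem_map_of_mem _ (hgP y))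
    have hc't : c' ∉ t := fun hm => hc (by
      have h2 := htp hm
      rw [Ideal.mem_comap] at h2
      exact hc' ▸ h2)
    exact h₁ C φ hφ (fun z hz => hr z (Finset.mem_union_left _ hz)) t htp
      (hsup hle d ((ht.mem_or_mem (hle hmem)).resolve_right hc't))
  obtain ⟨t₁, _, ht₁, ht₁P⟩ := hw
  let C := M₂ ⧸ LinearMap.range v
  let π₀ : M₂ →ₗ[S₁] C := (LinearMap.range v).mkQ
  let D := C × M₁
  let Rb := R₁ ⧸ P
  let Sb := Rb ⊗[R₁] S₁
  let Db := Sb ⊗[S₁] D
  obtain ⟨f, -, hf0, hfree, -, -, -⟩ :=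
    GenFree.generic_freeness_reduced (R := Rb) (S := Sb) (M := Db) (a := 1) one_ne_zero
  let L := Localization.Away f
  haveI : Module.Free L (L ⊗[R₁] D) :=
    haveI := hfree
    Module.Free.of_equiv (((LocalizedModule.equivTensorProduct (Submonoid.powers f) Db).trans
      (AlgebraTensorModule.congr (LinearEquiv.refl L L) (Algebra.IsPushout.cancelBaseChange R₁ Rb S₁ Sb D))).trans
      (AlgebraTensorModule.cancelBaseChange R₁ Rb L L D))
  haveI : Module.Projective L (L ⊗[R₁] C) :=
    Module.Projective.of_split ((LinearMap.inl R₁ C M₁).baseChange L) ((LinearMap.fst R₁ C M₁).baseChange L)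
      (by rw [← LinearMap.baseChange_comp, LinearMap.fst_comp_inl, LinearMap.baseChange_id])
  haveI : Module.Projective L (L ⊗[R₁] M₁) :=
    Module.Projective.of_split ((LinearMap.inr R₁ C M₁).baseChange L) ((LinearMap.snd R₁ C M₁).baseChange L)
      (by rw [← LinearMap.baseChange_comp, LinearMap.snd_comp_inr, LinearMap.baseChange_id])
  obtain ⟨f₀, rfl⟩ := Ideal.Quotient.mk_surjective f
  have hf₀ : f₀ ∉ P := fun h => hf0 (Ideal.Quotient.eq_zero_iff_mem.2 h)
  obtain ⟨F₀, h₀⟩ := ih _ (hlt hf₀)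
  refine ⟨F₀, fun E _ _ φ hφ hr t ht htp hle => ?_⟩
  by_cases hft : algebraMap R₁ E f₀ ∈ t
  · exact h₀ E φ hφ hr t htp (hsup hle f₀ hft)
  have hmap : ∀ {E : Type u} [CommRing E] [Algebra R₁ E] (Q : Ideal E) [Q.IsPrime],
      P.map (algebraMap R₁ E) ≤ Q → algebraMap R₁ E f₀ ∉ Q →
      ∃ ρ : L →+* Q.ResidueField, ρ.comp (algebraMap R₁ L) = algebraMap R₁ Q.ResidueField := by
    intro E _ _ Q _ hQ hfQ
    let ρb : Rb →+* Q.ResidueField := Ideal.Quotient.lift P (algebraMap R₁ Q.ResidueField) fun a ha => by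
      rw [IsScalarTower.algebraMap_apply R₁ E Q.ResidueField]
      exact Ideal.algebraMap_residueField_eq_zero.2 (hQ (Ideal.mem_map_of_mem _ ha))
    have hu : IsUnit (ρb (Ideal.Quotient.mk P f₀)) := isUnit_iff_ne_zero.2 fun h0 => hfQ (by
      rw [Ideal.Quotient.lift_mk, IsScalarTower.algebraMap_apply R₁ E Q.ResidueField] at h0
      exact Ideal.algebraMap_residueField_eq_zero.1 h0)
    refine ⟨IsLocalization.Away.lift (Ideal.Quotient.mk P f₀) hu, ?_⟩
    ext a
    rw [RingHom.comp_apply, IsScalarTower.algebraMap_apply R₁ Rb L, IsLocalization.Away.lift_eq]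
    rfl
  let vL := μ.baseChange L
  have h1 : Function.Exact ⇑μ ⇑(π₀.restrictScalars R₁) := by
    simp only [μ, LinearMap.coe_restrictScalars]
    exact LinearMap.exact_map_mkQ_range v
  have h1' : Function.Surjective ⇑(π₀.restrictScalars R₁) := by
    rw [LinearMap.coe_restrictScalars]
    exact Submodule.mkQ_surjective _
  obtain ⟨hex, hsurj⟩ := exact_baseChange' (R := R₁) L h1 h1'
  have ht₁P' : ∀ a, algebraMap R₁ A a ∈ t₁ ↔ a ∈ P := fun a => by rw [← ht₁P]; rfl
  have hvinj : Function.Injective vL := by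
    obtain ⟨ρ, hρ⟩ := hmap t₁ (Ideal.map_le_iff_le_comap.2 ht₁P.ge) fun hm => hf₀ ((ht₁P' f₀).1 hm)
    letI : Algebra L t₁.ResidueField := ρ.toAlgebra
    haveI : IsScalarTower R₁ L t₁.ResidueField := IsScalarTower.of_algebraMap_eq' hρ.symm
    have hρinj : Function.Injective ρ := by
      rw [injective_iff_map_eq_zero]
      intro x hx
      obtain ⟨a, s, rfl⟩ := IsLocalization.exists_mk'_eq (Submonoid.powers (Ideal.Quotient.mk P f₀)) x
      obtain ⟨a₀, rfl⟩ := Ideal.Quotient.mk_surjective a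
      have h3 := congrArg ρ (IsLocalization.mk'_spec L (Ideal.Quotient.mk P a₀) s)
      rw [map_mul, hx, zero_mul, show algebraMap Rb L (Ideal.Quotient.mk P a₀) = algebraMap R₁ L a₀ from
        (IsScalarTower.algebraMap_apply R₁ Rb L a₀).symm, ← RingHom.comp_apply, hρ,
        IsScalarTower.algebraMap_apply R₁ A t₁.ResidueField] at h3
      rw [Ideal.Quotient.eq_zero_iff_mem.2 ((ht₁P' a₀).1 (Ideal.algebraMap_residueField_eq_zero.1 h3.symm)),
        IsLocalization.mk'_zero]
    have h2 : Function.Injective ((μ.baseChange L).lTensor t₁.ResidueField) :=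
      (Pure.injective_lTensor_baseChange μ t₁.ResidueField).2 (h t₁ ht₁)
    let ι : L ⊗[R₁] M₁ →ₗ[L] t₁.ResidueField ⊗[L] (L ⊗[R₁] M₁) :=
      (Algebra.linearMap L t₁.ResidueField).rTensor _ ∘ₗ (TensorProduct.lid L _).symm.toLinearMap
    have hι : Function.Injective ι := by
      simp only [ι, LinearMap.coe_comp, LinearEquiv.coe_coe]
      exact (Module.Flat.rTensor_preserves_injective_linearMap (Algebra.linearMap L t₁.ResidueField) hρinj).comp
        (LinearEquiv.injective _)
    intro a b hab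
    refine hι (h2 ?_)
    let ι₂ : L ⊗[R₁] M₂ →ₗ[L] t₁.ResidueField ⊗[L] (L ⊗[R₁] M₂) :=
      (Algebra.linearMap L t₁.ResidueField).rTensor _ ∘ₗ (TensorProduct.lid L _).symm.toLinearMap
    have : ∀ w, (μ.baseChange L).lTensor t₁.ResidueField (ι w) = ι₂ (vL w) := fun w => by simp [ι, ι₂, vL]
    rw [this, this, hab]
  obtain ⟨ρ, hρ⟩ := hmap t hle hft
  letI : Algebra L t.ResidueField := ρ.toAlgebra
  haveI : IsScalarTower R₁ L t.ResidueField := IsScalarTower.of_algebraMap_eq' hρ.symm
  exact (Pure.injective_lTensor_baseChange μ t.ResidueField).1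
    (injective_lTensor_of_projective_coker' vL _ hvinj hex hsurj t.ResidueField)

attribute [local instance] Algebra.TensorProduct.rightAlgebra in
/-- joint regularity in a fibre as injectivity of one map -/
theorem joint_iff {R₁ S₁ M₁ A B N : Type u} [CommRing R₁] [CommRing S₁]
    [Algebra R₁ S₁] [AddCommGroup M₁] [Module S₁ M₁] [Module R₁ M₁] [IsScalarTower R₁ S₁ M₁]
    [CommRing A] [CommRing B] [Algebra A B] [Algebra R₁ A] [Algebra S₁ B] [Algebra R₁ B]
    [IsScalarTower R₁ A B] [IsScalarTower R₁ S₁ B] [Algebra.IsPushout R₁ A S₁ B] [AddCommGroup N] [Module B N]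
    [Module A N] [IsScalarTower A B N] [Module S₁ N] [IsScalarTower S₁ B N] (f₁ : M₁ →ₗ[S₁] N) (hf₁ : IsBaseChange B f₁)
    {m : ℕ} (s : Fin m → S₁) (t : Ideal A) [t.IsPrime] :
    Function.Injective ((((LinearMap.pi fun i => LinearMap.lsmul S₁ M₁ (s i)) : M₁ →ₗ[S₁] (Fin m → M₁)).restrictScalars
        R₁).lTensor t.ResidueField) ↔
      ∀ z : t.ResidueField ⊗[A] N, (∀ i, Pure.act A t.ResidueField (algebraMap S₁ B (s i)) z = 0) → z = 0 := by
  classical
  let v : M₁ →ₗ[S₁] (Fin m → M₁) := LinearMap.pi fun i => LinearMap.lsmul S₁ M₁ (s i)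
  letI : Module R₁ N := Module.compHom N (algebraMap R₁ A)
  haveI : IsScalarTower R₁ A N := IsScalarTower.of_algebraMap_smul fun _ _ => rfl
  haveI : IsScalarTower R₁ S₁ N := IsScalarTower.of_algebraMap_smul fun r x => by
    rw [← algebraMap_smul B (algebraMap R₁ S₁ r), ← IsScalarTower.algebraMap_apply,
      IsScalarTower.algebraMap_apply R₁ A B, algebraMap_smul]
    rfl
  have hfA : IsBaseChange A (f₁.restrictScalars R₁) :=
    IsBaseChange.of_equiv ((Algebra.IsPushout.cancelBaseChange R₁ A S₁ B M₁).symm ≪≫ₗ hf₁.equiv.restrictScalars A)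
      fun x => by
        simp only [LinearEquiv.trans_apply, Algebra.IsPushout.cancelBaseChange_symm_tmul, LinearEquiv.restrictScalars_apply,
          IsBaseChange.equiv_tmul, map_one, one_smul, LinearMap.coe_restrictScalars]
  change Function.Injective ((v.restrictScalars R₁).lTensor t.ResidueField) ↔ _
  let K := t.ResidueField
  let γ : K ⊗[R₁] M₁ ≃ₗ[K] K ⊗[A] N := (IsBaseChange.comp hfA (TensorProduct.isBaseChange A N K)).equiv
  have hγ : ∀ (k : K) (x : M₁), γ (k ⊗ₜ x) = k ⊗ₜ f₁ x := fun k x => by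
    simp only [γ, IsBaseChange.equiv_tmul, LinearMap.comp_apply, LinearMap.coe_restrictScalars, TensorProduct.mk_apply,
      TensorProduct.smul_tmul', smul_eq_mul, mul_one]
  let π := TensorProduct.piRight R₁ K K fun _ : Fin m => M₁
  have key : ∀ (w : K ⊗[R₁] M₁) (i : Fin m),
      γ (π ((v.restrictScalars R₁).lTensor K w) i) = Pure.act A K (algebraMap S₁ B (s i)) (γ w) := by
    intro w i
    induction w using TensorProduct.induction_on with
    | zero => simp
    | tmul k x =>
      rw [LinearMap.lTensor_tmul, TensorProduct.piRight_apply, TensorProduct.piRightHom_tmul, hγ, hγ, Pure.act_tmul,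
        algebraMap_smul]
      simp [v]
    | add a b ha hb => simp only [map_add, Pi.add_apply, ha, hb]
  rw [injective_iff_map_eq_zero]
  refine ⟨fun h z hz => ?_, fun h w hw => ?_⟩
  · obtain ⟨w, rfl⟩ := γ.surjective z
    rw [h w (π.injective (funext fun i => γ.injective ?_)), map_zero]
    rw [key, hz i, map_zero]
    simp
  · refine γ.injective ((h (γ w) fun i => ?_).trans (map_zero γ).symm)
    rw [← key, hw, map_zero, Pi.zero_apply, map_zero]

end Groth.Agent.RG.Loc
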