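import Groth.Agent.RG.Loc.DescendInj
import Groth.Agent.RG.Loc.HensStructure
import Groth.Agent.S0585

/-!
Flatness and purity along a fibre descend to the subrings containing finitely many elements.
-/

set_option autoImplicit false
set_option linter.style.haveILetI false
set_option backward.isDefEq.respectTransparency false

universe u

open TensorProduct IsLocalRing

namespace Groth.Agent.RG.Loc

/-- A prime of the base change of an étale neighbourhood is determined by its two images. -/
theorem eq_of_nhd {R R' S : Type u} [CommRing R] [CommRing R'] [CommRing S] [Algebra R R'] [Algebra R S]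
    {p : Ideal R} [p.IsPrime] {p' : Ideal R'} [p'.IsPrime] (hn : FlatCA.IsEtaleNhd R R' p p')
    (Q₁ Q₂ : Ideal (R' ⊗[R] S)) [Q₁.IsPrime] [Q₂.IsPrime]
    (h₁ : Q₁.comap (algebraMap R' (R' ⊗[R] S)) = p') (h₂ : Q₂.comap (algebraMap R' (R' ⊗[R] S)) = p')
    (h : letI : Algebra S (R' ⊗[R] S) := Algebra.TensorProduct.rightAlgebra
      Q₁.comap (algebraMap S (R' ⊗[R] S)) = Q₂.comap (algebraMap S (R' ⊗[R] S))) : Q₁ = Q₂ := by
  letI : Algebra S (R' ⊗[R] S) := Algebra.TensorProduct.rightAlgebra
  ext x
  obtain ⟨s, y, hs, hsy⟩ := exists_approx hn x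
  rw [mem_iff_of_nhd hn h₁ hs hsy, mem_iff_of_nhd hn h₂ hs hsy, h]

/-- Projective at the prime: pure along the fibre. -/
theorem isPureAlong_of_projective {A B : Type u} [CommRing A] [CommRing B] [Algebra A B] (N : Type u) [AddCommGroup N]
    [Module B N] [Module A N] [IsScalarTower A B N] (p : Ideal A) [p.IsPrime]
    [Module.Projective (Localization.AtPrime p) (LocalizedModule p.primeCompl N)] : FlatCA.IsPureAlong A B N p :=
  fun A' B' N' _ _ _ _ _ _ _ _ _ _ _ _ _ _ f t' t _ _ P _ _ =>
    Pure.isUnivPureAlong_of_projective N p A' B' N' f t' t P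

/-- A prime over `q` sees a localisation of the module localised at `q`. -/
theorem flat_localized_over {R S : Type u} [CommRing R] [CommRing S] [Algebra R S] (q : Ideal R) [q.IsPrime]
    (Q : Ideal S) [Q.IsPrime] (hQ : Q.comap (algebraMap R S) = q) (M : Type u) [AddCommGroup M] [Module S M]
    [Module R M] [IsScalarTower R S M] [Module.Flat R (LocalizedModule q.primeCompl M)] :
    Module.Flat R (LocalizedModule Q.primeCompl M) := by
  let U : Submonoid S := Algebra.algebraMapSubmonoid S q.primeCompl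
  have hU : U ≤ Q.primeCompl := by
    rintro _ ⟨s, hs, rfl⟩ hm
    exact hs (hQ ▸ hm)
  let gB : M →ₗ[R] LocalizedModule U M := (LocalizedModule.mkLinearMap U M).restrictScalars R
  haveI : IsLocalizedModule q.primeCompl gB := IsLocalizedModule.restrictScalars _ _
  haveI : Module.Flat R (LocalizedModule U M) :=
    Module.Flat.of_linearEquiv (IsLocalizedModule.iso q.primeCompl gB).symm
  exact InjFibre.flat_localized Q.primeCompl
    (IsLocalizedModule.liftOfLE _ _ hU (LocalizedModule.mkLinearMap U M) (LocalizedModule.mkLinearMap Q.primeCompl M))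

attribute [local instance] Algebra.TensorProduct.rightAlgebra in
/-- Covered by projective pieces and jointly regular in all fibres over a henselian ring: projective. -/
theorem projective_henselian_of_joint {R₀ R' S₀ H : Type u} [CommRing R₀] [CommRing R'] [CommRing S₀] [CommRing H]
    [HenselianLocalRing H] [Algebra R₀ R'] [Algebra R' H] [Algebra R₀ H] [IsScalarTower R₀ R' H] [Algebra R₀ S₀]
    [Algebra.FiniteType R₀ S₀] (M₀ : Type u) [AddCommGroup M₀] [Module S₀ M₀] [Module R₀ M₀] [IsScalarTower R₀ S₀ M₀]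
    [Module.Finite S₀ M₀] [Module.Flat H (H ⊗[R₀] M₀)] {m : ℕ} (h : Fin m → R' ⊗[R₀] S₀)
    (hproj : ∀ i, Module.Projective R' (Localization.Away (h i) ⊗[S₀] M₀))
    (hjoint : ∀ (p' : Ideal H) [p'.IsPrime], Function.Injective
      ((((LinearMap.pi fun i => LinearMap.lsmul (R' ⊗[R₀] S₀) ((R' ⊗[R₀] S₀) ⊗[S₀] M₀) (h i)) :
        ((R' ⊗[R₀] S₀) ⊗[S₀] M₀) →ₗ[R' ⊗[R₀] S₀] (Fin m → (R' ⊗[R₀] S₀) ⊗[S₀] M₀)).restrictScalars R').lTensor
          p'.ResidueField)) :
    Module.Projective H (H ⊗[R₀] M₀) := by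
  classical
  let S := H ⊗[R₀] S₀
  let S' := R' ⊗[R₀] S₀
  let NH := S ⊗[S₀] M₀
  haveI : Algebra.FiniteType H S := inferInstance
  haveI : Module.Finite S NH := inferInstance
  let eN : NH ≃ₗ[H] H ⊗[R₀] M₀ := Algebra.IsPushout.cancelBaseChange R₀ H S₀ S M₀
  haveI : Module.Flat H NH := Module.Flat.of_linearEquiv eN
  let φ : R' →ₐ[R₀] H := IsScalarTower.toAlgHom R₀ R' H
  let Φ : S' →ₐ[R₀] S := Algebra.TensorProduct.map φ (AlgHom.id R₀ S₀)
  letI : Algebra S' S := Φ.toRingHom.toAlgebra
  haveI : IsScalarTower S₀ S' S := IsScalarTower.of_algebraMap_eq fun b => by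
    change (1 : H) ⊗ₜ[R₀] b = Φ ((1 : R') ⊗ₜ[R₀] b)
    exact ((Algebra.TensorProduct.map_tmul _ _ _ _).trans (by rw [map_one]; rfl)).symm
  haveI : IsScalarTower R' S' S := IsScalarTower.of_algebraMap_eq fun a => by
    change algebraMap R' H a ⊗ₜ[R₀] (1 : S₀) = Φ (a ⊗ₜ[R₀] (1 : S₀))
    exact ((Algebra.TensorProduct.map_tmul _ _ _ _).trans (by rw [map_one]; rfl)).symm
  haveI : IsScalarTower R₀ S' S := IsScalarTower.of_algebraMap_eq fun a => (Φ.commutes a).symm
  haveI hpo : Algebra.IsPushout R' H S' S :=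
    (Algebra.IsPushout.comp_iff R₀ R' S₀ S' (T := H) (T' := S)).1 inferInstance
  let M' := S' ⊗[S₀] M₀
  let f : M' →ₗ[S'] NH := (TensorProduct.mk S₀ S M₀ 1).liftBaseChange S'
  have hf : IsBaseChange S f := IsBaseChange.of_comp (TensorProduct.isBaseChange S₀ M₀ S') (by
    have : (f.restrictScalars S₀) ∘ₗ TensorProduct.mk S₀ S' M₀ 1 = TensorProduct.mk S₀ S M₀ 1 := LinearMap.ext fun x => by
      change (TensorProduct.mk S₀ S M₀ 1).liftBaseChange S' ((1 : S') ⊗ₜ[S₀] x) = _
      rw [LinearMap.liftBaseChange_tmul, one_smul]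
    rw [this]
    exact TensorProduct.isBaseChange S₀ M₀ S)
  obtain ⟨-, hctn⟩ := Pure.henselian_core (H := H) (S := S) NH
    (fun Q _ _ => InjFibre.flat_localized Q.primeCompl (LocalizedModule.mkLinearMap Q.primeCompl NH))
    (fun p' _ σ hσ => by
      have hj := (joint_iff (R₁ := R') (A := H) (B := S) f hf h p').1 (hjoint p')
      obtain ⟨i, hi⟩ := exists_notMem_of_joint (R := H) (S := S) (N := NH) (fun i => algebraMap S' S (h i)) hj hσ
      have hp : Module.Projective H (Localization.Away (algebraMap S' S (h i)) ⊗[S₀] M₀) :=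
        projective_away_baseChange (R := H) (A := S) (S₀ := S₀) (S := S₀) (LinearMap.id : M₀ →ₗ[S₀] M₀)
          (IsBaseChange.ofEquiv (LinearEquiv.refl S₀ M₀)) (h i) (hproj i)
      haveI := hp
      exact exists_above_of_piece NH (algebraMap S' S (h i))
        (Module.Projective.of_equiv ((AlgebraTensorModule.cancelBaseChange S₀ S
          (Localization.Away (algebraMap S' S (h i))) (Localization.Away (algebraMap S' S (h i))) M₀).symm.restrictScalars H))
        p' σ hσ hi)
  haveI := projective_of_ctn (B := S) NH hctn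
  exact Module.Projective.of_equiv eN

/-- Transport of projectivity along a map of algebras. -/
theorem projective_tensor_of_map {R A₁ A₂ : Type u} [CommRing R] [CommRing A₁] [CommRing A₂] [Algebra R A₁]
    [Algebra R A₂] (g : A₁ →ₐ[R] A₂) (M : Type u) [AddCommGroup M] [Module R M]
    [Module.Projective A₁ (A₁ ⊗[R] M)] : Module.Projective A₂ (A₂ ⊗[R] M) := by
  letI : Algebra A₁ A₂ := g.toRingHom.toAlgebra
  haveI : IsScalarTower R A₁ A₂ := IsScalarTower.of_algebraMap_eq fun x => (g.commutes x).symm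
  exact Module.Projective.of_equiv (AlgebraTensorModule.cancelBaseChange R A₁ A₂ A₂ M)

/-- Flatness at a prime passes to the local rings over it. -/
theorem flat_tensor_of_local {R L : Type u} [CommRing R] [CommRing L] [IsLocalRing L] [Algebra R L] (q : Ideal R)
    [q.IsPrime] (hq : (maximalIdeal L).comap (algebraMap R L) = q) (M : Type u) [AddCommGroup M] [Module R M]
    [Module.Flat R (LocalizedModule q.primeCompl M)] : Module.Flat L (L ⊗[R] M) := by
  let Rq := Localization.AtPrime q
  have hu : ∀ s : q.primeCompl, IsUnit (algebraMap R L s) := fun s => by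
    by_contra hs
    exact s.2 (hq.le ((mem_maximalIdeal _).2 hs : algebraMap R L s ∈ maximalIdeal L))
  letI : Algebra Rq L := (IsLocalization.lift (S := Rq) hu).toAlgebra
  haveI : IsScalarTower R Rq L := IsScalarTower.of_algebraMap_eq fun b => by
    rw [RingHom.algebraMap_toAlgebra, IsLocalization.lift_eq]
  haveI : Module.Flat R (Rq ⊗[R] M) :=
    Module.Flat.of_linearEquiv ((LocalizedModule.equivTensorProduct q.primeCompl M).restrictScalars R).symm
  haveI : Module.Flat Rq (Rq ⊗[R] M) :=
    (Module.flat_iff_of_isLocalization (R := R) (S := Rq) (M := Rq ⊗[R] M) q.primeCompl).2 inferInstance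
  haveI : Module.Flat L (L ⊗[Rq] (Rq ⊗[R] M)) := Module.Flat.baseChange Rq L _
  exact Module.Flat.of_linearEquiv (AlgebraTensorModule.cancelBaseChange R Rq L L M).symm

attribute [local instance] Algebra.TensorProduct.rightAlgebra in
/-- A module projective at a prime of the base is jointly regular at its generisations. -/
theorem joint_of_pure {R' S' A' : Type u} [CommRing R'] [CommRing S'] [CommRing A'] [Algebra R' S']
    [Algebra.FiniteType R' S'] [Algebra R' A'] (M' : Type u) [AddCommGroup M'] [Module S' M'] [Module R' M']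
    [IsScalarTower R' S' M'] [Module.Finite S' M'] (p₀' : Ideal R') (p' : Ideal A') [p'.IsPrime]
    (hp' : p'.comap (algebraMap R' A') = p₀')
    [Module.Projective (Localization.AtPrime p') (Localization.AtPrime p' ⊗[R'] M')] {m : ℕ} (h : Fin m → S')
    (hcov : ∀ Q : Ideal S', Q.IsPrime → Q.comap (algebraMap R' S') = p₀' → ∃ i, h i ∉ Q)
    (t : Ideal A') [t.IsPrime] (ht : t ≤ p') :
    Function.Injective ((((LinearMap.pi fun i => LinearMap.lsmul S' M' (h i)) :
      M' →ₗ[S'] (Fin m → M')).restrictScalars R').lTensor t.ResidueField) := by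
  classical
  let B := A' ⊗[R'] S'
  let N := B ⊗[S'] M'
  let At := Localization.AtPrime p'
  haveI : Module.Projective At (At ⊗[A'] N) :=
    Module.Projective.of_equiv ((AlgebraTensorModule.cancelBaseChange R' A' At At M').symm ≪≫ₗ
      AlgebraTensorModule.congr (LinearEquiv.refl At At) (Algebra.IsPushout.cancelBaseChange R' A' S' B M').symm)
  haveI : Module.Projective At (LocalizedModule p'.primeCompl N) :=
    Module.Projective.of_equiv (LocalizedModule.equivTensorProduct p'.primeCompl N).symm
  have hpure : FlatCA.IsPureAlong A' B N p' := isPureAlong_of_projective N p'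
  refine (joint_iff (R₁ := R') (A := A') (B := B) (TensorProduct.mk S' B M' 1)
    (TensorProduct.isBaseChange S' M' B) h t).2 fun z hz => ?_
  refine eq_zero_of_assPts (fun i => algebraMap S' B (h i)) (fun σ hσ => ?_) z hz
  obtain ⟨Q, hQ, hle, hQp⟩ := Pure.exists_over_of_pure hpure t ht σ hσ
  obtain ⟨i, hi⟩ := hcov (Q.comap (algebraMap S' B)) (Ideal.IsPrime.comap _) (by
    rw [Ideal.comap_comap, ← IsScalarTower.algebraMap_eq R' S' B, IsScalarTower.algebraMap_eq R' A' B,
      ← Ideal.comap_comap, hQp, hp'])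
  exact ⟨i, fun hm => hi (hle hm)⟩

attribute [local instance] Algebra.TensorProduct.rightAlgebra in
/-- Projectivity at the prime below gives it at a prime of a base change, for the extended module. -/
theorem projective_point_tensor {R₀ R' A A' : Type u} [CommRing R₀] [CommRing R'] [CommRing A] [CommRing A']
    [Algebra R₀ R'] [Algebra R₀ A] [Algebra R' A'] [Algebra R₀ A'] [Algebra A A'] [IsScalarTower R₀ A A']
    [IsScalarTower R₀ R' A'] (p : Ideal A) [p.IsPrime] (p' : Ideal A') [p'.IsPrime]
    (hp : p'.comap (algebraMap A A') = p) (M₀ M' : Type u) [AddCommGroup M₀] [Module R₀ M₀] [AddCommGroup M']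
    [Module R' M'] (e : M' ≃ₗ[R'] R' ⊗[R₀] M₀)
    [Module.Projective (Localization.AtPrime p) (Localization.AtPrime p ⊗[R₀] M₀)] :
    Module.Projective (Localization.AtPrime p') (Localization.AtPrime p' ⊗[R'] M') := by
  let Ap := Localization.AtPrime p
  let At := Localization.AtPrime p'
  let g : Ap →ₐ[R₀] At :=
    { Localization.localRingHom p p' (algebraMap A A') hp.symm with
      commutes' := fun r => by
        change Localization.localRingHom p p' (algebraMap A A') hp.symm (algebraMap R₀ Ap r) = _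
        rw [IsScalarTower.algebraMap_apply R₀ A Ap, Localization.localRingHom_to_map,
          ← IsScalarTower.algebraMap_apply R₀ A A', ← IsScalarTower.algebraMap_apply R₀ A' At] }
  haveI := projective_tensor_of_map g M₀
  exact Module.Projective.of_equiv ((AlgebraTensorModule.cancelBaseChange R₀ R' At At M₀).symm ≪≫ₗ
    AlgebraTensorModule.congr (LinearEquiv.refl At At) e.symm)

/-- The point, with the henselization abstracted. -/
theorem exists_henselian_point_aux {R₀ R' L H : Type u} [CommRing R₀] [CommRing R'] [Algebra R₀ R'] [CommRing L]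
    [IsLocalRing L] [Algebra R₀ L] (q₀ : Ideal R₀) [q₀.IsPrime] (p₀' : Ideal R') [p₀'.IsPrime]
    (hn : FlatCA.IsEtaleNhd R₀ R' q₀ p₀') (hq : (maximalIdeal L).comap (algebraMap R₀ L) = q₀) [CommRing H]
    [IsLocalRing H] [Algebra L H] [IsLocalHom (algebraMap L H)] [Hensel.IsHenselization L H] :
    ∃ (H : Type u) (_ : CommRing H) (_ : HenselianLocalRing H) (_ : Algebra L H) (_ : Module.FaithfullyFlat L H)
      (_ : Algebra R₀ H) (_ : IsScalarTower R₀ L H) (σ : R' →ₐ[R₀] H),
      (maximalIdeal H).comap (algebraMap L H) = maximalIdeal L ∧ (maximalIdeal H).comap σ.toRingHom = p₀' := by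
  haveI : HenselianLocalRing H := Hensel.IsHenselization.henselian (R := L)
  haveI : Module.FaithfullyFlat L H := Groth.Agent.Hensel.henselization_faithfullyFlat L H
  letI : Algebra R₀ H := ((algebraMap L H).comp (algebraMap R₀ L)).toAlgebra
  haveI : IsScalarTower R₀ L H := IsScalarTower.of_algebraMap_eq' rfl
  have hm : (maximalIdeal H).comap (algebraMap L H) = maximalIdeal L := maximalIdeal_comap _
  have hq₀H : (maximalIdeal H).comap (algebraMap R₀ H) = q₀ := by
    rw [IsScalarTower.algebraMap_eq R₀ L H, ← Ideal.comap_comap, hm, hq]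
  have hn' : FlatCA.IsEtaleNhd R₀ R' ((maximalIdeal H).comap (algebraMap R₀ H)) p₀' := by
    convert hn using 1
  obtain ⟨p'', _, hn'', hp''⟩ := exists_nhd_baseChange (R := H) (maximalIdeal H) hn'
  obtain ⟨σ, hσ⟩ := exists_section_nhd hn''
  let σ' : R' →ₐ[R₀] H := (σ.restrictScalars R₀).comp Algebra.TensorProduct.includeRight
  refine ⟨H, inferInstance, inferInstance, inferInstance, inferInstance, inferInstance, inferInstance, σ', hm, ?_⟩
  rw [← hp'', ← hσ, Ideal.comap_comap]
  rfl

set_option backward.isDefEq.respectTransparency true in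
/-- A local ring has a faithfully flat henselian algebra with a point of any étale neighbourhood of its closed
point. -/
theorem exists_henselian_point {R₀ R' L : Type u} [CommRing R₀] [CommRing R'] [Algebra R₀ R'] [CommRing L]
    [IsLocalRing L] [Algebra R₀ L] (q₀ : Ideal R₀) [q₀.IsPrime] (p₀' : Ideal R') [p₀'.IsPrime]
    (hn : FlatCA.IsEtaleNhd R₀ R' q₀ p₀') (hq : (maximalIdeal L).comap (algebraMap R₀ L) = q₀) :
    ∃ (H : Type u) (_ : CommRing H) (_ : HenselianLocalRing H) (_ : Algebra L H) (_ : Module.FaithfullyFlat L H)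
      (_ : Algebra R₀ H) (_ : IsScalarTower R₀ L H) (σ : R' →ₐ[R₀] H),
      (maximalIdeal H).comap (algebraMap L H) = maximalIdeal L ∧ (maximalIdeal H).comap σ.toRingHom = p₀' := by
  obtain ⟨hloc, hhens⟩ := Groth.Agent.Hensel.exists_henselization L
  haveI := hloc
  haveI := hhens
  exact exists_henselian_point_aux q₀ p₀' hn hq (H := Groth.Agent.Hensel.Env L (ResidueField L))
set_option backward.isDefEq.respectTransparency true in

/-- Injectivity in a fibre passes to the points over it. -/
theorem injective_lTensor_of_comap {R' C H : Type u} [CommRing R'] [CommRing C] [CommRing H] [Algebra R' C]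
    [Algebra R' H] (χ : C →ₐ[R'] H) (P : Ideal H) [P.IsPrime] {X Y : Type u} [AddCommGroup X] [Module R' X]
    [AddCommGroup Y] [Module R' Y] (μ : X →ₗ[R'] Y)
    (h : Function.Injective (μ.lTensor (P.comap χ.toRingHom).ResidueField)) :
    Function.Injective (μ.lTensor P.ResidueField) := by
  let t : Ideal C := P.comap χ.toRingHom
  letI : Algebra t.ResidueField P.ResidueField := (Ideal.ResidueField.map t P χ.toRingHom rfl).toAlgebra
  haveI : IsScalarTower R' t.ResidueField P.ResidueField := IsScalarTower.of_algebraMap_eq fun x => by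
    rw [IsScalarTower.algebraMap_apply R' C t.ResidueField, RingHom.algebraMap_toAlgebra,
      Ideal.ResidueField.map_algebraMap, IsScalarTower.algebraMap_apply R' H P.ResidueField]
    exact (congrArg (algebraMap H P.ResidueField) (χ.commutes x)).symm
  have h' : Function.Injective ((μ.baseChange t.ResidueField)) := h
  refine (Pure.injective_lTensor_baseChange (R' := t.ResidueField) μ P.ResidueField).1 ?_
  exact Module.Flat.lTensor_preserves_injective_linearMap (M := P.ResidueField) (μ.baseChange t.ResidueField) h'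

attribute [local instance] Algebra.TensorProduct.rightAlgebra in
/-- Injectivity at all points of a henselian algebra from that at the generisations of the point of a subring. -/
theorem injective_at_points {R₀ R' R₁ A H : Type u} [CommRing R₀] [CommRing R'] [Algebra R₀ R'] [CommRing R₁]
    [Algebra R₀ R₁] [CommRing A] [Algebra R₀ A] [CommRing H] [IsLocalRing H] [Algebra R₀ H] [Algebra R' H]
    [IsScalarTower R₀ R' H] (q₀ : Ideal R₀) [q₀.IsPrime] (p₀' : Ideal R') [p₀'.IsPrime]
    (hn : FlatCA.IsEtaleNhd R₀ R' q₀ p₀') (p : Ideal A) (p' : Ideal (R' ⊗[R₀] A)) [p'.IsPrime]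
    (hp' : p'.comap (algebraMap R' (R' ⊗[R₀] A)) = p₀') (hp : p'.comap (algebraMap A (R' ⊗[R₀] A)) = p)
    (φ : R₁ →ₐ[R₀] A) (ψ : R₁ →ₐ[R₀] H) (hσ : (maximalIdeal H).comap (algebraMap R' H) = p₀')
    (hψ : (maximalIdeal H).comap ψ.toRingHom = p.comap φ.toRingHom) {X Y : Type u} [AddCommGroup X] [Module R' X]
    [AddCommGroup Y] [Module R' Y] (μ : X →ₗ[R'] Y)
    (hμ : ∀ (t : Ideal (R' ⊗[R₀] R₁)) [t.IsPrime],
      t ≤ p'.comap (Algebra.TensorProduct.map (AlgHom.id R' R') φ).toRingHom →
        Function.Injective (μ.lTensor t.ResidueField))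
    (P : Ideal H) [P.IsPrime] : Function.Injective (μ.lTensor P.ResidueField) := by
  let C := R' ⊗[R₀] R₁
  let A' := R' ⊗[R₀] A
  let φ' : C →ₐ[R'] A' := Algebra.TensorProduct.map (AlgHom.id R' R') φ
  let χ : C →ₐ[R'] H := Algebra.TensorProduct.lift (Algebra.ofId R' H) ψ fun _ _ => Commute.all _ _
  letI : Algebra C H := χ.toRingHom.toAlgebra
  haveI : IsScalarTower R' C H := IsScalarTower.of_algebraMap_eq fun x => (χ.commutes x).symm
  have hQ : (maximalIdeal H).comap χ.toRingHom = p'.comap φ'.toRingHom := by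
    refine eq_of_nhd hn _ _ ?_ ?_ ?_
    · rw [Ideal.comap_comap, ← hσ]
      exact congrArg (fun g => Ideal.comap g (maximalIdeal H)) (RingHom.ext fun x => χ.commutes x)
    · rw [Ideal.comap_comap, ← hp']
      exact congrArg (fun g => Ideal.comap g p') (RingHom.ext fun x => φ'.commutes x)
    · rw [Ideal.comap_comap, Ideal.comap_comap]
      have e1 : χ.toRingHom.comp (algebraMap R₁ C) = ψ.toRingHom := RingHom.ext fun x => by
        change χ ((1 : R') ⊗ₜ[R₀] x) = ψ x
        rw [Algebra.TensorProduct.lift_tmul, map_one, one_mul]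
      have e2 : φ'.toRingHom.comp (algebraMap R₁ C) = (algebraMap A A').comp φ.toRingHom := RingHom.ext fun x => by
        change φ' ((1 : R') ⊗ₜ[R₀] x) = (1 : R') ⊗ₜ[R₀] φ x
        rw [Algebra.TensorProduct.map_tmul]; rfl
      rw [e1, e2, ← Ideal.comap_comap, hp]
      exact hψ
  have ht : P.comap χ.toRingHom ≤ p'.comap φ'.toRingHom :=
    hQ ▸ Ideal.comap_mono (le_maximalIdeal (‹P.IsPrime›).ne_top)
  exact injective_lTensor_of_comap χ P μ (hμ (P.comap χ.toRingHom) ht)

attribute [local instance] Algebra.TensorProduct.rightAlgebra in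
/-- Projectivity of a local base change of a noetherian model descends to the subrings containing finitely many
elements. -/
theorem exists_finset_projective {R₀ S₀ A : Type u} [CommRing R₀] [IsNoetherianRing R₀] [CommRing S₀]
    [Algebra R₀ S₀] [Algebra.FiniteType R₀ S₀] [CommRing A] [Algebra R₀ A] (M₀ : Type u) [AddCommGroup M₀]
    [Module S₀ M₀] [Module R₀ M₀] [IsScalarTower R₀ S₀ M₀] [Module.Finite S₀ M₀] (p : Ideal A) [p.IsPrime]
    [Module.Flat R₀ (LocalizedModule (p.comap (algebraMap R₀ A)).primeCompl M₀)]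
    [Module.Projective (Localization.AtPrime p) (Localization.AtPrime p ⊗[R₀] M₀)] :
    ∃ F : Finset A, ∀ (R₁ L : Type u) [CommRing R₁] [Algebra R₀ R₁] [CommRing L] [IsLocalRing L] [Algebra R₀ L]
      (φ : R₁ →ₐ[R₀] A) (ψ : R₁ →ₐ[R₀] L), Function.Injective φ → (∀ a ∈ F, a ∈ Set.range φ) →
      (maximalIdeal L).comap ψ.toRingHom = p.comap φ.toRingHom → Module.Projective L (L ⊗[R₀] M₀) := by
  classical
  let q₀ : Ideal R₀ := p.comap (algebraMap R₀ A)
  haveI : Algebra.FinitePresentation R₀ S₀ := Algebra.FinitePresentation.of_finiteType.mp inferInstance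
  haveI : IsNoetherianRing S₀ := Algebra.FiniteType.isNoetherianRing R₀ S₀
  haveI : Module.FinitePresentation S₀ M₀ := Module.finitePresentation_of_finite S₀ M₀
  obtain ⟨R', _, _, p₀', _, hn, m, h, hproj, hcov⟩ := exists_common (S := S₀) q₀ M₀ fun (q : Ideal S₀) _ hq =>
    projPiece_of_flat q₀ q hq M₀ (flat_localized_over q₀ q hq M₀)
  haveI := hn.1
  haveI : IsNoetherianRing R' := Algebra.FiniteType.isNoetherianRing R₀ R'
  let A' := R' ⊗[R₀] A
  obtain ⟨p', hp'prime, hp', hp⟩ := exists_prime_of_nhd (S := A) hn p rfl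
  haveI := hp'prime
  let S' := R' ⊗[R₀] S₀
  haveI : Algebra.FiniteType R' S' := inferInstance
  obtain ⟨F', hF'⟩ := exists_finset_injective (R₁ := R') (S₁ := S') p'
    (LinearMap.pi fun i => LinearMap.lsmul S' (S' ⊗[S₀] M₀) (h i))
    fun t _ ht => by
      haveI := projective_point_tensor p p' hp M₀ (S' ⊗[S₀] M₀)
        (Algebra.IsPushout.cancelBaseChange R₀ R' S₀ S' M₀)
      exact joint_of_pure (S' ⊗[S₀] M₀) p₀' p' hp' h hcov t ht
  choose T hT using fun z : A' => TensorProduct.exists_finset z
  refine ⟨F'.biUnion fun z => (T z).image Prod.snd, fun R₁ L _ _ _ _ _ φ ψ hφ hr hψ => ?_⟩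
  -- the point over the new local ring
  have hq₀L : (maximalIdeal L).comap (algebraMap R₀ L) = q₀ := by
    rw [← ψ.comp_algebraMap, ← Ideal.comap_comap]
    change Ideal.comap (algebraMap R₀ R₁) (Ideal.comap ψ.toRingHom (maximalIdeal L)) = _
    rw [hψ, Ideal.comap_comap]
    exact congrArg (fun g => Ideal.comap g p) φ.comp_algebraMap
  obtain ⟨H, _, _, _, _, _, _, σ, hm, hσ⟩ := exists_henselian_point q₀ p₀' hn hq₀L
  letI : Algebra R' H := σ.toRingHom.toAlgebra
  haveI : IsScalarTower R₀ R' H := IsScalarTower.of_algebraMap_eq fun x => (σ.commutes x).symm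
  let φ' : R' ⊗[R₀] R₁ →ₐ[R'] A' := Algebra.TensorProduct.map (AlgHom.id R' R') φ
  have hφ' : Function.Injective φ' := Module.Flat.lTensor_preserves_injective_linearMap φ.toLinearMap hφ
  have hr' : ∀ z ∈ F', z ∈ Set.range φ' := fun z hz => by
    rw [hT z]
    change _ ∈ φ'.range
    refine sum_mem fun w hw => ?_
    obtain ⟨b, hb⟩ := hr w.2 (Finset.mem_biUnion.2 ⟨z, hz, Finset.mem_image_of_mem _ hw⟩)
    exact ⟨w.1 ⊗ₜ b, by change φ' (w.1 ⊗ₜ b) = _; rw [Algebra.TensorProduct.map_tmul, hb]; rfl⟩
  let ψH : R₁ →ₐ[R₀] H := (IsScalarTower.toAlgHom R₀ L H).comp ψ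
  have hq₀H : (maximalIdeal H).comap (algebraMap R₀ H) = q₀ := by
    rw [IsScalarTower.algebraMap_eq R₀ L H, ← Ideal.comap_comap, hm, hq₀L]
  have hψH : (maximalIdeal H).comap ψH.toRingHom = p.comap φ.toRingHom := by
    rw [← hψ, ← hm, Ideal.comap_comap]
    rfl
  haveI : Module.Flat H (H ⊗[R₀] M₀) := flat_tensor_of_local q₀ hq₀H M₀
  haveI : Module.Projective H (H ⊗[R₀] M₀) := projective_henselian_of_joint M₀ h hproj fun P _ =>
    injective_at_points q₀ p₀' hn p p' hp' hp φ ψH hσ hψH _ (fun t _ ht => hF' _ φ' hφ' hr' t ht) P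
  haveI : Module.Projective H (H ⊗[L] (L ⊗[R₀] M₀)) :=
    Module.Projective.of_equiv (AlgebraTensorModule.cancelBaseChange R₀ L H H M₀).symm
  exact Groth.Agent.S0585.result L H (L ⊗[R₀] M₀)

end Groth.Agent.RG.Loc
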