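import Groth.Agent.FlatSpread.Model
import Groth.Agent.InjFibre.Loc

/-!
A finitely presented module which is flat at the primes over a prime of the base comes from a model over a ring of
finite type over `ℤ` which is flat at the image prime.
-/

set_option autoImplicit false

universe u

open MvPolynomial Groth.Agent.FlatSpread

namespace Groth.Agent.RG.Loc

/-- A model flat at a prime of the base. -/
theorem exists_model_at (R : Type u) [CommRing R]
    (S : Type u) [CommRing S] [Algebra R S] [Algebra.FinitePresentation R S] (M : Type u)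
    [AddCommGroup M] [Module S M] [Module R M] [IsScalarTower R S M]
    [Module.FinitePresentation S M] (p : Ideal R) [p.IsPrime] [Module.Flat R (LocalizedModule p.primeCompl M)] :
    ∃ (R₀ : Type u) (_ : CommRing R₀) (_ : Algebra R₀ R) (S₀ : Type u) (_ : CommRing S₀)
      (_ : Algebra R₀ S₀) (_ : Algebra S₀ S) (_ : Algebra R₀ S) (_ : IsScalarTower R₀ R S)
      (_ : IsScalarTower R₀ S₀ S) (M₀ : Type u) (_ : AddCommGroup M₀) (_ : Module S₀ M₀)
      (_ : Module R₀ M₀) (_ : IsScalarTower R₀ S₀ M₀) (_ : Module S₀ M) (_ : IsScalarTower S₀ S M)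
      (f : M₀ →ₗ[S₀] M),
      Algebra.FiniteType ℤ R₀ ∧ Algebra.FiniteType R₀ S₀ ∧ Module.Finite S₀ M₀ ∧
        Module.Flat R₀ (LocalizedModule (p.comap (algebraMap R₀ R)).primeCompl M₀) ∧
        Algebra.IsPushout R₀ R S₀ S ∧ IsBaseChange S f := by
  classical
  obtain ⟨n, m, π, hπ, ⟨K, hK⟩, W, ⟨Tg, hTg⟩, ⟨e⟩⟩ := exists_presentation (R := R) (S := S) (M := M)
  letI : Module (MvPolynomial (Fin n) R) M := Module.compHom M π.toRingHom
  let T : Finset (Fin m → MvPolynomial (Fin n) R) :=
    Tg ∪ (K ×ˢ (Finset.univ : Finset (Fin m))).image fun p => Pi.single p.2 p.1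
  have hsingle : ∀ k ∈ K, ∀ i, Pi.single i k ∈ W := by
    intro k hk i
    have hk' : π k = 0 := RingHom.mem_ker.1 (hK ▸ Ideal.subset_span hk)
    have e1 : Pi.single i k = k • (Pi.single i 1 : Fin m → MvPolynomial (Fin n) R) := by
      rw [← Pi.single_smul, smul_eq_mul, mul_one]
    rw [e1, ← Submodule.Quotient.mk_eq_zero, Submodule.Quotient.mk_smul]
    apply e.injective
    rw [map_zero, map_smul]
    change π k • e (Submodule.Quotient.mk _) = 0
    rw [hk', zero_smul]
  have hT : Submodule.span (MvPolynomial (Fin n) R) (T : Set (Fin m → MvPolynomial (Fin n) R)) = W := by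
    refine le_antisymm (Submodule.span_le.2 fun x hx => ?_) (hTg ▸ Submodule.span_mono (by simp [T]))
    rcases Finset.mem_union.1 hx with hx | hx
    · exact hTg ▸ Submodule.subset_span hx
    · obtain ⟨⟨k, i⟩, hki, rfl⟩ := Finset.mem_image.1 hx
      exact hsingle k (Finset.mem_product.1 hki).1 i
  let GA : Submonoid (MvPolynomial (Fin n) R) := p.primeCompl.map (C : R →+* MvPolynomial (Fin n) R)
  have hflat : Module.Flat R (LocalizedModule (GA.map π.toRingHom) M) := by
    have hU : GA.map π.toRingHom = Algebra.algebraMapSubmonoid S p.primeCompl := by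
      ext x
      simp [GA, Algebra.algebraMapSubmonoid, ← MvPolynomial.algebraMap_eq]
    rw [hU]
    let gB : M →ₗ[R] LocalizedModule (Algebra.algebraMapSubmonoid S p.primeCompl) M :=
      (LocalizedModule.mkLinearMap (Algebra.algebraMapSubmonoid S p.primeCompl) M).restrictScalars R
    haveI : IsLocalizedModule p.primeCompl gB := IsLocalizedModule.restrictScalars _ _
    exact Module.Flat.of_linearEquiv (IsLocalizedModule.iso p.primeCompl gB).symm
  obtain ⟨R₀, _, φ, hft, hφ, W₀, g₀, hW₀, hg₀, hfl, hTl, hKl⟩ :=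
    exists_model_fl' T hT K ((flat_localized_iff π W e GA).1 hflat)
  letI : Algebra R₀ R := φ.toAlgebra
  letI : Algebra R₀ S := ((algebraMap R S).comp φ).toAlgebra
  haveI : IsScalarTower R₀ R S := IsScalarTower.of_algebraMap_eq fun _ => rfl
  choose k₀ hk₀ using hKl
  let J₀ : Ideal (MvPolynomial (Fin n) R₀) := Ideal.span (Set.range fun k : K => k₀ k.1 k.2)
  have hmap : J₀.map (MvPolynomial.map φ) = RingHom.ker π.toRingHom := by
    rw [Ideal.map_span, ← hK, ← Set.range_comp]
    congr 1
    ext x
    constructor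
    · rintro ⟨k, rfl⟩
      simp only [Function.comp_apply, hk₀]
      exact k.2
    · intro hx
      exact ⟨⟨x, hx⟩, hk₀ x hx⟩
  let ψ : MvPolynomial (Fin n) R₀ →+* S := π.toRingHom.comp (MvPolynomial.map φ)
  have hψ : ∀ a ∈ J₀, ψ a = 0 := fun a ha =>
    have h := Ideal.mem_map_of_mem (MvPolynomial.map φ) ha
    RingHom.mem_ker.1 (show MvPolynomial.map φ a ∈ RingHom.ker π.toRingHom from hmap ▸ h)
  letI : Algebra (MvPolynomial (Fin n) R₀ ⧸ J₀) S := (Ideal.Quotient.lift J₀ ψ hψ).toAlgebra
  haveI : IsScalarTower R₀ (MvPolynomial (Fin n) R₀ ⧸ J₀) S :=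
    IsScalarTower.of_algebraMap_eq (R := R₀) (S := MvPolynomial (Fin n) R₀ ⧸ J₀) (A := S) fun r => by
    change algebraMap R S (φ r) = π (MvPolynomial.map φ (C r))
    rw [map_C, ← MvPolynomial.algebraMap_eq, π.commutes]
  -- the module
  have hker₀ : ∀ x : (Fin m → MvPolynomial (Fin n) R₀) ⧸ W₀, ∀ a ∈ J₀, a • x = 0 := by
    intro x
    obtain ⟨y, rfl⟩ := Submodule.Quotient.mk_surjective W₀ x
    intro a ha
    induction ha using Submodule.span_induction with
    | mem a ha =>
      obtain ⟨⟨k, hk⟩, rfl⟩ := ha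
      rw [← Submodule.Quotient.mk_smul, Submodule.Quotient.mk_eq_zero,
        show k₀ k hk • y = ∑ i, y i • (Pi.single i (k₀ k hk) : Fin m → MvPolynomial (Fin n) R₀) from ?_]
      · refine sum_mem fun i _ => W₀.smul_mem _ ?_
        obtain ⟨x₀, hx₀, hx₀e⟩ := hTl (Pi.single i k)
          (Finset.mem_union_right _ (Finset.mem_image.2 ⟨(k, i), Finset.mem_product.2 ⟨hk, Finset.mem_univ i⟩, rfl⟩))
        have : x₀ = Pi.single i (k₀ k hk) := by
          funext j
          apply MvPolynomial.map_injective φ hφ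
          refine (congrFun hx₀e j).trans ?_
          rcases eq_or_ne j i with rfl | hji
          · simp [hk₀]
          · simp [hji]
        exact this ▸ hx₀
      · funext j
        rw [Finset.sum_apply, Pi.smul_apply, Finset.sum_eq_single j]
        · simp [mul_comm]
        · intro i _ hi; simp [Ne.symm hi]
        · simp
    | zero => rw [zero_smul]
    | add a b _ _ ha hb => rw [add_smul, ha, hb, add_zero]
    | smul c a _ ha => rw [smul_eq_mul, mul_smul, ha, smul_zero]
  have htors : Module.IsTorsionBySet (MvPolynomial (Fin n) R₀) ((Fin m → MvPolynomial (Fin n) R₀) ⧸ W₀) (J₀ : Set _) :=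
    fun x a => hker₀ x a.1 a.2
  letI := htors.module
  haveI : IsScalarTower R₀ (MvPolynomial (Fin n) R₀ ⧸ J₀) ((Fin m → MvPolynomial (Fin n) R₀) ⧸ W₀) :=
    htors.isScalarTower
  haveI : IsScalarTower (MvPolynomial (Fin n) R₀) (MvPolynomial (Fin n) R₀ ⧸ J₀)
      ((Fin m → MvPolynomial (Fin n) R₀) ⧸ W₀) := htors.isScalarTower
  letI : Module (MvPolynomial (Fin n) R₀ ⧸ J₀) M := Module.compHom M (algebraMap (MvPolynomial (Fin n) R₀ ⧸ J₀) S)
  haveI : IsScalarTower (MvPolynomial (Fin n) R₀ ⧸ J₀) S M := ⟨fun a s x => by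
    change (algebraMap _ S a * s) • x = algebraMap _ S a • s • x
    rw [mul_smul]⟩
  letI : Module (MvPolynomial (Fin n) R₀) M := Module.compHom M ψ
  let g : (Fin m → MvPolynomial (Fin n) R₀) →ₗ[MvPolynomial (Fin n) R₀] M :=
    { toFun := fun y => e (Submodule.Quotient.mk (kL φ y))
      map_add' := fun a b => by rw [map_add, Submodule.Quotient.mk_add, map_add]
      map_smul' := fun p y => by
        rw [LinearMap.map_smulₛₗ, Submodule.Quotient.mk_smul, map_smul]
        rfl }
  have hg : W₀ ≤ LinearMap.ker g := fun w hw => by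
    have : kL φ w ∈ W := hW₀ ▸ kL_mem_ext φ hw
    change e (Submodule.Quotient.mk (kL φ w)) = 0
    rw [(Submodule.Quotient.mk_eq_zero W).2 this, map_zero]
  let f : ((Fin m → MvPolynomial (Fin n) R₀) ⧸ W₀) →ₗ[MvPolynomial (Fin n) R₀ ⧸ J₀] M :=
    { toFun := W₀.liftQ g hg
      map_add' := map_add _
      map_smul' := fun a x => by
        obtain ⟨p, rfl⟩ := Ideal.Quotient.mk_surjective a
        exact (W₀.liftQ g hg).map_smul p x }
  refine ⟨R₀, inferInstance, inferInstance, MvPolynomial (Fin n) R₀ ⧸ J₀, inferInstance, inferInstance, inferInstance,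
    inferInstance, inferInstance, inferInstance, (Fin m → MvPolynomial (Fin n) R₀) ⧸ W₀, inferInstance, inferInstance,
    inferInstance, inferInstance, inferInstance, inferInstance, f, hft, inferInstance, ?_, ?_,
    isPushout_model π hπ J₀ hmap (fun _ => rfl), ?_⟩
  · exact Module.Finite.of_restrictScalars_finite (MvPolynomial (Fin n) R₀) _ _
  · obtain ⟨s, hs, hsg⟩ := hg₀
    have hg1 : g₀ = C (g₀.coeff 0) := by
      apply MvPolynomial.map_injective φ hφ
      rw [map_C, ← coeff_map, ← hsg, coeff_C, if_pos rfl]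
    have hc : g₀.coeff 0 ∈ (p.comap φ).primeCompl := fun hc => hs (by
      have h2 := congrArg (fun r => MvPolynomial.coeff 0 r) hsg
      simp only [coeff_map, coeff_C, if_pos] at h2
      rw [h2]; exact hc)
    haveI := flat_of_fl _ _ hfl
    let U : Submonoid (MvPolynomial (Fin n) R₀) := Algebra.algebraMapSubmonoid _ (p.comap φ).primeCompl
    have hle : Submonoid.powers g₀ ≤ U := by
      rw [Submonoid.powers_le, hg1]
      exact ⟨_, hc, rfl⟩
    let M₀ := (Fin m → MvPolynomial (Fin n) R₀) ⧸ W₀
    let gU : M₀ →ₗ[MvPolynomial (Fin n) R₀] LocalizedModule U M₀ := LocalizedModule.mkLinearMap U M₀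
    haveI : Module.Flat R₀ (LocalizedModule U M₀) :=
      InjFibre.flat_localized U
        (IsLocalizedModule.liftOfLE _ _ hle (LocalizedModule.mkLinearMap (Submonoid.powers g₀) M₀) gU)
    haveI : IsLocalizedModule (p.comap φ).primeCompl (gU.restrictScalars R₀) := IsLocalizedModule.restrictScalars _ _
    exact Module.Flat.of_linearEquiv (IsLocalizedModule.iso (p.comap φ).primeCompl (gU.restrictScalars R₀))
  · refine IsBaseChange.of_lift_unique _ ?_
    intro Q _ _ _ _ h
    letI : AddCommGroup Q := Module.addCommMonoidToAddCommGroup S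
    letI : Module (MvPolynomial (Fin n) R) Q := Module.compHom Q π.toRingHom
    let G : (Fin m → MvPolynomial (Fin n) R) →ₗ[MvPolynomial (Fin n) R] Q :=
      Fintype.linearCombination (MvPolynomial (Fin n) R) fun i => h (Submodule.Quotient.mk (Pi.single i 1))
    have hG₀ : ∀ y, G (kL φ y) = h (Submodule.Quotient.mk y) := by
      intro y
      conv_rhs => rw [← (Finset.univ_sum_single y)]
      rw [← Submodule.mkQ_apply, map_sum, map_sum, Fintype.linearCombination_apply]
      refine Finset.sum_congr rfl fun i _ => ?_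
      rw [show Pi.single i (y i) = y i • (Pi.single i 1 : Fin m → MvPolynomial (Fin n) R₀) by
        rw [← Pi.single_smul, smul_eq_mul, mul_one], map_smul W₀.mkQ,
        ← IsScalarTower.algebraMap_smul (MvPolynomial (Fin n) R₀ ⧸ J₀) (y i), map_smul h]
      exact IsScalarTower.algebraMap_smul S (Ideal.Quotient.mk J₀ (y i)) (h (W₀.mkQ (Pi.single i 1)))
    have hGW : W ≤ LinearMap.ker G := by
      rw [← hW₀, FlatSpread.ext, Submodule.span_le]
      rintro _ ⟨w, hw, rfl⟩
      change G (kL φ w) = 0
      rw [hG₀, (Submodule.Quotient.mk_eq_zero W₀).2 hw, map_zero]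
    let g' : M →ₗ[S] Q :=
      { toFun := fun x => W.liftQ G hGW (e.symm x)
        map_add' := fun a b => by rw [map_add, map_add]
        map_smul' := fun s x => by
          obtain ⟨p, rfl⟩ := hπ s
          change W.liftQ G hGW (e.symm (p • x)) = p • W.liftQ G hGW (e.symm x)
          rw [map_smul, map_smul] }
    have hg' : ∀ y, g' (e (Submodule.Quotient.mk y)) = G y := fun y => by
      change W.liftQ G hGW (e.symm (e _)) = _
      rw [LinearEquiv.symm_apply_apply]
      rfl
    refine ⟨g', ?_, fun g'' hg'' => ?_⟩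
    · ext x
      obtain ⟨y, rfl⟩ := Submodule.Quotient.mk_surjective W₀ x
      exact (hg' (kL φ y)).trans (hG₀ y)
    · ext x
      obtain ⟨q, rfl⟩ := e.surjective x
      obtain ⟨y, rfl⟩ := Submodule.Quotient.mk_surjective W q
      rw [hg', ← Finset.univ_sum_single y, ← Submodule.mkQ_apply, map_sum, map_sum, map_sum, map_sum]
      refine Finset.sum_congr rfl fun i _ => ?_
      rw [show Pi.single i (y i) = y i • (Pi.single i 1 : Fin m → MvPolynomial (Fin n) R) by
        rw [← Pi.single_smul, smul_eq_mul, mul_one], map_smul W.mkQ, map_smul e, map_smul G]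
      change g'' (π (y i) • e _) = π (y i) • _
      rw [map_smul]
      congr 1
      have h1 : kL φ (Pi.single i 1) = (Pi.single i 1 : Fin m → MvPolynomial (Fin n) R) := by
        funext j
        change MvPolynomial.map φ ((Pi.single i 1 : Fin m → MvPolynomial (Fin n) R₀) j) = _
        rcases eq_or_ne j i with rfl | hji <;> simp [*]
      rw [← h1, hG₀, ← hg'', ]
      rfl

end Groth.Agent.RG.Loc
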