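import Groth.Agent.RG.Loc.DescendPure
import Groth.Agent.RG.Loc.ModelAt
import Groth.Agent.RG.Pure.Descent
import Groth.Agent.RingModel.Basic

/-!
Descent of a pure flat module along a directed colimit of rings.
-/

set_option autoImplicit false
set_option linter.style.haveILetI false
set_option backward.isDefEq.respectTransparency false

universe u

open TensorProduct IsLocalRing

namespace Groth.Agent.RG.Loc

/-- Projective at the prime below: flat at the primes over it. -/
theorem flatAt_over_of_projective {A B : Type u} [CommRing A] [CommRing B] [Algebra A B] (N : Type u) [AddCommGroup N]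
    [Module B N] [Module A N] [IsScalarTower A B N] (p : Ideal A) [p.IsPrime]
    [Module.Projective (Localization.AtPrime p) (LocalizedModule p.primeCompl N)] (q : Ideal B) [q.IsPrime]
    (hq : q.comap (algebraMap A B) = p) : FlatCA.FlatAt A q N := by
  haveI : Module.Flat A (Localization.AtPrime p) := IsLocalization.flat (Localization.AtPrime p) p.primeCompl
  haveI : Module.Flat A (LocalizedModule p.primeCompl N) :=
    Module.Flat.trans A (Localization.AtPrime p) (LocalizedModule p.primeCompl N)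
  exact flat_localized_over p q hq N

/-- Projectivity of the localised module, read on the model. -/
theorem projective_model_tensor {R₀ S₀ A B : Type u} [CommRing R₀] [CommRing S₀] [CommRing A] [CommRing B]
    [Algebra R₀ S₀] [Algebra R₀ A] [Algebra S₀ B] [Algebra R₀ B] [Algebra A B] [IsScalarTower R₀ A B]
    [IsScalarTower R₀ S₀ B] [Algebra.IsPushout R₀ A S₀ B] {M₀ N : Type u} [AddCommGroup M₀] [Module S₀ M₀]
    [Module R₀ M₀] [IsScalarTower R₀ S₀ M₀] [AddCommGroup N] [Module B N] [Module A N] [IsScalarTower A B N]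
    [Module S₀ N] [IsScalarTower S₀ B N] (f₀ : M₀ →ₗ[S₀] N) (hf₀ : IsBaseChange B f₀) (p : Ideal A) [p.IsPrime]
    [Module.Projective (Localization.AtPrime p) (LocalizedModule p.primeCompl N)] :
    Module.Projective (Localization.AtPrime p) (Localization.AtPrime p ⊗[R₀] M₀) := by
  let L := Localization.AtPrime p
  let e : N ≃ₗ[A] A ⊗[R₀] M₀ :=
    (hf₀.equiv.symm.restrictScalars A) ≪≫ₗ Algebra.IsPushout.cancelBaseChange R₀ A S₀ B M₀
  exact Module.Projective.of_equiv (LocalizedModule.equivTensorProduct p.primeCompl N ≪≫ₗ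
    AlgebraTensorModule.congr (LinearEquiv.refl L L) e ≪≫ₗ AlgebraTensorModule.cancelBaseChange R₀ A L L M₀)

/-- The module at the stage. -/
theorem exists_stage_module {R₀ S₀ A B Ai : Type u} [CommRing R₀] [IsNoetherianRing R₀] [CommRing S₀] [CommRing A]
    [CommRing B] [CommRing Ai] [Algebra R₀ S₀] [Algebra.FiniteType R₀ S₀] [Algebra R₀ A] [Algebra S₀ B] [Algebra R₀ B]
    [Algebra A B] [IsScalarTower R₀ A B] [IsScalarTower R₀ S₀ B] [Algebra.IsPushout R₀ A S₀ B] [Algebra R₀ Ai]
    [Algebra Ai A] [IsScalarTower R₀ Ai A] {M₀ : Type u} [AddCommGroup M₀] [Module S₀ M₀] [Module R₀ M₀]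
    [IsScalarTower R₀ S₀ M₀] [Module.Finite S₀ M₀] {N : Type u} [AddCommGroup N] [Module B N] [Module S₀ N]
    [IsScalarTower S₀ B N] (f₀ : M₀ →ₗ[S₀] N) (hf₀ : IsBaseChange B f₀) (pi : Ideal Ai) [pi.IsPrime]
    [Module.Projective (Localization.AtPrime pi) (Localization.AtPrime pi ⊗[R₀] M₀)] :
    ∃ (Bi Ni : Type u) (_ : CommRing Bi) (_ : Algebra Ai Bi) (_ : Algebra Bi B) (_ : Algebra Ai B)
      (_ : IsScalarTower Ai A B) (_ : IsScalarTower Ai Bi B) (_ : AddCommGroup Ni) (_ : Module Bi Ni)
      (_ : Module Ai Ni) (_ : IsScalarTower Ai Bi Ni) (_ : Module Bi N) (_ : IsScalarTower Bi B N) (f : Ni →ₗ[Bi] N),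
      Algebra.FinitePresentation Ai Bi ∧ Algebra.IsPushout Ai Bi A B ∧ Module.FinitePresentation Bi Ni ∧
        IsBaseChange B f ∧ FlatCA.IsPureAlong Ai Bi Ni pi ∧
          ∀ (q : Ideal Bi) [q.IsPrime], q.LiesOver pi → FlatCA.FlatAt Ai q Ni := by
  classical
  haveI : Algebra.FinitePresentation R₀ S₀ := Algebra.FinitePresentation.of_finiteType.mp inferInstance
  haveI : IsNoetherianRing S₀ := Algebra.FiniteType.isNoetherianRing R₀ S₀
  haveI : Module.FinitePresentation S₀ M₀ := Module.finitePresentation_of_finite S₀ M₀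
  letI : Algebra Ai B := ((algebraMap A B).comp (algebraMap Ai A)).toAlgebra
  haveI : IsScalarTower Ai A B := IsScalarTower.of_algebraMap_eq' rfl
  haveI : IsScalarTower R₀ Ai B := IsScalarTower.of_algebraMap_eq fun x => by
    rw [IsScalarTower.algebraMap_apply Ai A B, ← IsScalarTower.algebraMap_apply R₀ Ai A,
      ← IsScalarTower.algebraMap_apply R₀ A B]
  letI : Algebra S₀ (Ai ⊗[R₀] S₀) := Algebra.TensorProduct.rightAlgebra
  let Bi := Ai ⊗[R₀] S₀
  let Φ : Bi →ₐ[Ai] B := Algebra.TensorProduct.lift (Algebra.ofId Ai B) (IsScalarTower.toAlgHom R₀ S₀ B)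
    fun _ _ => Commute.all _ _
  letI : Algebra Bi B := Φ.toRingHom.toAlgebra
  haveI : IsScalarTower Ai Bi B := IsScalarTower.of_algebraMap_eq fun x => (Φ.commutes x).symm
  haveI : IsScalarTower S₀ Bi B := IsScalarTower.of_algebraMap_eq fun x => by
    change algebraMap S₀ B x = Φ ((1 : Ai) ⊗ₜ x)
    rw [Algebra.TensorProduct.lift_tmul, map_one, one_mul]
    rfl
  haveI : IsScalarTower R₀ Bi B := IsScalarTower.of_algebraMap_eq (R := R₀) (S := Bi) (A := B) fun x => by
    rw [IsScalarTower.algebraMap_apply R₀ Ai Bi, ← IsScalarTower.algebraMap_apply Ai Bi B,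
      ← IsScalarTower.algebraMap_apply R₀ Ai B]
  haveI hpo : Algebra.IsPushout Ai A Bi B :=
    (Algebra.IsPushout.comp_iff R₀ Ai S₀ Bi (T := A) (T' := B)).1 inferInstance
  letI : Module Bi N := Module.compHom N (algebraMap Bi B)
  haveI : IsScalarTower Bi B N := IsScalarTower.of_algebraMap_smul fun _ _ => rfl
  haveI : IsScalarTower S₀ Bi N := IsScalarTower.of_algebraMap_smul fun x n => by
    change algebraMap Bi B (algebraMap S₀ Bi x) • n = x • n
    rw [← IsScalarTower.algebraMap_apply, algebraMap_smul]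
  let Ni := Bi ⊗[S₀] M₀
  let f : Ni →ₗ[Bi] N := f₀.liftBaseChange Bi
  have hf : IsBaseChange B f := IsBaseChange.of_comp (TensorProduct.isBaseChange S₀ M₀ Bi) (by
    have : (f.restrictScalars S₀) ∘ₗ TensorProduct.mk S₀ Bi M₀ 1 = f₀ := LinearMap.ext fun x => by
      change f₀.liftBaseChange Bi ((1 : Bi) ⊗ₜ[S₀] x) = f₀ x
      rw [LinearMap.liftBaseChange_tmul, one_smul]
    rw [this]
    exact hf₀)
  let L := Localization.AtPrime pi
  haveI : Module.Projective L (LocalizedModule pi.primeCompl Ni) :=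
    Module.Projective.of_equiv ((AlgebraTensorModule.cancelBaseChange R₀ Ai L L M₀).symm ≪≫ₗ
      AlgebraTensorModule.congr (LinearEquiv.refl L L) (Algebra.IsPushout.cancelBaseChange R₀ Ai S₀ Bi M₀).symm ≪≫ₗ
      (LocalizedModule.equivTensorProduct pi.primeCompl Ni).symm)
  exact ⟨Bi, Ni, inferInstance, inferInstance, inferInstance, inferInstance, inferInstance, inferInstance,
    inferInstance, inferInstance, inferInstance, inferInstance, inferInstance, inferInstance, f, inferInstance,
    hpo.symm, inferInstance, hf, isPureAlong_of_projective Ni pi,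
    fun q _ hq => flatAt_over_of_projective Ni pi q hq.over.symm⟩

/-- The descent, with the projectivity of the localised model given. -/
theorem exists_stage {ι : Type u} [Preorder ι] (G : ι → Type u) [∀ i, CommRing (G i)]
    (g : ∀ i j, i ≤ j → G i →+* G j) {A : Type u} [CommRing A] [∀ i, Algebra (G i) A]
    (hcolim : FlatCA.IsDirectedColimitRing G g A) {R₀ S₀ : Type u} [CommRing R₀] [IsNoetherianRing R₀] [CommRing S₀]
    [Algebra.FiniteType ℤ R₀] [Algebra R₀ S₀] [Algebra.FiniteType R₀ S₀] [Algebra R₀ A] (M₀ : Type u) [AddCommGroup M₀]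
    [Module S₀ M₀] [Module R₀ M₀] [IsScalarTower R₀ S₀ M₀] [Module.Finite S₀ M₀] (p : Ideal A) [p.IsPrime]
    [Module.Flat R₀ (LocalizedModule (p.comap (algebraMap R₀ A)).primeCompl M₀)]
    [Module.Projective (Localization.AtPrime p) (Localization.AtPrime p ⊗[R₀] M₀)] :
    ∃ (i : ι) (_ : Algebra R₀ (G i)), IsScalarTower R₀ (G i) A ∧
      Module.Projective (Localization.AtPrime (p.comap (algebraMap (G i) A)))
        (Localization.AtPrime (p.comap (algebraMap (G i) A)) ⊗[R₀] M₀) := by
  classical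
  obtain ⟨hdir, hne, -, -, hgc, hlift, hkill⟩ := hcolim
  obtain ⟨F, hF⟩ := exists_finset_projective (R₀ := R₀) (S₀ := S₀) M₀ p
  let R₁ := Algebra.adjoin R₀ (F : Set A)
  haveI : Algebra.FiniteType R₀ R₁ := R₁.fg_iff_finiteType.1 ⟨F, rfl⟩
  haveI : Algebra.FiniteType ℤ R₁ := Algebra.FiniteType.trans (R := ℤ) (S := R₀) (A := R₁) inferInstance inferInstance
  haveI : IsDirected ι (· ≤ ·) := hdir
  haveI : Nonempty ι := hne
  obtain ⟨i, χ, hχ⟩ := RingModel.exists_ringHom_lift G (fun j => algebraMap (G j) A)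
    (fun s => by
      induction s using Finset.induction with
      | empty => exact ⟨Classical.arbitrary ι, by simp⟩
      | insert a s _ ih =>
        obtain ⟨j, hj⟩ := ih
        obtain ⟨k, x, hx⟩ := hlift a
        obtain ⟨l, hjl, hkl⟩ := directed_of (· ≤ ·) j k
        refine ⟨l, fun b hb => ?_⟩
        rcases Finset.mem_insert.1 hb with rfl | hb
        · exact ⟨g k l hkl x, (RingHom.congr_fun (hgc k l hkl) x).trans hx⟩
        · obtain ⟨y, hy⟩ := hj b hb
          exact ⟨g j l hjl y, (RingHom.congr_fun (hgc j l hjl) y).trans hy⟩)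
    (fun j y hy => by
      obtain ⟨k, hjk, hk⟩ := hkill j y hy
      exact ⟨k, g j k hjk, hgc j k hjk, hk⟩)
    (R₁.val.toRingHom)
  letI : Algebra R₀ (G i) := (χ.comp (algebraMap R₀ R₁)).toAlgebra
  haveI : IsScalarTower R₀ (G i) A := IsScalarTower.of_algebraMap_eq fun x => by
    exact (RingHom.congr_fun hχ (algebraMap R₀ R₁ x)).symm
  let pi := p.comap (algebraMap (G i) A)
  let L := Localization.AtPrime pi
  let ψ : R₁ →ₐ[R₀] L :=
    (IsScalarTower.toAlgHom R₀ (G i) L).comp { χ with commutes' := fun x => rfl }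
  refine ⟨i, inferInstance, inferInstance, hF R₁ L R₁.val ψ Subtype.val_injective
    (fun a ha => ⟨⟨a, Algebra.subset_adjoin ha⟩, rfl⟩) ?_⟩
  change Ideal.comap ((algebraMap (G i) L).comp χ) (maximalIdeal L) = _
  rw [← Ideal.comap_comap]
  change Ideal.comap χ ((maximalIdeal L).under (G i)) = _
  rw [Localization.AtPrime.under_maximalIdeal, Ideal.comap_comap, hχ]

end Groth.Agent.RG.Loc
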