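import Groth.Agent.RG.Loc.Piece
import Groth.Agent.RG.Loc.Cover
import Mathlib.RingTheory.Spectrum.Prime.Chevalley
import Mathlib.RingTheory.Spectrum.Prime.Topology

/-!
# From flat pieces to open pieces
-/

set_option autoImplicit false
set_option linter.style.haveILetI false
set_option backward.isDefEq.respectTransparency false

universe u

open TensorProduct

namespace Groth.Agent.RG.Loc

attribute [local instance] Algebra.TensorProduct.rightAlgebra in
/-- a basic open of `R' ⊗ S` with projective module over an étale neighbourhood of the base -/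
def OpenPiece (R : Type u) [CommRing R] (S : Type u) [CommRing S] [Algebra R S] (p : Ideal R) [p.IsPrime]
    (q : Ideal S) (N : Type u) [AddCommGroup N] [Module S N] : Prop :=
  ∃ (R' : Type u) (_ : CommRing R') (_ : Algebra R R') (p' : Ideal R') (_ : p'.IsPrime),
    FlatCA.IsEtaleNhd R R' p p' ∧ ∃ (g : R' ⊗[R] S) (q' : Ideal (R' ⊗[R] S)), q'.IsPrime ∧
      q'.comap (algebraMap R' (R' ⊗[R] S)) = p' ∧ q'.comap (algebraMap S (R' ⊗[R] S)) = q ∧ g ∉ q' ∧
      Module.Projective R' (LocalizedModule (Submonoid.powers g) ((R' ⊗[R] S) ⊗[S] N))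

theorem exists_avoid {A : Type u} [CommRing A] (I : Ideal A) (F : Finset (Ideal A)) (hF : ∀ P ∈ F, P.IsPrime)
    (h : ∀ P ∈ F, ¬ I ≤ P) : ∃ g ∈ I, ∀ P ∈ F, g ∉ P := by
  by_contra hcon
  push Not at hcon
  have hsub : (I : Set A) ⊆ ⋃ P ∈ (↑F : Set (Ideal A)), (P : Set A) := fun g hg =>
    Set.mem_iUnion₂.2 (by obtain ⟨P, hP, hgP⟩ := hcon g hg; exact ⟨P, hP, hgP⟩)
  obtain ⟨P, hP, hle⟩ := (Ideal.subset_union_prime (s := F) (f := id) ⊥ ⊥ (fun P hP _ _ => hF P hP)).1 hsub
  exact h P hP hle

/-- every element of `L ⊗ S` is, up to powers of `f`, in the image of `R' ⊗ S` for `L = R'[1/f]` -/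
theorem exists_pow_mul_mem_range {R R' L S : Type u} [CommRing R] [CommRing R'] [CommRing L] [CommRing S]
    [Algebra R R'] [Algebra R L] [Algebra R' L] [IsScalarTower R R' L] [Algebra R S] (f : R') [IsLocalization.Away f L]
    (x : L ⊗[R] S) : ∃ (k : ℕ) (a : R' ⊗[R] S),
      Algebra.TensorProduct.map (IsScalarTower.toAlgHom R R' L) (AlgHom.id R S) a = algebraMap L (L ⊗[R] S) (algebraMap R' L f ^ k) * x := by
  induction x using TensorProduct.induction_on with
  | zero => exact ⟨0, 0, by simp⟩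
  | tmul l s =>
    obtain ⟨r, d, rfl⟩ := IsLocalization.exists_mk'_eq (Submonoid.powers f) l
    obtain ⟨k, hk⟩ := d.2
    refine ⟨k, r ⊗ₜ s, ?_⟩
    rw [Algebra.TensorProduct.map_tmul, Algebra.TensorProduct.algebraMap_apply, Algebra.TensorProduct.tmul_mul_tmul,
      one_mul, AlgHom.id_apply, Algebra.algebraMap_self, RingHom.id_apply, ← map_pow,
      show f ^ k = (d : R') from hk, IsLocalization.mk'_spec', IsScalarTower.toAlgHom_apply]
  | add a b ha hb =>
    obtain ⟨k, a', ha⟩ := ha
    obtain ⟨l, b', hb⟩ := hb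
    refine ⟨k + l, algebraMap R' _ (f ^ l) * a' + algebraMap R' _ (f ^ k) * b', ?_⟩
    have hm : ∀ r : R', Algebra.TensorProduct.map (IsScalarTower.toAlgHom R R' L) (AlgHom.id R S)
        (algebraMap R' (R' ⊗[R] S) r) = algebraMap L (L ⊗[R] S) (algebraMap R' L r) := fun r => by
      simp [Algebra.TensorProduct.algebraMap_apply]
    rw [map_add, map_mul, map_mul, ha, hb, hm, hm]
    simp only [map_pow, map_mul, pow_add]
    ring

attribute [local instance] Algebra.TensorProduct.rightAlgebra in
theorem exists_openPiece {R : Type u} [CommRing R] [IsNoetherianRing R] {S : Type u} [CommRing S] [Algebra R S]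
    [Algebra.FiniteType R S] {p : Ideal R} [p.IsPrime] {q : Ideal S} {N : Type u} [AddCommGroup N] [Module S N]
    [Module.Finite S N] (h : EPiece R S p q N) : OpenPiece R S p q N := by
  classical
  obtain ⟨R', _, _, p', _, hn, C, _, _, _, _, _, _, hft, hflat, hproj, x, hx, hxp, hxq⟩ := h
  haveI := hn.1
  haveI : IsNoetherianRing R' := Algebra.FiniteType.isNoetherianRing R R'
  let A := R' ⊗[R] S
  haveI : IsNoetherianRing A := Algebra.FiniteType.isNoetherianRing R' A
  haveI : IsNoetherianRing C := Algebra.FiniteType.isNoetherianRing R' C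
  letI : Algebra A C := (pieceHom R R' S C).toRingHom.toAlgebra
  haveI : IsScalarTower R' A C := IsScalarTower.of_algebraMap_eq fun r => ((pieceHom R R' S C).commutes r).symm
  haveI : Module.Flat A C := hflat
  haveI : Algebra.FiniteType A C := Algebra.FiniteType.of_restrictScalars_finiteType R' A C
  haveI : Algebra.FinitePresentation A C := Algebra.FinitePresentation.of_finiteType.1 inferInstance
  haveI := hproj
  let W := C ⊗[S] N
  let c₀ : A →+* C := algebraMap A C
  have hopen : IsOpen (Set.range (PrimeSpectrum.comap c₀)) :=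
    (PrimeSpectrum.isOpenMap_comap_of_hasGoingDown_of_finitePresentation (R := A) (S := C)).isOpen_range
  let I := PrimeSpectrum.vanishingIdeal (Set.range (PrimeSpectrum.comap c₀))ᶜ
  have hI : ∀ P : PrimeSpectrum A, ¬ I ≤ P.asIdeal ↔ P ∈ Set.range (PrimeSpectrum.comap c₀) := fun P => by
    rw [← PrimeSpectrum.mem_zeroLocus P (I : Set A) |>.trans SetLike.coe_subset_coe,
      PrimeSpectrum.zeroLocus_vanishingIdeal_eq_closure, hopen.isClosed_compl.closure_eq, Set.mem_compl_iff, not_not]
  let F : Finset (Ideal A) := insert (x.comap c₀) ((finite_assPts R' C W p').toFinset.image fun σ => σ.comap c₀)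
  have hmemF : ∀ P ∈ F, ∃ σ : Ideal C, σ.IsPrime ∧ P = σ.comap c₀ := by
    intro P hP
    rcases Finset.mem_insert.1 hP with rfl | hP
    · exact ⟨x, hx, rfl⟩
    · obtain ⟨σ, hσ, rfl⟩ := Finset.mem_image.1 hP
      exact ⟨σ, (isPrime_of_mem_assPts R' C W ((Set.Finite.mem_toFinset _).1 hσ)).1, rfl⟩
  obtain ⟨g, hgI, hgF⟩ := exists_avoid I F (fun P hP => by
      obtain ⟨σ, hσ, rfl⟩ := hmemF P hP
      exact Ideal.IsPrime.comap _) fun P hP => by
      obtain ⟨σ, hσ, rfl⟩ := hmemF P hP
      exact (hI ⟨σ.comap c₀, Ideal.IsPrime.comap _⟩).2 ⟨⟨σ, hσ⟩, rfl⟩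
  have hgq : c₀ g ∉ x := hgF _ (Finset.mem_insert_self _ _)
  have hreg : Function.Injective (Pure.act R' p'.ResidueField (N := W) (c₀ g)) :=
    (injective_act_iff p' (c₀ g)).2 fun σ hσ => hgF _
      (Finset.mem_insert_of_mem (Finset.mem_image.2 ⟨σ, (Set.Finite.mem_toFinset _).2 hσ, rfl⟩))
  obtain ⟨f, hf, hregf⟩ := exists_nhd_regular (R := R') (S := C) (N := W) p' (c₀ g) hreg
  -- base change to `R'[1/f]`
  let L := Localization.Away f
  obtain ⟨pL, _, hnL⟩ := isEtaleNhd_away (R := R') (p := p') f hf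
  let AL := L ⊗[R] S
  let φ : A →ₐ[R] AL := Algebra.TensorProduct.map (IsScalarTower.toAlgHom R R' L) (AlgHom.id R S)
  let CL := L ⊗[R'] C
  letI : Algebra S CL := ((algebraMap C CL).comp (algebraMap S C)).toAlgebra
  haveI : IsScalarTower S C CL := IsScalarTower.of_algebraMap_eq' rfl
  haveI : IsScalarTower R' C CL := inferInstance
  haveI : IsScalarTower R L CL := inferInstance
  haveI : IsScalarTower R C CL := IsScalarTower.of_algebraMap_eq fun r => by
    rw [IsScalarTower.algebraMap_apply R L CL, IsScalarTower.algebraMap_apply R R' L,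
      IsScalarTower.algebraMap_apply R R' C, ← IsScalarTower.algebraMap_apply R' L CL,
      ← IsScalarTower.algebraMap_apply R' C CL]
  haveI : IsScalarTower R S CL := IsScalarTower.of_algebraMap_eq fun r => by
    rw [IsScalarTower.algebraMap_apply S C CL, ← IsScalarTower.algebraMap_apply R S C,
      ← IsScalarTower.algebraMap_apply R C CL]
  letI : Algebra AL CL := (pieceHom R L S CL).toRingHom.toAlgebra
  haveI : IsScalarTower L AL CL := IsScalarTower.of_algebraMap_eq fun r => ((pieceHom R L S CL).commutes r).symm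
  haveI : IsScalarTower S AL CL := IsScalarTower.of_algebraMap_eq fun s => by
    change algebraMap S CL s = pieceHom R L S CL (1 ⊗ₜ s)
    rw [pieceHom_tmul, map_one, one_mul]
  have hflatL : (pieceHom R L S CL).toRingHom.Flat := by
    let θ : L ⊗[R'] A ≃ₐ[L] AL := Algebra.TensorProduct.cancelBaseChange R R' L L S
    have hcomp : pieceHom R L S CL =
        (Algebra.TensorProduct.map (AlgHom.id L L) (pieceHom R R' S C)).comp θ.symm.toAlgHom := by
      refine Algebra.TensorProduct.ext' fun a s => ?_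
      have h1 : θ.symm (a ⊗ₜ s) = a ⊗ₜ ((1 : R') ⊗ₜ s) := rfl
      change pieceHom R L S CL (a ⊗ₜ s) =
        Algebra.TensorProduct.map (AlgHom.id L L) (pieceHom R R' S C) (θ.symm (a ⊗ₜ s))
      rw [h1, Algebra.TensorProduct.map_tmul, AlgHom.id_apply, pieceHom_tmul, pieceHom_tmul, map_one, one_mul]
      change (a ⊗ₜ[R'] (1 : C)) * ((1 : L) ⊗ₜ[R'] algebraMap S C s) = _
      rw [Algebra.TensorProduct.tmul_mul_tmul, mul_one, one_mul]
    rw [hcomp]
    exact RingHom.Flat.comp (RingHom.Flat.of_bijective (f := θ.symm.toAlgHom.toRingHom) θ.symm.bijective)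
      (flat_map_id R' L (pieceHom R R' S C) hflat)
  haveI : Module.Flat AL CL := hflatL
  haveI : Algebra.FiniteType L CL := inferInstance
  have hφ : ∀ a : A, pieceHom R L S CL (φ a) = algebraMap C CL (c₀ a) := by
    intro a
    induction a using TensorProduct.induction_on with
    | zero => simp
    | tmul r s =>
      change pieceHom R L S CL (algebraMap R' L r ⊗ₜ s) = algebraMap C CL (pieceHom R R' S C (r ⊗ₜ s))
      rw [pieceHom_tmul, pieceHom_tmul, map_mul, ← IsScalarTower.algebraMap_apply R' L CL,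
        ← IsScalarTower.algebraMap_apply R' C CL, ← IsScalarTower.algebraMap_apply S C CL]
    | add a b ha hb => simp only [map_add, ha, hb]
  -- the module
  let WL := CL ⊗[AL] (AL ⊗[S] N)
  let eP : CL ⊗[C] W ≃ₗ[L] L ⊗[R'] W := Algebra.IsPushout.cancelBaseChange R' L C CL W
  let e : L ⊗[R'] W ≃ₗ[L] WL :=
    eP.symm ≪≫ₗ ((AlgebraTensorModule.cancelBaseChange S C CL CL N).restrictScalars L) ≪≫ₗ
      ((AlgebraTensorModule.cancelBaseChange S AL CL CL N).symm.restrictScalars L)
  have he : ∀ (l : L) (c : C) (n : N), e (l ⊗ₜ (c ⊗ₜ n)) = (l ⊗ₜ[R'] c : CL) ⊗ₜ[AL] ((1 : AL) ⊗ₜ[S] n) := by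
    intro l c n
    have h1 : eP.symm (l ⊗ₜ[R'] (c ⊗ₜ[S] n)) = algebraMap L CL l ⊗ₜ[C] (c ⊗ₜ[S] n) :=
      eP.injective (by rw [LinearEquiv.apply_symm_apply, Algebra.algebraMap_eq_smul_one, ← smul_tmul', map_smul,
        Algebra.IsPushout.cancelBaseChange_tmul, smul_tmul', smul_eq_mul, mul_one])
    simp only [e, LinearEquiv.trans_apply, LinearEquiv.restrictScalars_apply, h1,
      AlgebraTensorModule.cancelBaseChange_tmul, AlgebraTensorModule.cancelBaseChange_symm_tmul]
    have h2 : c • algebraMap L CL l = (l ⊗ₜ[R'] c : CL) := by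
      rw [Algebra.smul_def]
      change ((1 : L) ⊗ₜ[R'] c) * (l ⊗ₜ[R'] (1 : C)) = _
      rw [Algebra.TensorProduct.tmul_mul_tmul, one_mul, mul_one]
    rw [← h2]
    refine (congrArg (fun y => (AlgebraTensorModule.cancelBaseChange S AL CL CL N).symm y)
      (AlgebraTensorModule.cancelBaseChange_tmul S C CL (algebraMap L CL l) n c)).trans ?_
    rw [LinearEquiv.symm_apply_eq, AlgebraTensorModule.cancelBaseChange_tmul, one_smul]

  haveI : Module.Projective L WL := Module.Projective.of_equiv e
  let gL := φ g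
  let μ : W →ₗ[R'] W := (LinearMap.lsmul C W (c₀ g)).restrictScalars R'
  let μL : WL →ₗ[L] WL := (LinearMap.lsmul CL WL (algebraMap AL CL gL)).restrictScalars L
  have hμ : μL = e.toLinearMap ∘ₗ μ.baseChange L ∘ₗ e.symm.toLinearMap := by
    rw [← LinearMap.comp_assoc, LinearEquiv.eq_comp_toLinearMap_symm]
    refine AlgebraTensorModule.ext fun l w => ?_
    induction w using TensorProduct.induction_on with
    | zero => simp
    | add a b ha hb => simp only [tmul_add, map_add, ha, hb]
    | tmul c n =>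
      simp only [μL, μ, LinearMap.comp_apply, LinearEquiv.coe_coe, LinearMap.restrictScalars_apply,
        LinearMap.lsmul_apply, LinearMap.baseChange_tmul]
      rw [he, smul_tmul' (c₀ g) c n, he, smul_tmul', smul_eq_mul]
      congr 1
      change pieceHom R L S CL (φ g) * _ = _
      rw [hφ, smul_eq_mul]
      change ((1 : L) ⊗ₜ[R'] c₀ g) * (l ⊗ₜ[R'] c) = _
      rw [Algebra.TensorProduct.tmul_mul_tmul, one_mul]
  have hfL : IsUnit (algebraMap R' L f) := IsLocalization.map_units L ⟨f, Submonoid.mem_powers f⟩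
  have hgL : ∀ (t : Ideal L) [t.IsPrime],
      Function.Injective (Pure.act L t.ResidueField (N := WL) (algebraMap AL CL gL)) := by
    intro t _
    change Function.Injective (μL.lTensor t.ResidueField)
    rw [hμ, LinearMap.lTensor_comp, LinearMap.lTensor_comp, LinearMap.coe_comp, LinearMap.coe_comp]
    refine (e.lTensor t.ResidueField).injective.comp (Function.Injective.comp ?_ (e.symm.lTensor t.ResidueField).injective)
    rw [Pure.injective_lTensor_baseChange μ t.ResidueField]
    let t₀ : Ideal R' := t.comap (algebraMap R' L)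
    letI : Algebra t₀.ResidueField t.ResidueField := (Ideal.ResidueField.map t₀ t (algebraMap R' L) rfl).toAlgebra
    haveI : IsScalarTower R' t₀.ResidueField t.ResidueField := IsScalarTower.of_algebraMap_eq fun a => by
      rw [RingHom.algebraMap_toAlgebra, Ideal.ResidueField.map_algebraMap, ← IsScalarTower.algebraMap_apply]
    rw [Pure.injective_lTensor_field_ext μ t₀.ResidueField t.ResidueField]
    exact hregf t₀ fun h => ‹t.IsPrime›.ne_top (t.eq_top_of_isUnit_mem h hfL)
  have hinjφ : ∀ P P' : Ideal AL, P.IsPrime → P'.IsPrime → P.comap φ.toRingHom = P'.comap φ.toRingHom → P = P' := by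
    have key : ∀ P P' : Ideal AL, P.IsPrime → P'.IsPrime → P.comap φ.toRingHom = P'.comap φ.toRingHom → P ≤ P' := by
      intro P P' hP hP' hPP y hy
      obtain ⟨k, a, ha⟩ := exists_pow_mul_mem_range (S := S) (L := L) f y
      have h1 : φ.toRingHom a ∈ P := by
        change φ a ∈ P
        rw [show φ a = _ from ha]
        exact P.mul_mem_left _ hy
      have h2 : φ a ∈ P' := (hPP ▸ Ideal.mem_comap.2 h1 : a ∈ P'.comap φ.toRingHom)
      rw [show φ a = _ from ha] at h2
      exact ((Ideal.IsPrime.mem_or_mem hP' h2).resolve_left fun h =>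
        hP'.ne_top (P'.eq_top_of_isUnit_mem h ((hfL.pow k).map _)))
    exact fun P P' hP hP' h => le_antisymm (key P P' hP hP' h) (key P' P hP' hP h.symm)
  haveI hloc : IsLocalization (Algebra.algebraMapSubmonoid C (Submonoid.powers f)) CL :=
    (Algebra.isLocalization_iff_isPushout (Submonoid.powers f) L).2
      (Algebra.IsPushout.symm inferInstance)
  have hlift : ∀ Q : Ideal C, Q.IsPrime → algebraMap R' C f ∉ Q →
      ∃ QL : Ideal CL, QL.IsPrime ∧ QL.comap (algebraMap C CL) = Q := by
    intro Q hQ hfQ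
    have hd : Disjoint (Algebra.algebraMapSubmonoid C (Submonoid.powers f) : Set C) (Q : Set C) := by
      rw [Algebra.algebraMapSubmonoid_powers, Ideal.disjoint_powers_iff_notMem_of_isPrime]
      exact hfQ
    exact ⟨_, IsLocalization.isPrime_of_isPrime_disjoint _ CL Q hQ hd,
      IsLocalization.comap_map_of_isPrime_disjoint _ CL hQ hd⟩
  have hrange : ∀ P : PrimeSpectrum AL, gL ∉ P.asIdeal → P ∈ Set.range (PrimeSpectrum.comap (algebraMap AL CL)) := by
    intro P hP
    let P₀ : PrimeSpectrum A := ⟨P.asIdeal.comap φ.toRingHom, Ideal.IsPrime.comap _⟩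
    obtain ⟨Q, hQ⟩ := (hI P₀).1 fun hle => hP (hle hgI)
    have hQP : Q.asIdeal.comap c₀ = P.asIdeal.comap φ.toRingHom := congrArg PrimeSpectrum.asIdeal hQ
    have hfQ : algebraMap R' C f ∉ Q.asIdeal := fun h => by
      have h1 : algebraMap R' A f ∈ P.asIdeal.comap φ.toRingHom := by
        rw [← hQP, Ideal.mem_comap]
        change pieceHom R R' S C (algebraMap R' A f) ∈ _
        rwa [AlgHom.commutes]
      refine P.isPrime.ne_top (P.asIdeal.eq_top_of_isUnit_mem (Ideal.mem_comap.1 h1) ?_)
      change IsUnit (φ (f ⊗ₜ 1))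
      exact hfL.map (algebraMap L AL)
    obtain ⟨QL, hQL, hQLQ⟩ := hlift Q.asIdeal Q.isPrime hfQ
    refine ⟨⟨QL, hQL⟩, PrimeSpectrum.ext (hinjφ _ _ (Ideal.IsPrime.comap _) P.isPrime ?_)⟩
    change (QL.comap (algebraMap AL CL)).comap φ.toRingHom = _
    rw [← hQP, ← hQLQ, Ideal.comap_comap, Ideal.comap_comap]
    exact congrArg (fun h => Ideal.comap h QL) (RingHom.ext hφ)
  have hproj' : Module.Projective L (LocalizedModule (Submonoid.powers gL) (AL ⊗[S] N)) :=
    projective_of_cover (R := L) (C := CL) (AL ⊗[S] N) gL hgL hrange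
  -- the point
  have hfx : algebraMap R' C f ∉ x := fun h => hf (by rw [← hxp]; exact h)
  obtain ⟨xL, hxL, hxLx⟩ := hlift x hx hfx
  haveI := hxL
  have hxLp : (xL.comap (algebraMap AL CL)).comap (algebraMap L AL) = pL := by
    rw [Ideal.comap_comap, ← IsScalarTower.algebraMap_eq L AL CL]
    refine congrArg PrimeSpectrum.asIdeal (PrimeSpectrum.localization_comap_injective L (Submonoid.powers f)
      (a₁ := ⟨xL.comap (algebraMap L CL), Ideal.IsPrime.comap _⟩) (a₂ := ⟨pL, ‹_›⟩) (PrimeSpectrum.ext ?_))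
    change (xL.comap (algebraMap L CL)).comap (algebraMap R' L) = pL.comap (algebraMap R' L)
    rw [comap_of_isEtaleNhd hnL, Ideal.comap_comap, ← IsScalarTower.algebraMap_eq R' L CL,
      IsScalarTower.algebraMap_eq R' C CL, ← Ideal.comap_comap, hxLx, hxp]
  refine ⟨L, inferInstance, inferInstance, pL, ‹_›, isEtaleNhd_trans hn hnL, gL, xL.comap (algebraMap AL CL),
    Ideal.IsPrime.comap _, hxLp, ?_, fun h => hgq ?_, hproj'⟩
  · rw [Ideal.comap_comap, ← IsScalarTower.algebraMap_eq S AL CL, IsScalarTower.algebraMap_eq S C CL,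
      ← Ideal.comap_comap, hxLx, hxq]
  · rw [← hxLx, Ideal.mem_comap, ← hφ]
    exact h

end Groth.Agent.RG.Loc
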