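import Groth.Agent.RG.Loc.Step
import Groth.Agent.SegreDim.Noether
import Mathlib.RingTheory.KrullDimension.Polynomial
import Mathlib.RingTheory.KrullDimension.Field
import Mathlib.RingTheory.TensorProduct.MvPolynomial
import Mathlib.RingTheory.NoetherNormalization
import Mathlib.RingTheory.Unramified.LocalStructure
import Mathlib.RingTheory.ZariskisMainTheorem

/-!
# Dimension bounds and normalisation of a fibre
-/

set_option autoImplicit false
set_option linter.style.haveILetI false
set_option backward.isDefEq.respectTransparency false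

universe u

open TensorProduct

namespace Groth.Agent.RG.Loc

/-- transport of the bound along a strictly monotone map of the primes over the points -/
theorem DimLT.of_map {R S R₁ S₁ : Type u} [CommRing R] [CommRing S] [Algebra R S] [CommRing R₁] [CommRing S₁]
    [Algebra R₁ S₁] {p : Ideal R} {p₁ : Ideal R₁} {n : ℕ} (h : DimLT R S p n) (j : S →+* S₁)
    (hmem : ∀ Q : Ideal S₁, Q.IsPrime → Q.comap (algebraMap R₁ S₁) = p₁ → (Q.comap j).comap (algebraMap R S) = p)
    (hinc : ∀ Q Q' : Ideal S₁, Q.IsPrime → Q'.IsPrime → Q.comap (algebraMap R₁ S₁) = p₁ →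
      Q'.comap (algebraMap R₁ S₁) = p₁ → Q ≤ Q' → Q.comap j = Q'.comap j → Q = Q') : DimLT R₁ S₁ p₁ n := by
  intro l
  let φ : {q : PrimeSpectrum S₁ // q.asIdeal.comap (algebraMap R₁ S₁) = p₁} →
      {q : PrimeSpectrum S // q.asIdeal.comap (algebraMap R S) = p} := fun q =>
    ⟨⟨q.1.asIdeal.comap j, Ideal.IsPrime.comap _⟩, hmem _ q.1.isPrime q.2⟩
  have hφ : StrictMono φ := fun q q' hqq => lt_of_le_of_ne (Ideal.comap_mono (le_of_lt hqq : q ≤ q')) fun he =>
    (ne_of_lt hqq) (Subtype.ext (PrimeSpectrum.ext (hinc _ _ q.1.isPrime q'.1.isPrime q.2 q'.2 (le_of_lt hqq : q ≤ q')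
      (congrArg (fun x => x.1.asIdeal) he))))
  simpa using h (l.map φ hφ)

theorem DimLT.mono {R S : Type u} [CommRing R] [CommRing S] [Algebra R S] {p : Ideal R} {n m : ℕ} (h : DimLT R S p n)
    (hnm : n ≤ m) : DimLT R S p m := fun l => (h l).trans_le hnm

/-- same base: an injective map on spectra -/
theorem DimLT.of_comap_injective {R S S₁ : Type u} [CommRing R] [CommRing S] [Algebra R S] [CommRing S₁]
    [Algebra R S₁] [Algebra S S₁] [IsScalarTower R S S₁] {p : Ideal R} {n : ℕ} (h : DimLT R S p n)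
    (hinj : ∀ Q Q' : Ideal S₁, Q.IsPrime → Q'.IsPrime → Q ≤ Q' → Q.comap (algebraMap S S₁) = Q'.comap (algebraMap S S₁) → Q = Q') :
    DimLT R S₁ p n :=
  h.of_map (algebraMap S S₁) (fun Q _ hQ => by rw [Ideal.comap_comap, ← IsScalarTower.algebraMap_eq, hQ])
    fun Q Q' hQ hQ' _ _ hle he => hinj Q Q' hQ hQ' hle he

theorem DimLT.away {R S S₁ : Type u} [CommRing R] [CommRing S] [Algebra R S] [CommRing S₁] [Algebra R S₁]
    [Algebra S S₁] [IsScalarTower R S S₁] (g : S) [IsLocalization.Away g S₁] {p : Ideal R} {n : ℕ}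
    (h : DimLT R S p n) : DimLT R S₁ p n :=
  h.of_comap_injective fun Q Q' hQ hQ' _ he => congrArg PrimeSpectrum.asIdeal
    (PrimeSpectrum.localization_comap_injective S₁ (Submonoid.powers g) (a₁ := ⟨Q, hQ⟩) (a₂ := ⟨Q', hQ'⟩)
      (PrimeSpectrum.ext he))

attribute [local instance] Algebra.TensorProduct.rightAlgebra in
theorem DimLT.nhd {R R' S : Type u} [CommRing R] [CommRing R'] [CommRing S] [Algebra R R'] [Algebra R S]
    {p : Ideal R} [p.IsPrime] {p' : Ideal R'} [p'.IsPrime] (hn : FlatCA.IsEtaleNhd R R' p p') {n : ℕ}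
    (h : DimLT R S p n) : DimLT R' (R' ⊗[R] S) p' n := by
  refine h.of_map (algebraMap S (R' ⊗[R] S)) (fun Q _ hQ => ?_) fun Q Q' hQ hQ' hQp hQ'p _ he => ?_
  · rw [← comap_of_isEtaleNhd hn, ← hQ, Ideal.comap_comap, Ideal.comap_comap]
    congr 1
    refine RingHom.ext fun r => ?_
    change (1 : R') ⊗ₜ[R] algebraMap R S r = algebraMap R R' r ⊗ₜ[R] (1 : S)
    rw [Algebra.algebraMap_eq_smul_one, Algebra.algebraMap_eq_smul_one, smul_tmul]
  · ext x
    obtain ⟨c, y, hc, hcy⟩ := exists_approx hn x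
    rw [mem_iff_of_nhd hn hQp hc hcy, mem_iff_of_nhd hn hQ'p hc hcy, he]

/-- quasi-finite algebras do not increase the dimension of the fibres -/
theorem DimLT.quasiFinite {R A T : Type u} [CommRing R] [CommRing A] [CommRing T] [Algebra R A] [Algebra R T]
    [Algebra A T] [IsScalarTower R A T] [Algebra.QuasiFinite A T] {p : Ideal R} {n : ℕ} (h : DimLT R A p n) :
    DimLT R T p n :=
  h.of_comap_injective fun Q Q' hQ hQ' hle he => Algebra.QuasiFinite.eq_of_le_of_under_eq (R := A) Q Q' hle he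

theorem dimLT_iff_ringKrullDim {R S : Type u} [CommRing R] [CommRing S] [Algebra R S] (p : Ideal R) [p.IsPrime] (n : ℕ) :
    DimLT R S p (n + 1) ↔ ringKrullDim (p.Fiber S) ≤ n := by
  let e₀ : {q : PrimeSpectrum S // q.asIdeal.comap (algebraMap R S) = p} ≃o
      ↥(PrimeSpectrum.comap (algebraMap R S) ⁻¹' {(⟨p, ‹_›⟩ : PrimeSpectrum R)}) :=
    { toFun := fun q => ⟨q.1, PrimeSpectrum.ext q.2⟩
      invFun := fun q => ⟨q.1, congrArg PrimeSpectrum.asIdeal q.2⟩
      left_inv := fun _ => rfl
      right_inv := fun _ => rfl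
      map_rel_iff' := Iff.rfl }
  rw [ringKrullDim, ← Order.krullDim_eq_of_orderIso (e₀.trans (PrimeSpectrum.preimageOrderIsoFiber R S ⟨p, ‹_›⟩))]
  refine ⟨fun h => iSup_le fun l => ?_, fun h l => ?_⟩
  · exact_mod_cast Nat.lt_succ_iff.1 (h l)
  · exact Nat.lt_succ_iff.2 (by exact_mod_cast (Order.LTSeries.length_le_krullDim l).trans h)

theorem dimLT_mvPolynomial (R : Type u) [CommRing R] (p : Ideal R) [p.IsPrime] (s : ℕ) :
    DimLT R (MvPolynomial (Fin s) R) p (s + 1) := by
  rw [dimLT_iff_ringKrullDim, ringKrullDim_eq_of_ringEquiv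
    (MvPolynomial.algebraTensorAlgEquiv R p.ResidueField (σ := Fin s)).toRingEquiv]
  simp [MvPolynomial.ringKrullDim_of_isNoetherianRing]

/-- scaled normalisation of the fibre, centred at a maximal point of it -/
theorem exists_noether {R S : Type u} [CommRing R] [CommRing S] [Algebra R S] [Algebra.FiniteType R S] (p : Ideal R)
    [p.IsPrime] (q : Ideal S) [q.IsPrime] (hq : q.comap (algebraMap R S) = p)
    (hmax : ∀ Q : Ideal S, Q.IsPrime → Q.comap (algebraMap R S) = p → q ≤ Q → Q = q) {n : ℕ}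
    (hdim : DimLT R S p (n + 1)) :
    ∃ (s : ℕ) (b : Fin s → S), s ≤ n ∧ (∀ i, b i ∈ q) ∧
      (MvPolynomial.aeval fun i => (1 : p.ResidueField) ⊗ₜ[R] b i : MvPolynomial (Fin s) p.ResidueField →ₐ[p.ResidueField] p.Fiber S).Finite := by
  classical
  let k := p.ResidueField
  let F := p.Fiber S
  let e := PrimeSpectrum.preimageOrderIsoFiber R S ⟨p, ‹_›⟩
  let qF : PrimeSpectrum F := e ⟨⟨q, ‹_›⟩, PrimeSpectrum.ext hq⟩
  have hqF : qF.asIdeal.comap (Algebra.TensorProduct.includeRight : S →ₐ[R] F).toRingHom = q :=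
    congrArg (fun x => x.1.asIdeal) (e.symm_apply_apply ⟨⟨q, ‹_›⟩, PrimeSpectrum.ext hq⟩)
  haveI hqm : qF.asIdeal.IsMaximal := by
    obtain ⟨M, hM, hle⟩ := Ideal.exists_le_maximal qF.asIdeal qF.isPrime.ne_top
    obtain ⟨x, hx⟩ := e.surjective ⟨M, hM.isPrime⟩
    have hxle : (⟨⟨q, ‹_›⟩, PrimeSpectrum.ext hq⟩ : ↥(PrimeSpectrum.comap (algebraMap R S) ⁻¹' {(⟨p, ‹_›⟩ : PrimeSpectrum R)})) ≤ x := by
      rw [← e.le_iff_le, hx]
      exact hle
    have hxq : x = ⟨⟨q, ‹_›⟩, PrimeSpectrum.ext hq⟩ := Subtype.ext (PrimeSpectrum.ext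
      (hmax _ x.1.isPrime (congrArg PrimeSpectrum.asIdeal x.2) hxle))
    rw [hxq] at hx
    have : qF.asIdeal = M := congrArg PrimeSpectrum.asIdeal hx
    rwa [this]
  haveI : Algebra.FiniteType k F := inferInstance
  haveI : Nontrivial F := ⟨0, 1, fun h => qF.isPrime.ne_top ((Ideal.eq_top_iff_one _).2 (by rw [← h]; exact zero_mem _))⟩
  obtain ⟨s, g, hginj, hgfin⟩ := exists_finite_inj_algHom_of_fg k F
  let P := MvPolynomial (Fin s) k
  have hdimF : ringKrullDim F ≤ n := (dimLT_iff_ringKrullDim p n).1 hdim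
  have hsn : s ≤ n := by
    letI : Algebra P F := g.toRingHom.toAlgebra
    haveI : Module.Finite P F := hgfin
    have h1 := Groth.Agent.SegreDim.ringKrullDim_eq_of_injective_integral (A := P) (B := F) hginj
    rw [← h1, MvPolynomial.ringKrullDim_of_isNoetherianRing, ringKrullDim_eq_zero_of_field, zero_add,
      Nat.card_fin] at hdimF
    exact_mod_cast hdimF
  haveI : Module.Finite k (F ⧸ qF.asIdeal) :=
    letI := Ideal.Quotient.field qF.asIdeal
    finite_of_finite_type_of_isJacobsonRing k (F ⧸ qF.asIdeal)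
  choose h hmonic hh using fun i : Fin s => (Algebra.IsIntegral.isIntegral (R := k)
    (Ideal.Quotient.mk qF.asIdeal (g (MvPolynomial.X i))) : IsIntegral k (Ideal.Quotient.mk qF.asIdeal (g (MvPolynomial.X i))))
  choose c hc b hb using fun i : Fin s => exists_scalar (R := R) (p := p) (Polynomial.aeval (g (MvPolynomial.X i)) (h i))
  have hmem : ∀ i, Polynomial.aeval (g (MvPolynomial.X i)) (h i) ∈ qF.asIdeal := fun i => by
    rw [← Ideal.Quotient.eq_zero_iff_mem, ← Ideal.Quotient.mkₐ_eq_mk k, ← Polynomial.aeval_algHom_apply]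
    exact hh i
  refine ⟨s, b, hsn, fun i => ?_, ?_⟩
  · rw [← hqF, Ideal.mem_comap]
    change (1 : k) ⊗ₜ[R] b i ∈ qF.asIdeal
    rw [← hb i, Algebra.smul_def]
    exact Ideal.mul_mem_left _ _ (hmem i)
  let ck : Fin s → k := fun i => algebraMap R k (c i)
  let ψ : P →ₐ[k] P := MvPolynomial.aeval fun i => ck i • Polynomial.aeval (MvPolynomial.X i : P) (h i)
  have hcomp : (MvPolynomial.aeval fun i => (1 : k) ⊗ₜ[R] b i : P →ₐ[k] F) = g.comp ψ := by
    refine MvPolynomial.algHom_ext fun i => ?_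
    rw [AlgHom.comp_apply, MvPolynomial.aeval_X, MvPolynomial.aeval_X, map_smul, ← Polynomial.aeval_algHom_apply, hb i]
  rw [hcomp]
  refine hgfin.comp ?_
  have hint : ψ.toRingHom.IsIntegral := by
    intro x
    induction x using MvPolynomial.induction_on with
    | C a => exact ⟨Polynomial.X - Polynomial.C (MvPolynomial.C a), Polynomial.monic_X_sub_C _, by
      rw [Polynomial.eval₂_sub, Polynomial.eval₂_X, Polynomial.eval₂_C]
      exact sub_eq_zero.2 (ψ.commutes a).symm⟩
    | add a b ha hb => exact RingHom.IsIntegralElem.add _ ha hb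
    | mul_X a i ha =>
      refine RingHom.IsIntegralElem.mul _ ha ?_
      have hck : ck i ≠ 0 := fun h0 => hc i (Ideal.algebraMap_residueField_eq_zero.1 h0)
      have hdeg : (h i).natDegree ≠ 0 := fun h0 => by
        have h1 := (Polynomial.Monic.natDegree_eq_zero (hmonic i)).1 h0
        have h2 := hh i
        rw [h1, Polynomial.eval₂_one] at h2
        exact one_ne_zero h2
      let f : Polynomial P := (h i).map (MvPolynomial.C) - Polynomial.C ((ck i)⁻¹ • MvPolynomial.X i)
      refine ⟨f, ?_, ?_⟩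
      · refine ((hmonic i).map _).sub_of_left ?_
        refine Polynomial.degree_C_le.trans_lt ?_
        rw [(hmonic i).degree_map, ← Polynomial.natDegree_pos_iff_degree_pos]
        exact Nat.pos_of_ne_zero hdeg
      · rw [Polynomial.eval₂_sub, Polynomial.eval₂_map, Polynomial.eval₂_C,
          show ψ.toRingHom.comp MvPolynomial.C = algebraMap k P from ψ.comp_algebraMap]
        change Polynomial.aeval (MvPolynomial.X i) (h i) - ψ ((ck i)⁻¹ • MvPolynomial.X i) = 0
        rw [map_smul, MvPolynomial.aeval_X, inv_smul_smul₀ hck, sub_self]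
  refine hint.to_finite ?_
  exact RingHom.FiniteType.of_comp_finiteType (f := MvPolynomial.C) (g := ψ.toRingHom) (by
    rw [show ψ.toRingHom.comp MvPolynomial.C = algebraMap k P from ψ.comp_algebraMap]
    exact RingHom.finiteType_algebraMap.2 inferInstance)

attribute [local instance] Algebra.TensorProduct.rightAlgebra in
/-- an algebra whose fibre is finite over the coordinates is quasi-finite over the origin -/
theorem quasiFiniteAt_origin {R A S : Type u} [CommRing R] [CommRing A] [CommRing S] [Algebra R A] [Algebra R S]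
    [Algebra A S] [IsScalarTower R A S] [Algebra.FiniteType R S] (p : Ideal R) [p.IsPrime] (t : Ideal A) [t.IsPrime]
    (ht : t.comap (algebraMap R A) = p) (q : Ideal S) [q.IsPrime] [q.LiesOver t] {s : ℕ} (y : Fin s → A) (hy : ∀ i, y i ∈ t)
    (hres : ∀ a : A, ∃ r : R, a - algebraMap R A r ∈ t)
    (hfin : (MvPolynomial.aeval fun i => (1 : p.ResidueField) ⊗ₜ[R] algebraMap A S (y i) :
      MvPolynomial (Fin s) p.ResidueField →ₐ[p.ResidueField] p.Fiber S).Finite) :
    Algebra.QuasiFiniteAt A q := by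
  let k := p.ResidueField
  let Ft := t.Fiber S
  let ι : k →ₐ[R] t.ResidueField := Ideal.ResidueField.mapₐ p t (Algebra.ofId R A) ht.symm
  let G : p.Fiber S →ₐ[R] Ft := Algebra.TensorProduct.lift ((IsScalarTower.toAlgHom R t.ResidueField Ft).comp ι)
    ((Algebra.TensorProduct.includeRight : S →ₐ[A] Ft).restrictScalars R) fun _ _ => Commute.all _ _
  have hιsurj : Function.Surjective ι := by
    intro z
    obtain ⟨a, b, hb, hab⟩ := exists_frac_residue (p := t) z
    obtain ⟨r, hr⟩ := hres a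
    obtain ⟨r', hr'⟩ := hres b
    have hk : ∀ {a : A} {r : R}, a - algebraMap R A r ∈ t → ι (algebraMap R k r) = algebraMap A t.ResidueField a := fun {a r} h => by
      rw [ι.commutes, IsScalarTower.algebraMap_apply R A t.ResidueField]
      exact (sub_eq_zero.1 (by rw [← map_sub]; exact Ideal.algebraMap_residueField_eq_zero.2 h)).symm
    have hb0 : algebraMap A t.ResidueField b ≠ 0 := fun h => hb (Ideal.algebraMap_residueField_eq_zero.1 h)
    refine ⟨algebraMap R k r / algebraMap R k r', ?_⟩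
    rw [map_div₀, hk hr, hk hr', ← hab, mul_div_cancel_left₀ _ hb0]
  haveI : Algebra.FiniteType A S := Algebra.FiniteType.of_restrictScalars_finiteType R A S
  let ev : MvPolynomial (Fin s) k →+* t.ResidueField := MvPolynomial.eval₂Hom ι.toRingHom (fun _ => 0)
  have hev : (algebraMap t.ResidueField Ft).comp ev =
      G.toRingHom.comp (MvPolynomial.aeval fun i => (1 : k) ⊗ₜ[R] algebraMap A S (y i)).toRingHom := by
    refine MvPolynomial.ringHom_ext (fun a => ?_) fun i => ?_
    · change algebraMap t.ResidueField Ft (ev (MvPolynomial.C a)) = G (MvPolynomial.aeval _ (MvPolynomial.C a))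
      simp [ev, G, Algebra.TensorProduct.algebraMap_apply]
      rfl
    · change algebraMap t.ResidueField Ft (ev (MvPolynomial.X i)) = G (MvPolynomial.aeval _ (MvPolynomial.X i))
      rw [MvPolynomial.eval₂Hom_X', map_zero, MvPolynomial.aeval_X, Algebra.TensorProduct.lift_tmul, map_one, one_mul,
        AlgHom.restrictScalars_apply]
      change 0 = (1 : t.ResidueField) ⊗ₜ[A] algebraMap A S (y i)
      rw [Algebra.algebraMap_eq_smul_one, ← smul_tmul, Algebra.smul_def, mul_one,
        Ideal.algebraMap_residueField_eq_zero.2 (hy i), zero_tmul]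
  haveI : Algebra.IsIntegral t.ResidueField Ft := ⟨fun z => by
    induction z using TensorProduct.induction_on with
    | zero => exact isIntegral_zero
    | add a b ha hb => exact ha.add hb
    | tmul a x =>
      have h1 : G ((1 : k) ⊗ₜ x) = (1 : t.ResidueField) ⊗ₜ[A] x := by simp [G]; rfl
      rw [show a ⊗ₜ[A] x = algebraMap t.ResidueField Ft a * ((1 : t.ResidueField) ⊗ₜ[A] x) by
        rw [Algebra.TensorProduct.algebraMap_apply, Algebra.TensorProduct.tmul_mul_tmul, one_mul, Algebra.algebraMap_self,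
          RingHom.id_apply, mul_one], ← h1]
      refine isIntegral_algebraMap.mul ?_
      exact (RingHom.Finite.to_isIntegral hfin ((1 : k) ⊗ₜ x)).elim fun f ⟨hf, hf0⟩ =>
        ⟨f.map ev, hf.map _, by
          rw [Polynomial.eval₂_map, hev]
          exact (Polynomial.hom_eval₂ f _ G.toRingHom ((1 : k) ⊗ₜ x)).symm.trans ((congrArg G hf0).trans (map_zero G))⟩⟩
  haveI : Module.Finite t.ResidueField Ft := Algebra.IsIntegral.finite
  obtain ⟨Q, hQ⟩ := (PrimeSpectrum.preimageEquivFiber A S ⟨t, ‹_›⟩).symm.surjective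
    ⟨⟨q, ‹_›⟩, PrimeSpectrum.ext (q.over_def t).symm⟩
  exact Algebra.QuasiFiniteAt.of_quasiFiniteAt_residueField t q Q.asIdeal (congrArg (fun x => x.1.asIdeal) hQ)

end Groth.Agent.RG.Loc
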