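import Groth.Agent.RG.Loc.FiniteTools

/-!
# Finite modules over finitely presented algebras: finite presentation and projectivity after an étale localisation
-/

set_option autoImplicit false
set_option linter.style.haveILetI false
set_option backward.isDefEq.respectTransparency false

universe u

open TensorProduct IsLocalRing

namespace Groth.Agent.RG.Loc

attribute [local instance] Algebra.TensorProduct.rightAlgebra in
/-- a basic open of `A ⊗ S` through every closed point of `D(y)` with projective finitely presented module -/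
def LocCovers (R : Type u) [CommRing R] (A : Type u) [CommRing A] [IsLocalRing A] [Algebra R A] (S : Type u)
    [CommRing S] [Algebra R S] (N : Type u) [AddCommGroup N] [Module S N] (y : S) : Prop :=
  ∃ h : A ⊗[R] S, Module.FinitePresentation (Localization.Away h) (Localization.Away h ⊗[S] N) ∧
    Module.Projective A (Localization.Away h ⊗[S] N) ∧
    ∀ Q : Ideal (A ⊗[R] S), Q.IsPrime → Q.comap (algebraMap A (A ⊗[R] S)) = maximalIdeal A →
      y ∉ Q.comap (algebraMap S (A ⊗[R] S)) → h ∉ Q

theorem fp_away_baseChange {A₁ A₂ S : Type u} [CommRing A₁] [CommRing A₂] [CommRing S] [Algebra A₁ A₂]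
    [Algebra S A₁] [Algebra S A₂] [IsScalarTower S A₁ A₂] {N : Type u} [AddCommGroup N] [Module S N] (h : A₁)
    (hfp : Module.FinitePresentation (Localization.Away h) (Localization.Away h ⊗[S] N)) :
    Module.FinitePresentation (Localization.Away (algebraMap A₁ A₂ h))
      (Localization.Away (algebraMap A₁ A₂ h) ⊗[S] N) := by
  let C₁ := Localization.Away h
  let C := Localization.Away (algebraMap A₁ A₂ h)
  letI : Algebra C₁ C := (IsLocalization.Away.map C₁ C (algebraMap A₁ A₂) h).toAlgebra
  haveI : IsScalarTower A₁ A₂ C := inferInstance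
  haveI : IsScalarTower S A₂ C := inferInstance
  haveI : IsScalarTower S C₁ C := IsScalarTower.of_algebraMap_eq fun s => by
    rw [IsScalarTower.algebraMap_apply S A₁ C₁, RingHom.algebraMap_toAlgebra, IsScalarTower.algebraMap_apply S A₂ C,
      IsScalarTower.algebraMap_apply S A₁ A₂]
    exact (IsLocalization.map_eq _ (algebraMap S A₁ s)).symm
  haveI := hfp
  exact fp_cancel S (fp_baseChange (S := S) (C := C₁) (S₁ := S) (C₁ := C) N)

attribute [local instance] Algebra.TensorProduct.rightAlgebra in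
theorem LocCovers.baseChange {R A₁ A₂ S N : Type u} [CommRing R] [CommRing A₁] [IsLocalRing A₁] [CommRing A₂]
    [IsLocalRing A₂] [CommRing S] [Algebra R A₁] [Algebra R A₂] [Algebra A₁ A₂] [IsScalarTower R A₁ A₂] [Algebra R S]
    [AddCommGroup N] [Module S N] (hp : (maximalIdeal A₂).comap (algebraMap A₁ A₂) = maximalIdeal A₁) {y : S}
    (h : LocCovers R A₁ S N y) : LocCovers R A₂ S N y := by
  obtain ⟨h₁, hfp, hproj, hh⟩ := h
  let B₁ := A₁ ⊗[R] S
  let B₂ := A₂ ⊗[R] S
  let Φ : B₁ →ₐ[A₁] B₂ := Algebra.TensorProduct.map (Algebra.ofId A₁ A₂) (AlgHom.id R S)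
  letI : Algebra B₁ B₂ := Φ.toRingHom.toAlgebra
  haveI : IsScalarTower A₁ A₂ B₂ := inferInstance
  haveI : IsScalarTower A₁ B₁ B₂ := IsScalarTower.of_algebraMap_eq fun r => (Φ.commutes r).symm
  haveI : IsScalarTower R A₁ B₂ := IsScalarTower.to₁₂₄ R A₁ A₂ B₂
  haveI : IsScalarTower R B₁ B₂ := IsScalarTower.of_algebraMap_eq fun r => by
    rw [IsScalarTower.algebraMap_apply R A₁ B₁, ← IsScalarTower.algebraMap_apply A₁ B₁ B₂,
      ← IsScalarTower.algebraMap_apply R A₁ B₂]
  haveI : IsScalarTower S B₁ B₂ := IsScalarTower.of_algebraMap_eq fun s => by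
    change (1 : A₂) ⊗ₜ[R] s = Φ ((1 : A₁) ⊗ₜ[R] s)
    exact ((Algebra.TensorProduct.map_tmul _ _ _ _).trans (by rw [map_one]; rfl)).symm
  haveI : Algebra.IsPushout R A₁ S B₁ := inferInstance
  haveI : Algebra.IsPushout R A₂ S B₂ := inferInstance
  haveI : Algebra.IsPushout A₁ A₂ B₁ B₂ :=
    (Algebra.IsPushout.comp_iff R A₁ S B₁ (T := A₂) (T' := B₂)).1 inferInstance
  refine ⟨algebraMap B₁ B₂ h₁, fp_away_baseChange h₁ hfp, projective_away_baseChange (S₀ := S)
    (LinearMap.id : N →ₗ[S] N) (IsBaseChange.ofEquiv (LinearEquiv.refl S N)) h₁ hproj, fun Q hQ hQp hy hm => ?_⟩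
  refine hh (Q.comap (algebraMap B₁ B₂)) (Ideal.IsPrime.comap _) ?_ ?_ hm
  · rw [Ideal.comap_comap, ← IsScalarTower.algebraMap_eq A₁ B₁ B₂, IsScalarTower.algebraMap_eq A₁ A₂ B₂,
      ← Ideal.comap_comap, hQp, hp]
  · rwa [Ideal.comap_comap, ← IsScalarTower.algebraMap_eq S B₁ B₂]

/-- from a projective piece of a lift to the localised base -/
theorem good_piece {R₂ A₂ T T₂ B AS S : Type u} [CommRing R₂] [CommRing A₂] [CommRing T] [CommRing T₂] [CommRing B]
    [CommRing AS] [CommRing S] [Algebra R₂ A₂] [Algebra R₂ T₂] [Algebra R₂ B] [Algebra A₂ B] [Algebra T₂ B]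
    [IsScalarTower R₂ A₂ B] [IsScalarTower R₂ T₂ B] [Algebra.IsPushout R₂ A₂ T₂ B] [Algebra T T₂] [Algebra T AS]
    [Algebra T B] [Algebra AS B] [IsScalarTower T T₂ B] [IsScalarTower T AS B] [Algebra S T] [Algebra S AS]
    [Algebra S B] [IsScalarTower S T AS] [IsScalarTower S AS B] (g : AS) (a : T) (v : AS)
    (hva : algebraMap T AS a = v * g) (h : T₂) (hdvd : algebraMap T T₂ a ∣ h) (N : Type u) [AddCommGroup N]
    [Module S N] {N₁ : Type u} [AddCommGroup N₁] [Module T N₁] (f : N₁ →ₗ[T] T ⊗[S] N)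
    (hf : Function.Bijective (f.baseChange (Localization.Away g)))
    (hfp : Module.FinitePresentation (Localization.Away g) (Localization.Away g ⊗[S] N))
    (hproj : Module.Projective R₂ (Localization.Away h ⊗[T] N₁)) :
    Module.FinitePresentation (Localization.Away (algebraMap T₂ B h)) (Localization.Away (algebraMap T₂ B h) ⊗[S] N) ∧
      Module.Projective A₂ (Localization.Away (algebraMap T₂ B h) ⊗[S] N) := by
  let C₁ := Localization.Away g
  let C₀ := Localization.Away h
  let C := Localization.Away (algebraMap T₂ B h)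
  have hu : IsUnit ((algebraMap B C).comp (algebraMap AS B) g) := by
    refine isUnit_of_dvd_unit ?_ (IsLocalization.Away.algebraMap_isUnit (S := C) (algebraMap T₂ B h))
    refine map_dvd (algebraMap B C) (dvd_trans ?_ (map_dvd (algebraMap T₂ B) hdvd))
    rw [← IsScalarTower.algebraMap_apply T T₂ B, IsScalarTower.algebraMap_apply T AS B, hva, map_mul]
    exact Dvd.intro_left _ rfl
  letI : Algebra C₁ C := (IsLocalization.Away.lift g hu).toAlgebra
  letI : Algebra C₀ C := (IsLocalization.Away.map C₀ C (algebraMap T₂ B) h).toAlgebra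
  haveI : IsScalarTower T₂ B C := inferInstance
  haveI : IsScalarTower T₂ C₀ C := IsScalarTower.of_algebraMap_eq fun x => by
    rw [IsScalarTower.algebraMap_apply T₂ B C, RingHom.algebraMap_toAlgebra (IsLocalization.Away.map C₀ C (algebraMap T₂ B) h)]
    exact (IsLocalization.map_eq _ x).symm
  haveI : IsScalarTower AS B C := inferInstance
  haveI : IsScalarTower AS C₁ C := IsScalarTower.of_algebraMap_eq fun x => by
    rw [IsScalarTower.algebraMap_apply AS B C, RingHom.algebraMap_toAlgebra (IsLocalization.Away.lift g hu)]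
    exact (IsLocalization.Away.lift_eq g hu x).symm
  haveI hC : Algebra.IsPushout T₂ C₀ B C := by
    haveI : IsLocalization (Algebra.algebraMapSubmonoid B (Submonoid.powers h)) C := by
      rw [Algebra.algebraMapSubmonoid_powers]; infer_instance
    exact ((Algebra.isLocalization_iff_isPushout (Submonoid.powers h) C₀ (T := B) (B := C)).1 inferInstance).symm
  haveI : IsScalarTower R₂ B C := inferInstance
  haveI : IsScalarTower A₂ B C := inferInstance
  haveI : IsScalarTower R₂ A₂ C := IsScalarTower.of_algebraMap_eq fun r => by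
    rw [IsScalarTower.algebraMap_apply R₂ B C, IsScalarTower.algebraMap_apply R₂ A₂ B,
      ← IsScalarTower.algebraMap_apply A₂ B C]
  haveI : IsScalarTower R₂ T₂ C := IsScalarTower.of_algebraMap_eq fun r => by
    rw [IsScalarTower.algebraMap_apply T₂ B C, ← IsScalarTower.algebraMap_apply R₂ T₂ B,
      ← IsScalarTower.algebraMap_apply R₂ B C]
  haveI : IsScalarTower R₂ C₀ C := IsScalarTower.of_algebraMap_eq fun r => by
    rw [IsScalarTower.algebraMap_apply R₂ T₂ C₀, ← IsScalarTower.algebraMap_apply T₂ C₀ C,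
      ← IsScalarTower.algebraMap_apply R₂ T₂ C]
  haveI : Algebra.IsPushout R₂ A₂ C₀ C := by
    haveI : Algebra.IsPushout R₂ T₂ A₂ B := Algebra.IsPushout.symm inferInstance
    haveI : Algebra.IsPushout T₂ C₀ B C := hC
    exact ((Algebra.IsPushout.comp_iff R₂ T₂ A₂ B (T := C₀) (T' := C)).2 inferInstance).symm
  haveI : IsScalarTower T B C := inferInstance
  haveI : IsScalarTower T C₀ C := IsScalarTower.of_algebraMap_eq fun x => by
    rw [IsScalarTower.algebraMap_apply T B C, IsScalarTower.algebraMap_apply T T₂ B,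
      ← IsScalarTower.algebraMap_apply T₂ B C, IsScalarTower.algebraMap_apply T T₂ C₀,
      ← IsScalarTower.algebraMap_apply T₂ C₀ C]
  haveI : IsScalarTower T C₁ C := IsScalarTower.of_algebraMap_eq fun x => by
    rw [IsScalarTower.algebraMap_apply T AS C₁, ← IsScalarTower.algebraMap_apply AS C₁ C,
      IsScalarTower.algebraMap_apply AS B C, ← IsScalarTower.algebraMap_apply T AS B,
      ← IsScalarTower.algebraMap_apply T B C]
  haveI : IsScalarTower S AS C₁ := inferInstance
  haveI : IsScalarTower S T C₁ := IsScalarTower.of_algebraMap_eq fun x => by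
    rw [IsScalarTower.algebraMap_apply T AS C₁, ← IsScalarTower.algebraMap_apply S T AS,
      ← IsScalarTower.algebraMap_apply S AS C₁]
  haveI : IsScalarTower S B C := inferInstance
  haveI : IsScalarTower S C₁ C := IsScalarTower.of_algebraMap_eq fun x => by
    rw [IsScalarTower.algebraMap_apply S AS C₁, ← IsScalarTower.algebraMap_apply AS C₁ C,
      IsScalarTower.algebraMap_apply AS B C, ← IsScalarTower.algebraMap_apply S AS B,
      ← IsScalarTower.algebraMap_apply S B C]
  haveI := hfp
  refine ⟨fp_cancel S (fp_baseChange (S := S) (C := C₁) (S₁ := S) (C₁ := C) N), ?_⟩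
  let E : C₁ ⊗[T] N₁ ≃ₗ[C₁] C₁ ⊗[S] N :=
    LinearEquiv.ofBijective (f.baseChange C₁) hf ≪≫ₗ AlgebraTensorModule.cancelBaseChange S T C₁ C₁ N
  let f' : N₁ →ₗ[T] C₁ ⊗[S] N := (E.toLinearMap.restrictScalars T) ∘ₗ TensorProduct.mk T C₁ N₁ 1
  have hf' : IsBaseChange C₁ f' := IsBaseChange.of_equiv E fun x => rfl
  haveI := projective_baseChange_piece (R₀' := R₂) (R' := A₂) (S₀ := T) (S := C₁) (C₀ := C₀) (C := C) f' hf' hproj
  exact Module.Projective.of_equiv ((AlgebraTensorModule.cancelBaseChange S C₁ C C N).restrictScalars A₂)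

attribute [local instance] Algebra.TensorProduct.rightAlgebra in
theorem flat_lift_point {R₁ T AS S : Type u} [CommRing R₁] [CommRing T] [CommRing AS] [CommRing S] [Algebra R₁ T]
    [Algebra T AS] [Algebra S T] [Algebra S AS] [IsScalarTower S T AS] (M : Submonoid T) [IsLocalization M AS] (g : AS)
    (q' : Ideal T) [q'.IsPrime] (QA : Ideal AS) [QA.IsPrime] (hQA : QA.comap (algebraMap T AS) = q') (hg : g ∉ QA)
    (N : Type u) [AddCommGroup N] [Module S N] {N₁ : Type u} [AddCommGroup N₁] [Module T N₁] [Module R₁ N₁]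
    [IsScalarTower R₁ T N₁] (f : N₁ →ₗ[T] T ⊗[S] N) (hf : Function.Bijective (f.baseChange (Localization.Away g)))
    (h : Module.Flat R₁ (LocalizedModule q'.primeCompl (T ⊗[S] N))) :
    Module.Flat R₁ (LocalizedModule q'.primeCompl N₁) := by
  subst hQA
  let C₁ := Localization.Away g
  have hd : Disjoint (Submonoid.powers g : Set AS) (QA : Set AS) := by
    rwa [Ideal.disjoint_powers_iff_notMem_of_isPrime]
  haveI hQC : (QA.map (algebraMap AS C₁)).IsPrime := IsLocalization.isPrime_of_isPrime_disjoint _ C₁ QA inferInstance hd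
  let QC := QA.map (algebraMap AS C₁)
  have hc : QC.comap (algebraMap AS C₁) = QA := IsLocalization.comap_map_of_isPrime_disjoint _ C₁ inferInstance hd
  let L := Localization.AtPrime QC
  haveI h1 : IsLocalization.AtPrime L (QC.comap (algebraMap AS C₁)) :=
    IsLocalization.isLocalization_isLocalization_atPrime_isLocalization (Submonoid.powers g) L QC
  haveI : IsScalarTower T AS C₁ := inferInstance
  haveI : IsScalarTower T AS L := IsScalarTower.of_algebraMap_eq fun x => by
    rw [IsScalarTower.algebraMap_apply T C₁ L, IsScalarTower.algebraMap_apply T AS C₁,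
      ← IsScalarTower.algebraMap_apply AS C₁ L]
  haveI h1' : IsLocalization.AtPrime L QA := by
    convert h1 using 2
    exact hc.symm
  haveI h2 : IsLocalization.AtPrime L (QA.comap (algebraMap T AS)) :=
    IsLocalization.isLocalization_isLocalization_atPrime_isLocalization M L QA
  letI : Algebra R₁ L := ((algebraMap T L).comp (algebraMap R₁ T)).toAlgebra
  haveI : IsScalarTower R₁ T L := IsScalarTower.of_algebraMap_eq' rfl
  exact flat_point_congr (L := L) (QA.comap (algebraMap T AS)) f (bijective_baseChange (C := C₁) f hf) h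

attribute [local instance] Algebra.TensorProduct.rightAlgebra in
/-- `ProjPiece` of a lift gives a good piece at the localised base -/
theorem exists_locCovers_of_lift {R R' S : Type u} [CommRing R] [CommRing R'] [CommRing S] [Algebra R R'] [Algebra R S]
    [Algebra.FinitePresentation R S] {p : Ideal R} [p.IsPrime] {p' : Ideal R'} [p'.IsPrime]
    (hn : FlatCA.IsEtaleNhd R R' p p') (q : Ideal S) [q.IsPrime] (q' : Ideal (R' ⊗[R] S)) [q'.IsPrime]
    (hq'p : q'.comap (algebraMap R' (R' ⊗[R] S)) = p') (hq'q : q'.comap (algebraMap S (R' ⊗[R] S)) = q)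
    (a : R' ⊗[R] S) (ha : a ∉ q') (g : Localization.AtPrime p' ⊗[R] S) (v : Localization.AtPrime p' ⊗[R] S)
    (hva : Algebra.TensorProduct.map (Algebra.ofId R' (Localization.AtPrime p')) (AlgHom.id R S) a = v * g)
    (N : Type u) [AddCommGroup N] [Module S N]
    (hfp : Module.FinitePresentation (Localization.Away g) (Localization.Away g ⊗[S] N))
    {N₁ : Type u} [AddCommGroup N₁] [Module (R' ⊗[R] S) N₁] [Module R' N₁] [IsScalarTower R' (R' ⊗[R] S) N₁]
    [Module.FinitePresentation (R' ⊗[R] S) N₁] (hflat : Module.Flat R' (LocalizedModule q'.primeCompl N₁))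
    (f : N₁ →ₗ[R' ⊗[R] S] (R' ⊗[R] S) ⊗[S] N)
    (hf : letI : Algebra (R' ⊗[R] S) (Localization.AtPrime p' ⊗[R] S) :=
        (Algebra.TensorProduct.map (Algebra.ofId R' (Localization.AtPrime p')) (AlgHom.id R S)).toRingHom.toAlgebra
      Function.Bijective (f.baseChange (Localization.Away g))) :
    ∃ (R'' : Type u) (_ : CommRing R'') (_ : Algebra R R'') (p'' : Ideal R'') (_ : p''.IsPrime),
      FlatCA.IsEtaleNhd R R'' p p'' ∧ ∃ y : S, y ∉ q ∧ LocCovers R (Localization.AtPrime p'') S N y := by
  haveI := hn.1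
  let T := R' ⊗[R] S
  let A := Localization.AtPrime p'
  let AS := A ⊗[R] S
  let ΦA : T →ₐ[R'] AS := Algebra.TensorProduct.map (Algebra.ofId R' A) (AlgHom.id R S)
  letI : Algebra T AS := ΦA.toRingHom.toAlgebra
  haveI : Algebra.FinitePresentation R' T := inferInstance
  -- the lift over the basic open `D(a)`
  let S' := Localization.Away a
  haveI : Algebra.FinitePresentation R' S' :=
    haveI : Algebra.FinitePresentation T S' := IsLocalization.Away.finitePresentation a
    Algebra.FinitePresentation.trans R' T S'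
  have hd : Disjoint (Submonoid.powers a : Set T) (q' : Set T) := by
    rwa [Ideal.disjoint_powers_iff_notMem_of_isPrime]
  haveI hq₁ : (q'.map (algebraMap T S')).IsPrime := IsLocalization.isPrime_of_isPrime_disjoint _ S' q' inferInstance hd
  let q₁ := q'.map (algebraMap T S')
  have hq₁c : q₁.comap (algebraMap T S') = q' := IsLocalization.comap_map_of_isPrime_disjoint _ S' inferInstance hd
  have hq₁p : q₁.comap (algebraMap R' S') = p' := by
    rw [IsScalarTower.algebraMap_eq R' T S', ← Ideal.comap_comap, hq₁c, hq'p]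
  have hflat₁ : Module.Flat R' (LocalizedModule q₁.primeCompl (S' ⊗[T] N₁)) := by
    have key : ∀ (P : Ideal T) [P.IsPrime], P = q' → Module.Flat R' (LocalizedModule P.primeCompl N₁) :=
      fun P _ e => by subst e; exact hflat
    exact flat_localized_away (g := a) S' q₁ N₁ (key _ hq₁c)
  obtain ⟨R₂, _, _, p₂, _, hn₂, h, Q₂, hQ₂, hQ₂p, hQ₂q, hh, hdvd, hproj⟩ :=
    ProjPiece.of_away_dvd a hq₁c (projPiece_of_flat p' q₁ hq₁p (S' ⊗[T] N₁) hflat₁)
  letI : Algebra R R₂ := ((algebraMap R' R₂).comp (algebraMap R R')).toAlgebra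
  haveI : IsScalarTower R R' R₂ := IsScalarTower.of_algebraMap_eq' rfl
  let A₂ := Localization.AtPrime p₂
  let B := A₂ ⊗[R] S
  let T₂ := R₂ ⊗[R'] T
  letI : Algebra A A₂ := (Localization.localRingHom p' p₂ (algebraMap R' R₂) (comap_of_isEtaleNhd hn₂).symm).toAlgebra
  haveI : IsScalarTower R' A A₂ := IsScalarTower.of_algebraMap_eq fun x => by
    rw [RingHom.algebraMap_toAlgebra, Localization.localRingHom_to_map, ← IsScalarTower.algebraMap_apply R' R₂ A₂]
  haveI : IsScalarTower R A A₂ := IsScalarTower.of_algebraMap_eq fun x => by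
    rw [IsScalarTower.algebraMap_apply R R' A, ← IsScalarTower.algebraMap_apply R' A A₂,
      IsScalarTower.algebraMap_apply R R₂ A₂, IsScalarTower.algebraMap_apply R R' R₂,
      ← IsScalarTower.algebraMap_apply R' R₂ A₂]
  haveI : IsScalarTower R R' A₂ := IsScalarTower.of_algebraMap_eq fun x => by
    rw [IsScalarTower.algebraMap_apply R R₂ A₂, IsScalarTower.algebraMap_apply R R' R₂,
      ← IsScalarTower.algebraMap_apply R' R₂ A₂]
  let ΦB : T →ₐ[R'] B := Algebra.TensorProduct.map (Algebra.ofId R' A₂) (AlgHom.id R S)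
  letI : Algebra T B := ΦB.toRingHom.toAlgebra
  haveI : IsScalarTower R' T B := IsScalarTower.of_algebraMap_eq fun r => (ΦB.commutes r).symm
  haveI : IsScalarTower R' R₂ B := inferInstance
  let Ψ : T₂ →ₐ[R₂] B := Algebra.TensorProduct.lift (Algebra.ofId R₂ B) (IsScalarTower.toAlgHom R' T B)
    fun _ _ => Commute.all _ _
  letI : Algebra T₂ B := Ψ.toRingHom.toAlgebra
  haveI : IsScalarTower R₂ T₂ B := IsScalarTower.of_algebraMap_eq fun r => (Ψ.commutes r).symm
  haveI : IsScalarTower T T₂ B := IsScalarTower.of_algebraMap_eq fun t => by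
    change algebraMap T B t = Ψ ((1 : R₂) ⊗ₜ t)
    rw [Algebra.TensorProduct.lift_tmul, map_one, one_mul]
    rfl
  let Φ₂ : AS →ₐ[A] B := Algebra.TensorProduct.map (Algebra.ofId A A₂) (AlgHom.id R S)
  letI : Algebra AS B := Φ₂.toRingHom.toAlgebra
  haveI : IsScalarTower T AS B := IsScalarTower.of_algebraMap_eq fun t => by
    change ΦB t = Φ₂ (ΦA t)
    induction t using TensorProduct.induction_on with
    | zero => simp
    | add x y hx hy => rw [map_add, map_add, map_add, hx, hy]
    | tmul r s =>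
      change algebraMap R' A₂ r ⊗ₜ[R] s = algebraMap A A₂ (algebraMap R' A r) ⊗ₜ[R] s
      rw [← IsScalarTower.algebraMap_apply]
  haveI : IsScalarTower S T AS := IsScalarTower.of_algebraMap_eq fun s => by
    change (1 : A) ⊗ₜ[R] s = ΦA ((1 : R') ⊗ₜ[R] s)
    exact ((Algebra.TensorProduct.map_tmul _ _ _ _).trans (by rw [map_one]; rfl)).symm
  haveI : IsScalarTower S AS B := IsScalarTower.of_algebraMap_eq fun s => by
    change (1 : A₂) ⊗ₜ[R] s = Φ₂ ((1 : A) ⊗ₜ[R] s)
    exact ((Algebra.TensorProduct.map_tmul _ _ _ _).trans (by rw [map_one]; rfl)).symm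
  haveI : IsScalarTower S T B := IsScalarTower.of_algebraMap_eq fun s => by
    change (1 : A₂) ⊗ₜ[R] s = ΦB ((1 : R') ⊗ₜ[R] s)
    exact ((Algebra.TensorProduct.map_tmul _ _ _ _).trans (by rw [map_one]; rfl)).symm
  -- the squares
  letI : Algebra S T₂ := ((algebraMap T T₂).comp (algebraMap S T)).toAlgebra
  haveI : IsScalarTower S T T₂ := IsScalarTower.of_algebraMap_eq' rfl
  haveI : IsScalarTower R R₂ T₂ := inferInstance
  haveI : IsScalarTower R R' T₂ := IsScalarTower.to₁₂₄ R R' R₂ T₂
  haveI : IsScalarTower R T T₂ := IsScalarTower.of_algebraMap_eq fun r => by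
    rw [IsScalarTower.algebraMap_apply R R' T, ← IsScalarTower.algebraMap_apply R' T T₂,
      ← IsScalarTower.algebraMap_apply R R' T₂]
  haveI : IsScalarTower R S T := IsScalarTower.of_algebraMap_eq fun r => by
    change algebraMap R R' r ⊗ₜ[R] (1 : S) = (1 : R') ⊗ₜ[R] algebraMap R S r
    rw [Algebra.algebraMap_eq_smul_one, Algebra.algebraMap_eq_smul_one (A := S), smul_tmul]
  haveI : IsScalarTower R S T₂ := IsScalarTower.of_algebraMap_eq fun r => by
    rw [IsScalarTower.algebraMap_apply S T T₂, ← IsScalarTower.algebraMap_apply R S T,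
      ← IsScalarTower.algebraMap_apply R T T₂]
  haveI : IsScalarTower S T₂ B := IsScalarTower.of_algebraMap_eq fun s => by
    rw [IsScalarTower.algebraMap_apply S T T₂, ← IsScalarTower.algebraMap_apply T T₂ B,
      ← IsScalarTower.algebraMap_apply S T B]
  haveI : IsScalarTower R R₂ B := inferInstance
  haveI : IsScalarTower R T₂ B := IsScalarTower.of_algebraMap_eq (R := R) (S := T₂) (A := B) fun r => by
    rw [IsScalarTower.algebraMap_apply R R₂ T₂, ← IsScalarTower.algebraMap_apply R₂ T₂ B,
      ← IsScalarTower.algebraMap_apply R R₂ B]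
  haveI : Algebra.IsPushout R R' S T := inferInstance
  haveI : Algebra.IsPushout R' R₂ T T₂ := inferInstance
  haveI : Algebra.IsPushout R R₂ S T₂ :=
    (Algebra.IsPushout.comp_iff R R' S T (T := R₂) (T' := T₂)).2 inferInstance
  haveI : Algebra.IsPushout R A₂ S B := inferInstance
  haveI : Algebra.IsPushout R₂ A₂ T₂ B :=
    (Algebra.IsPushout.comp_iff R R₂ S T₂ (T := A₂) (T' := B)).1 inferInstance
  obtain ⟨h1, h2⟩ := good_piece (R₂ := R₂) (A₂ := A₂) (B := B) g a v hva h hdvd N f hf hfp hproj
  -- the element of `S`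
  obtain ⟨c₂, y₂, hc₂, hy₂⟩ := exists_approx hn₂ h
  obtain ⟨c, y, hc, hy⟩ := exists_approx hn y₂
  haveI := hQ₂
  refine ⟨R₂, inferInstance, inferInstance, p₂, inferInstance, isEtaleNhd_trans hn hn₂, y, fun hyq => hh ?_,
    algebraMap T₂ B h, h1, h2, fun Q hQ hQp hyQ hm => hyQ ?_⟩
  · refine (mem_iff_of_nhd hn₂ hQ₂p hc₂ hy₂).2 ?_
    rw [hQ₂q]
    refine (mem_iff_of_nhd hn hq'p hc hy).2 ?_
    rwa [hq'q]
  · haveI := hQ
    have e2 : (Q.comap (algebraMap T₂ B)).comap (algebraMap R₂ T₂) = p₂ := by
      rw [Ideal.comap_comap, ← IsScalarTower.algebraMap_eq R₂ T₂ B, IsScalarTower.algebraMap_eq R₂ A₂ B,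
        ← Ideal.comap_comap, hQp]
      exact Localization.AtPrime.comap_maximalIdeal
    have e3 : (((Q.comap (algebraMap T₂ B)).comap (algebraMap T T₂))).comap (algebraMap R' T) = p' := by
      rw [Ideal.comap_comap, ← IsScalarTower.algebraMap_eq R' T T₂, IsScalarTower.algebraMap_eq R' R₂ T₂,
        ← Ideal.comap_comap, e2, comap_of_isEtaleNhd hn₂]
    have h4 := (mem_iff_of_nhd hn e3 hc hy).1 ((mem_iff_of_nhd hn₂ e2 hc₂ hy₂).1 hm)
    rwa [Ideal.comap_comap, ← IsScalarTower.algebraMap_eq S T T₂, Ideal.comap_comap,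
      ← IsScalarTower.algebraMap_eq S T₂ B] at h4

attribute [local instance] Algebra.TensorProduct.rightAlgebra in
/-- flat at a point, finite: a good piece through it after an étale neighbourhood -/
theorem exists_locCovers_of_flat {R S : Type u} [CommRing R] [CommRing S] [Algebra R S]
    [Algebra.FinitePresentation R S] (p : Ideal R) [p.IsPrime] (q : Ideal S) [q.IsPrime]
    (hq : q.comap (algebraMap R S) = p) (N : Type u) [AddCommGroup N] [Module S N] [Module R N] [IsScalarTower R S N]
    [Module.Finite S N] (hflat : Module.Flat R (LocalizedModule q.primeCompl N)) :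
    ∃ (R' : Type u) (_ : CommRing R') (_ : Algebra R R') (p' : Ideal R') (_ : p'.IsPrime),
      FlatCA.IsEtaleNhd R R' p p' ∧ ∃ y : S, y ∉ q ∧ LocCovers R (Localization.AtPrime p') S N y := by
  classical
  obtain ⟨H, _, _, _, hHp, -, ⟨π, hπ⟩, hstage⟩ := exists_henselian_stages p
  let BH := H ⊗[R] S
  -- the point over `q` and the closed point
  let ψ : BH →ₐ[R] q.ResidueField := Algebra.TensorProduct.lift
    ((Ideal.ResidueField.mapₐ p q (Algebra.ofId R S) hq.symm).comp π) (IsScalarTower.toAlgHom R S q.ResidueField)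
    fun _ _ => Commute.all _ _
  let Q : Ideal BH := RingHom.ker ψ.toRingHom
  haveI : Q.IsPrime := RingHom.ker_isPrime _
  have hQH : Q.comap (algebraMap H BH) = maximalIdeal H := by
    ext z
    rw [Ideal.mem_comap, RingHom.mem_ker, ← hπ]
    change ψ (z ⊗ₜ[R] (1 : S)) = 0 ↔ _
    rw [Algebra.TensorProduct.lift_tmul, map_one, mul_one, AlgHom.comp_apply]
    exact map_eq_zero _
  have hQq : Q.comap (algebraMap S BH) = q := by
    ext s
    rw [Ideal.mem_comap, RingHom.mem_ker]
    change ψ ((1 : H) ⊗ₜ[R] s) = 0 ↔ _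
    rw [Algebra.TensorProduct.lift_tmul, map_one, one_mul]
    exact Ideal.algebraMap_residueField_eq_zero
  haveI : IsScalarTower R S BH := IsScalarTower.of_algebraMap_eq fun r => by
    change algebraMap R H r ⊗ₜ[R] (1 : S) = (1 : H) ⊗ₜ[R] algebraMap R S r
    rw [Algebra.algebraMap_eq_smul_one, Algebra.algebraMap_eq_smul_one (A := S), smul_tmul]
  have hflatH : Module.Flat H (LocalizedModule Q.primeCompl (BH ⊗[S] N)) :=
    flat_baseChange_point (R := R) q Q hQq N hflat
  obtain ⟨gH, hgH, hfpH⟩ := fp_of_flat_henselian Q hQH (BH ⊗[S] N) hflatH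
  -- the stage
  obtain ⟨F, hF⟩ := TensorProduct.exists_finset gH
  let ε := F.equivFin
  obtain ⟨R', _, _, p', _, hn, _, _, hff, hAm, hz⟩ := hstage F.card fun i => (ε.symm i).1.1
  choose w hw using hz
  haveI := hn.1
  let A := Localization.AtPrime p'
  let AS := A ⊗[R] S
  let T := R' ⊗[R] S
  let ΦA : T →ₐ[R'] AS := Algebra.TensorProduct.map (Algebra.ofId R' A) (AlgHom.id R S)
  letI : Algebra T AS := ΦA.toRingHom.toAlgebra
  haveI : IsScalarTower R' T AS := IsScalarTower.of_algebraMap_eq fun r => (ΦA.commutes r).symm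
  let ΦH : AS →ₐ[A] BH := Algebra.TensorProduct.map (Algebra.ofId A H) (AlgHom.id R S)
  letI : Algebra AS BH := ΦH.toRingHom.toAlgebra
  haveI : IsScalarTower A AS BH := IsScalarTower.of_algebraMap_eq fun r => (ΦH.commutes r).symm
  haveI : IsScalarTower S AS BH := IsScalarTower.of_algebraMap_eq fun s => by
    change (1 : H) ⊗ₜ[R] s = ΦH ((1 : A) ⊗ₜ[R] s)
    exact ((Algebra.TensorProduct.map_tmul _ _ _ _).trans (by rw [map_one]; rfl)).symm
  haveI : IsScalarTower S T AS := IsScalarTower.of_algebraMap_eq fun s => by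
    change (1 : A) ⊗ₜ[R] s = ΦA ((1 : R') ⊗ₜ[R] s)
    exact ((Algebra.TensorProduct.map_tmul _ _ _ _).trans (by rw [map_one]; rfl)).symm
  haveI : IsScalarTower R S T := IsScalarTower.of_algebraMap_eq fun r => by
    change algebraMap R R' r ⊗ₜ[R] (1 : S) = (1 : R') ⊗ₜ[R] algebraMap R S r
    rw [Algebra.algebraMap_eq_smul_one, Algebra.algebraMap_eq_smul_one (A := S), smul_tmul]
  haveI : IsScalarTower R S AS := IsScalarTower.of_algebraMap_eq fun r => by
    change algebraMap R A r ⊗ₜ[R] (1 : S) = (1 : A) ⊗ₜ[R] algebraMap R S r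
    rw [Algebra.algebraMap_eq_smul_one, Algebra.algebraMap_eq_smul_one (A := S), smul_tmul]
  haveI : IsScalarTower R T AS := IsScalarTower.of_algebraMap_eq fun r => by
    rw [IsScalarTower.algebraMap_apply R R' T, ← IsScalarTower.algebraMap_apply R' T AS,
      ← IsScalarTower.algebraMap_apply R R' AS]
  haveI : IsScalarTower R AS BH := IsScalarTower.of_algebraMap_eq (R := R) (S := AS) (A := BH) fun r => by
    rw [IsScalarTower.algebraMap_apply R A AS, ← IsScalarTower.algebraMap_apply A AS BH,
      ← IsScalarTower.algebraMap_apply R A BH]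
  haveI : Algebra.IsPushout R R' S T := inferInstance
  haveI : Algebra.IsPushout R A S AS := inferInstance
  haveI : Algebra.IsPushout R' A T AS :=
    (Algebra.IsPushout.comp_iff R R' S T (T := A) (T' := AS)).1 inferInstance
  haveI : Algebra.IsPushout R H S BH := inferInstance
  haveI : Algebra.IsPushout A H AS BH :=
    (Algebra.IsPushout.comp_iff R A S AS (T := H) (T' := BH)).1 inferInstance
  let M := Algebra.algebraMapSubmonoid T p'.primeCompl
  haveI hlocAS : IsLocalization M AS :=
    (Algebra.isLocalization_iff_isPushout p'.primeCompl A (T := T) (B := AS)).2 (Algebra.IsPushout.symm inferInstance)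
  -- the element
  let g : AS := ∑ i, w i ⊗ₜ[R] (ε.symm i).1.2
  have hg : algebraMap AS BH g = gH := by
    rw [hF, ← Finset.sum_coe_sort F, ← ε.symm.sum_comp, map_sum]
    refine Finset.sum_congr rfl fun i _ => ?_
    change ΦH _ = _
    rw [Algebra.TensorProduct.map_tmul, ← hw i]
    rfl
  let C₁ := Localization.Away g
  let CH := Localization.Away (algebraMap AS BH g)
  letI : Algebra C₁ CH := (IsLocalization.Away.map C₁ CH (algebraMap AS BH) g).toAlgebra
  haveI : IsScalarTower AS BH CH := inferInstance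
  haveI : IsScalarTower AS C₁ CH := IsScalarTower.of_algebraMap_eq (R := AS) (S := C₁) (A := CH) fun x => by
    rw [IsScalarTower.algebraMap_apply AS BH CH, RingHom.algebraMap_toAlgebra (IsLocalization.Away.map C₁ CH (algebraMap AS BH) g)]
    exact (IsLocalization.map_eq _ x).symm
  haveI : Algebra.IsPushout AS C₁ BH CH := by
    haveI : IsLocalization (Algebra.algebraMapSubmonoid BH (Submonoid.powers g)) CH := by
      rw [Algebra.algebraMapSubmonoid_powers]; infer_instance
    exact ((Algebra.isLocalization_iff_isPushout (Submonoid.powers g) C₁ (T := BH) (B := CH)).1 inferInstance).symm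
  haveI : IsScalarTower A AS CH := inferInstance
  haveI : Algebra.IsPushout A AS H BH := Algebra.IsPushout.symm inferInstance
  haveI hffA : Module.FaithfullyFlat AS BH := ff_of_isPushout (A := A) (H := H)
  haveI : Module.FaithfullyFlat C₁ CH := ff_of_isPushout (A := AS) (H := BH)
  haveI : IsScalarTower S AS C₁ := inferInstance
  haveI : IsScalarTower S BH CH := inferInstance
  haveI : IsScalarTower S C₁ CH := IsScalarTower.of_algebraMap_eq (R := S) (S := C₁) (A := CH) fun s => by
    rw [IsScalarTower.algebraMap_apply S AS C₁, ← IsScalarTower.algebraMap_apply AS C₁ CH,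
      IsScalarTower.algebraMap_apply AS BH CH, ← IsScalarTower.algebraMap_apply S AS BH,
      ← IsScalarTower.algebraMap_apply S BH CH]
  haveI : Module.Finite C₁ (C₁ ⊗[S] N) := inferInstance
  have hfpC : Module.FinitePresentation C₁ (C₁ ⊗[S] N) := by
    have h0 : Module.FinitePresentation CH (CH ⊗[S] N) := by
      refine fp_cancel BH ?_
      subst hg
      exact hfpH
    haveI := h0
    exact fp_of_ff (C := CH) (C₁ ⊗[S] N) (fp_baseChange (S := S) (C := CH) (S₁ := C₁) (C₁ := CH) N)
  obtain ⟨⟨a, m⟩, ham⟩ := IsLocalization.surj M g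
  have ham' : algebraMap T AS a = algebraMap T AS m * g := by rw [← ham, mul_comm]
  -- the lift
  haveI : Module.Flat T AS := IsLocalization.flat AS M
  haveI : Module.Flat AS C₁ := IsLocalization.flat C₁ (Submonoid.powers g)
  haveI : IsScalarTower T AS C₁ := inferInstance
  haveI : Module.Flat T C₁ := Module.Flat.trans T AS C₁
  haveI : IsScalarTower S T C₁ := IsScalarTower.of_algebraMap_eq fun s => by
    rw [IsScalarTower.algebraMap_apply T AS C₁, ← IsScalarTower.algebraMap_apply S T AS,
      ← IsScalarTower.algebraMap_apply S AS C₁]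
  haveI := hfpC
  obtain ⟨N₁, _, _, f, _, -, hf⟩ := exists_fp_lift (T := T) (C := C₁) (T ⊗[S] N)
    (Module.FinitePresentation.of_equiv (R := C₁) (AlgebraTensorModule.cancelBaseChange S T C₁ C₁ N).symm)
  letI : Module R' N₁ := Module.compHom N₁ (algebraMap R' T)
  haveI : IsScalarTower R' T N₁ := IsScalarTower.of_algebraMap_smul fun _ _ => rfl
  -- the point of `T`
  let QA : Ideal AS := Q.comap (algebraMap AS BH)
  let q' : Ideal T := QA.comap (algebraMap T AS)
  haveI : QA.IsPrime := Ideal.IsPrime.comap _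
  haveI : q'.IsPrime := Ideal.IsPrime.comap _
  have hQAm : QA.comap (algebraMap A AS) = maximalIdeal A := by
    rw [Ideal.comap_comap, ← IsScalarTower.algebraMap_eq A AS BH, IsScalarTower.algebraMap_eq A H BH,
      ← Ideal.comap_comap, hQH, hAm]
  have hq'p : q'.comap (algebraMap R' T) = p' := by
    rw [Ideal.comap_comap, ← IsScalarTower.algebraMap_eq R' T AS, IsScalarTower.algebraMap_eq R' A AS,
      ← Ideal.comap_comap, hQAm]
    exact Localization.AtPrime.comap_maximalIdeal
  have hq'q : q'.comap (algebraMap S T) = q := by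
    rw [Ideal.comap_comap, ← IsScalarTower.algebraMap_eq S T AS, Ideal.comap_comap,
      ← IsScalarTower.algebraMap_eq S AS BH, hQq]
  have hgQA : g ∉ QA := fun hm => hgH (hg ▸ hm)
  have ha : a ∉ q' := fun hm => by
    have hm' : algebraMap T AS a ∈ QA := hm
    rw [ham'] at hm'
    exact (‹QA.IsPrime›.mem_or_mem hm').elim
      (fun h => ‹QA.IsPrime›.ne_top (QA.eq_top_of_isUnit_mem h (IsLocalization.map_units AS m))) hgQA
  refine exists_locCovers_of_lift hn q q' hq'p hq'q a ha g (algebraMap T AS m) ham' N hfpC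
    (flat_lift_point M g q' QA rfl hgQA N f hf (flat_baseChange_point (R := R) (H := R') q q' hq'q N hflat)) f hf

attribute [local instance] Algebra.TensorProduct.rightAlgebra in
/-- one neighbourhood, finitely many good pieces, covering the fibre -/
theorem exists_locCommon {R S : Type u} [CommRing R] [CommRing S] [Algebra R S] [Algebra.FinitePresentation R S]
    (p : Ideal R) [p.IsPrime] (N : Type u) [AddCommGroup N] [Module S N] [Module R N] [IsScalarTower R S N]
    [Module.Finite S N]
    (hN : ∀ (q : Ideal S) [q.IsPrime], q.comap (algebraMap R S) = p → Module.Flat R (LocalizedModule q.primeCompl N)) :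
    ∃ (R' : Type u) (_ : CommRing R') (_ : Algebra R R') (p' : Ideal R') (_ : p'.IsPrime),
      FlatCA.IsEtaleNhd R R' p p' ∧ ∃ (m : ℕ) (y : Fin m → S),
        (∀ i, LocCovers R (Localization.AtPrime p') S N (y i)) ∧
          ∀ q : Ideal S, q.IsPrime → q.comap (algebraMap R S) = p → ∃ i, y i ∉ q := by
  classical
  let X := {q : PrimeSpectrum S // q.asIdeal.comap (algebraMap R S) = p}
  have hX : ∀ x : X, ∃ y : S, y ∉ x.1.asIdeal ∧ ∃ (R₁ : Type u) (_ : CommRing R₁) (_ : Algebra R R₁) (p₁ : Ideal R₁)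
      (_ : p₁.IsPrime), FlatCA.IsEtaleNhd R R₁ p p₁ ∧ LocCovers R (Localization.AtPrime p₁) S N y := by
    intro x
    obtain ⟨R₁, _, _, p₁, _, hn, y, hy, hc⟩ := exists_locCovers_of_flat p x.1.asIdeal x.2 N (hN x.1.asIdeal x.2)
    exact ⟨y, hy, R₁, inferInstance, inferInstance, p₁, inferInstance, hn, hc⟩
  choose y hy hc using hX
  obtain ⟨T, hT⟩ : ∃ T : Finset X, ∀ q : PrimeSpectrum S, q.asIdeal.comap (algebraMap R S) = p → ∃ x ∈ T, y x ∉ q.asIdeal := by
    have hcpt : IsCompact (PrimeSpectrum.comap (algebraMap R S) ⁻¹' {(⟨p, ‹_›⟩ : PrimeSpectrum R)}) := by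
      rw [isCompact_iff_compactSpace]
      exact (PrimeSpectrum.preimageHomeomorphFiber R S ⟨p, ‹_›⟩).symm.compactSpace
    obtain ⟨T, hT⟩ := hcpt.elim_finite_subcover (fun x : X => (PrimeSpectrum.basicOpen (y x) : Set (PrimeSpectrum S)))
      (fun x => (PrimeSpectrum.basicOpen (y x)).isOpen) fun q hq => Set.mem_iUnion.2
        ⟨⟨q, congrArg PrimeSpectrum.asIdeal hq⟩, hy ⟨q, congrArg PrimeSpectrum.asIdeal hq⟩⟩
    exact ⟨T, fun q hq => by simpa using hT (PrimeSpectrum.ext hq)⟩
  have step : ∀ {R₁ R₂ : Type u} [CommRing R₁] [CommRing R₂] [Algebra R R₁] [Algebra R R₂] [Algebra R₁ R₂]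
      [IsScalarTower R R₁ R₂] (p₁ : Ideal R₁) (p₂ : Ideal R₂) [p₁.IsPrime] [p₂.IsPrime],
      p₂.comap (algebraMap R₁ R₂) = p₁ → ∀ y : S, LocCovers R (Localization.AtPrime p₁) S N y →
        LocCovers R (Localization.AtPrime p₂) S N y := fun {R₁ R₂} _ _ _ _ _ _ p₁ p₂ _ _ he y hl => by
    letI : Algebra (Localization.AtPrime p₁) (Localization.AtPrime p₂) :=
      (Localization.localRingHom p₁ p₂ (algebraMap R₁ R₂) he.symm).toAlgebra
    haveI : IsScalarTower R (Localization.AtPrime p₁) (Localization.AtPrime p₂) :=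
      IsScalarTower.of_algebraMap_eq fun x => by
        rw [IsScalarTower.algebraMap_apply R R₁ (Localization.AtPrime p₁), RingHom.algebraMap_toAlgebra,
          Localization.localRingHom_to_map, ← IsScalarTower.algebraMap_apply R₁ R₂ (Localization.AtPrime p₂),
          ← IsScalarTower.algebraMap_apply R R₁ (Localization.AtPrime p₂)]
    haveI : IsLocalHom (algebraMap (Localization.AtPrime p₁) (Localization.AtPrime p₂)) :=
      Localization.isLocalHom_localRingHom p₁ p₂ (algebraMap R₁ R₂) he.symm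
    exact hl.baseChange (IsLocalRing.maximalIdeal_comap _)
  have key : ∀ T : Finset X, ∃ (R' : Type u) (_ : CommRing R') (_ : Algebra R R') (p' : Ideal R') (_ : p'.IsPrime),
      FlatCA.IsEtaleNhd R R' p p' ∧ ∀ x ∈ T, LocCovers R (Localization.AtPrime p') S N (y x) := by
    intro T
    induction T using Finset.induction_on with
    | empty => exact ⟨R, inferInstance, inferInstance, p, inferInstance, Pure.isEtaleNhd_self p, fun x hx => absurd hx (by simp)⟩
    | insert a T _ ih =>
      obtain ⟨R', _, _, p', _, hn', hT'⟩ := ih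
      obtain ⟨R₁, _, _, p₁, _, hn₁, hc₁⟩ := hc a
      have hc' := comap_of_isEtaleNhd hn'
      subst hc'
      obtain ⟨P, _, hnP, hP₁⟩ := exists_nhd_baseChange (R := R') (R₀' := R₁) p' hn₁
      letI : Algebra R₁ (R' ⊗[R] R₁) := Algebra.TensorProduct.rightAlgebra
      haveI : IsScalarTower R R₁ (R' ⊗[R] R₁) := IsScalarTower.of_algebraMap_eq fun r => by
        change algebraMap R R' r ⊗ₜ[R] (1 : R₁) = (1 : R') ⊗ₜ[R] algebraMap R R₁ r
        rw [Algebra.algebraMap_eq_smul_one, Algebra.algebraMap_eq_smul_one (A := R₁), smul_tmul]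
      refine ⟨R' ⊗[R] R₁, inferInstance, inferInstance, P, inferInstance, isEtaleNhd_trans hn' hnP, fun x hx => ?_⟩
      rcases Finset.mem_insert.1 hx with rfl | hx
      · exact step p₁ P hP₁ _ hc₁
      · exact step p' P (comap_of_isEtaleNhd hnP) _ (hT' x hx)
  obtain ⟨R', _, _, p', _, hn, hcov⟩ := key T
  refine ⟨R', inferInstance, inferInstance, p', inferInstance, hn, Fintype.card T,
    fun i => y ((Fintype.equivFin T).symm i), fun i => hcov _ ((Fintype.equivFin T).symm i).2, fun q hq hqp => ?_⟩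
  obtain ⟨x, hx, hxy⟩ := hT ⟨q, hq⟩ hqp
  exact ⟨Fintype.equivFin T ⟨x, hx⟩, by simpa using hxy⟩

end Groth.Agent.RG.Loc
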