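import Groth.Agent.RG.Loc.Finite
import Groth.Agent.RG.Pure.Global

/-!
# Good pieces on arbitrary models; reduction from finite type to finite presentation
-/

set_option autoImplicit false
set_option linter.style.haveILetI false
set_option backward.isDefEq.respectTransparency false

universe u

open TensorProduct IsLocalRing

namespace Groth.Agent.RG.Loc

attribute [local instance] Algebra.TensorProduct.rightAlgebra in
/-- a basic open of any model from a basic open of `A ⊗ P` -/
theorem exists_model_good {R A P S SA : Type u} [CommRing R] [CommRing A] [CommRing P] [CommRing S] [CommRing SA]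
    [Algebra R A] [Algebra R P] [Algebra.FinitePresentation R P] [Algebra R S] [Algebra P S] [IsScalarTower R P S]
    [Module.Finite P S] [Algebra R SA] [Algebra S SA] [Algebra A SA] [IsScalarTower R S SA] [IsScalarTower R A SA]
    [Algebra.IsPushout R S A SA] (N NA : Type u) [AddCommGroup N] [Module S N] [Module P N] [IsScalarTower P S N]
    [AddCommGroup NA] [Module SA NA] [Module S NA] [IsScalarTower S SA NA] (f : N →ₗ[S] NA) (hf : IsBaseChange SA f)
    (hπ : Function.Surjective (algebraMap P S)) (h : A ⊗[R] P) :
    ∃ g : SA,
      (∀ Q : Ideal SA, Q.IsPrime → g ∈ Q → ∃ Q₀ : Ideal (A ⊗[R] P), Q₀.IsPrime ∧ h ∈ Q₀ ∧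
        Q₀.comap (algebraMap A (A ⊗[R] P)) = Q.comap (algebraMap A SA) ∧
        Q₀.comap (algebraMap P (A ⊗[R] P)) = (Q.comap (algebraMap S SA)).comap (algebraMap P S)) ∧
      (Module.FinitePresentation (Localization.Away h) (Localization.Away h ⊗[P] N) →
        Module.FinitePresentation (Localization.Away g) (Localization.Away g ⊗[SA] NA)) ∧
      (Module.Projective A (Localization.Away h ⊗[P] N) → Module.Projective A (Localization.Away g ⊗[SA] NA)) ∧
      (Module.FinitePresentation (Localization.Away h) (Localization.Away h ⊗[P] S) →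
        Algebra.FinitePresentation A (Localization.Away g)) := by
  let AP := A ⊗[R] P
  letI : Algebra P SA := ((algebraMap S SA).comp (algebraMap P S)).toAlgebra
  haveI : IsScalarTower P S SA := IsScalarTower.of_algebraMap_eq' rfl
  haveI : IsScalarTower R P SA := IsScalarTower.of_algebraMap_eq (R := R) (S := P) (A := SA) fun r => by
    rw [IsScalarTower.algebraMap_apply P S SA, ← IsScalarTower.algebraMap_apply R P S,
      ← IsScalarTower.algebraMap_apply R S SA]
  let Φ : AP →ₐ[A] SA := Algebra.TensorProduct.lift (Algebra.ofId A SA) (IsScalarTower.toAlgHom R P SA)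
    fun _ _ => Commute.all _ _
  letI : Algebra AP SA := Φ.toRingHom.toAlgebra
  haveI : IsScalarTower A AP SA := IsScalarTower.of_algebraMap_eq fun r => (Φ.commutes r).symm
  haveI : IsScalarTower P AP SA := IsScalarTower.of_algebraMap_eq (R := P) (S := AP) (A := SA) fun x => by
    change algebraMap P SA x = Φ ((1 : A) ⊗ₜ x)
    rw [Algebra.TensorProduct.lift_tmul, map_one, one_mul]
    rfl
  haveI : IsScalarTower R P AP := IsScalarTower.of_algebraMap_eq fun r => by
    change algebraMap R A r ⊗ₜ[R] (1 : P) = (1 : A) ⊗ₜ[R] algebraMap R P r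
    rw [Algebra.algebraMap_eq_smul_one, Algebra.algebraMap_eq_smul_one (A := P), smul_tmul]
  haveI : IsScalarTower R AP SA := IsScalarTower.of_algebraMap_eq (R := R) (S := AP) (A := SA) fun r => by
    rw [IsScalarTower.algebraMap_apply R A AP, ← IsScalarTower.algebraMap_apply A AP SA,
      ← IsScalarTower.algebraMap_apply R A SA]
  haveI : Algebra.IsPushout R P A AP := Algebra.IsPushout.symm inferInstance
  haveI : Algebra.IsPushout P S AP SA := (Algebra.IsPushout.comp_iff R P A AP (T := S) (T' := SA)).1 inferInstance
  haveI : Algebra.IsPushout P AP S SA := Algebra.IsPushout.symm inferInstance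
  let g : SA := algebraMap AP SA h
  let CP := Localization.Away h
  let CS := Localization.Away g
  letI : Algebra CP CS := (IsLocalization.Away.map CP CS (algebraMap AP SA) h).toAlgebra
  haveI : IsScalarTower AP SA CS := inferInstance
  haveI : IsScalarTower AP CP CS := IsScalarTower.of_algebraMap_eq (R := AP) (S := CP) (A := CS) fun x => by
    rw [IsScalarTower.algebraMap_apply AP SA CS, RingHom.algebraMap_toAlgebra (IsLocalization.Away.map CP CS (algebraMap AP SA) h)]
    exact (IsLocalization.map_eq _ x).symm
  haveI : Algebra.IsPushout AP CP SA CS := by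
    haveI : IsLocalization (Algebra.algebraMapSubmonoid SA (Submonoid.powers h)) CS := by
      rw [Algebra.algebraMapSubmonoid_powers]; infer_instance
    exact ((Algebra.isLocalization_iff_isPushout (Submonoid.powers h) CP (T := SA) (B := CS)).1 inferInstance).symm
  haveI : IsScalarTower P AP CP := inferInstance
  haveI : IsScalarTower P SA CS := inferInstance
  haveI : IsScalarTower S SA CS := inferInstance
  haveI : IsScalarTower P S CS := IsScalarTower.of_algebraMap_eq (R := P) (S := S) (A := CS) fun x => by
    rw [IsScalarTower.algebraMap_apply P SA CS, IsScalarTower.algebraMap_apply P S SA,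
      ← IsScalarTower.algebraMap_apply S SA CS]
  haveI : IsScalarTower P CP CS := IsScalarTower.of_algebraMap_eq (R := P) (S := CP) (A := CS) fun x => by
    rw [IsScalarTower.algebraMap_apply P AP CP, ← IsScalarTower.algebraMap_apply AP CP CS,
      IsScalarTower.algebraMap_apply AP SA CS, ← IsScalarTower.algebraMap_apply P AP SA,
      ← IsScalarTower.algebraMap_apply P SA CS]
  haveI : IsScalarTower A SA CS := inferInstance
  haveI : IsScalarTower A CP CS := IsScalarTower.of_algebraMap_eq (R := A) (S := CP) (A := CS) fun x => by
    rw [IsScalarTower.algebraMap_apply A AP CP, ← IsScalarTower.algebraMap_apply AP CP CS,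
      IsScalarTower.algebraMap_apply AP SA CS, ← IsScalarTower.algebraMap_apply A AP SA,
      ← IsScalarTower.algebraMap_apply A SA CS]
  haveI : Algebra.IsPushout P CP S CS :=
    (Algebra.IsPushout.comp_iff P AP S SA (T := CP) (T' := CS)).2 inferInstance
  obtain ⟨eN⟩ := exists_equiv_model (C := CS) f hf
  refine ⟨g, fun Q hQ hg => ⟨Q.comap (algebraMap AP SA), Ideal.IsPrime.comap _, hg, ?_, ?_⟩, fun hfp => ?_,
    fun hproj => ?_, fun hfp => ?_⟩
  · rw [Ideal.comap_comap, ← IsScalarTower.algebraMap_eq A AP SA]
  · rw [Ideal.comap_comap, ← IsScalarTower.algebraMap_eq P AP SA, Ideal.comap_comap,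
      ← IsScalarTower.algebraMap_eq P S SA]
  · haveI : Module.FinitePresentation CS (CS ⊗[S] N) := fp_pushout_up (T := P) (C := CP) hfp
    exact Module.FinitePresentation.of_equiv (R := CS) eN
  · haveI := hproj
    exact Module.Projective.of_equiv (((Algebra.IsPushout.cancelBaseChange P CP S CS N).symm.restrictScalars A) ≪≫ₗ
      eN.restrictScalars A)
  · haveI := hfp
    let e := IsBaseChange.equiv (Algebra.IsPushout.out (R := P) (S := CP) (R' := S) (S' := CS))
    haveI : Module.FinitePresentation CP CS := Module.FinitePresentation.of_equiv (R := CP) e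
    have hsurj : Function.Surjective (algebraMap CP CS) := fun z => by
      obtain ⟨w, rfl⟩ := e.surjective z
      induction w using TensorProduct.induction_on with
      | zero => exact ⟨0, by rw [map_zero, map_zero]⟩
      | add a b ha hb =>
        obtain ⟨a', ha⟩ := ha
        obtain ⟨b', hb⟩ := hb
        exact ⟨a' + b', by rw [map_add, map_add, ha, hb]⟩
      | tmul c s =>
        obtain ⟨x, rfl⟩ := hπ s
        refine ⟨c * algebraMap P CP x, ?_⟩
        rw [IsBaseChange.equiv_tmul, map_mul, ← IsScalarTower.algebraMap_apply P CP CS, Algebra.smul_def]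
        exact congrArg _ (IsScalarTower.algebraMap_apply P S CS x)
    haveI : Algebra.FinitePresentation A CP :=
      haveI : Algebra.FinitePresentation AP CP := IsLocalization.Away.finitePresentation h
      Algebra.FinitePresentation.trans A AP CP
    exact Algebra.FinitePresentation.of_surjective (f := IsScalarTower.toAlgHom A CP CS) hsurj
      (Module.FinitePresentation.fg_ker (Algebra.linearMap CP CS) hsurj)

attribute [local instance] Algebra.TensorProduct.rightAlgebra in
/-- finitely many good basic opens covering the closed fibre, on every model -/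
theorem exists_good_cover {R S : Type u} [CommRing R] [CommRing S] [Algebra R S] [Algebra.FiniteType R S]
    (p : Ideal R) [p.IsPrime] (N : Type u) [AddCommGroup N] [Module S N] [Module R N] [IsScalarTower R S N]
    [Module.Finite S N]
    (hN : ∀ (q : Ideal S) [q.IsPrime], q.comap (algebraMap R S) = p → Module.Flat R (LocalizedModule q.primeCompl N)) :
    ∃ (R' : Type u) (_ : CommRing R') (_ : Algebra R R') (p' : Ideal R') (_ : p'.IsPrime), FlatCA.IsEtaleNhd R R' p p' ∧
      ∃ m : ℕ, ∀ (SA NA : Type u) [CommRing SA] [Algebra R SA] [Algebra S SA] [Algebra (Localization.AtPrime p') SA]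
        [IsScalarTower R S SA] [IsScalarTower R (Localization.AtPrime p') SA]
        [Algebra.IsPushout R S (Localization.AtPrime p') SA] [AddCommGroup NA] [Module SA NA] [Module S NA]
        [IsScalarTower S SA NA] (f : N →ₗ[S] NA), IsBaseChange SA f →
        ∃ g : Fin m → SA,
          (∀ i, Module.FinitePresentation (Localization.Away (g i)) (Localization.Away (g i) ⊗[SA] NA)) ∧
          (∀ i, Module.Projective (Localization.AtPrime p') (Localization.Away (g i) ⊗[SA] NA)) ∧
          ∀ Q : Ideal SA, Q.IsPrime →
            Q.comap (algebraMap (Localization.AtPrime p') SA) = maximalIdeal (Localization.AtPrime p') → ∃ i, g i ∉ Q := by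
  obtain ⟨n, π, hπ⟩ := Algebra.FiniteType.iff_quotient_mvPolynomial''.1 (inferInstance : Algebra.FiniteType R S)
  let P := MvPolynomial (Fin n) R
  letI : Algebra P S := π.toRingHom.toAlgebra
  haveI : IsScalarTower R P S := IsScalarTower.of_algebraMap_eq fun r => (π.commutes r).symm
  replace hπ : Function.Surjective (algebraMap P S) := hπ
  haveI : Module.Finite P S := Module.Finite.of_surjective (Algebra.linearMap P S) hπ
  letI : Module P N := Module.compHom N (algebraMap P S)
  haveI : IsScalarTower P S N := IsScalarTower.of_algebraMap_smul fun _ _ => rfl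
  haveI : IsScalarTower R P N := IsScalarTower.of_algebraMap_smul fun r x => by
    change algebraMap P S (algebraMap R P r) • x = r • x
    rw [← IsScalarTower.algebraMap_apply R P S, algebraMap_smul]
  haveI : Module.Finite P N := Module.Finite.trans S N
  have hP : ∀ (Q : Ideal P) [Q.IsPrime], Q.comap (algebraMap R P) = p → Module.Flat R (LocalizedModule Q.primeCompl N) := by
    intro Q _ hQ
    by_cases hker : RingHom.ker (algebraMap P S) ≤ Q
    · haveI : (Q.map (algebraMap P S)).IsPrime := Ideal.map_isPrime_of_surjective hπ hker
      have hc : (Q.map (algebraMap P S)).comap (algebraMap P S) = Q := by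
        rw [Ideal.comap_map_of_surjective _ hπ, ← RingHom.ker_eq_comap_bot, sup_eq_left.2 hker]
      refine flat_unique_prime Q (Q.map (algebraMap P S)) hc (fun Q' _ he => ?_) N (hN _ ?_)
      · rw [← Ideal.map_comap_of_surjective _ hπ Q', he]
      · rw [IsScalarTower.algebraMap_eq R P S, ← Ideal.comap_comap, hc, hQ]
    · obtain ⟨k, hk, hkQ⟩ := SetLike.not_le_iff_exists.1 hker
      haveI : Subsingleton (LocalizedModule Q.primeCompl N) := LocalizedModule.subsingleton_iff.2 fun x =>
        ⟨k, hkQ, by change algebraMap P S k • x = 0; rw [RingHom.mem_ker.1 hk, zero_smul]⟩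
      exact inferInstance
  obtain ⟨R', _, _, p', _, hn, m, y, hc, hcov⟩ := exists_locCommon p N hP
  refine ⟨R', inferInstance, inferInstance, p', inferInstance, hn, m, fun SA NA _ _ _ _ _ _ _ _ _ _ _ f hf => ?_⟩
  choose h hfp hproj hh using hc
  choose g hg hgfp hgproj _ using fun i => exists_model_good N NA f hf hπ (h i)
  refine ⟨g, fun i => hgfp i (hfp i), fun i => hgproj i (hproj i), fun Q hQ hQm => ?_⟩
  obtain ⟨i, hi⟩ := hcov ((Q.comap (algebraMap S SA)).comap (algebraMap P S)) (Ideal.IsPrime.comap _) (by
    rw [Ideal.comap_comap, Ideal.comap_comap, ← IsScalarTower.algebraMap_eq R P S,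
      ← IsScalarTower.algebraMap_eq R S SA, IsScalarTower.algebraMap_eq R (Localization.AtPrime p') SA,
      ← Ideal.comap_comap, hQm, IsScalarTower.algebraMap_eq R R' (Localization.AtPrime p'), ← Ideal.comap_comap,
      show (maximalIdeal (Localization.AtPrime p')).comap (algebraMap R' (Localization.AtPrime p')) = p' from
        Localization.AtPrime.comap_maximalIdeal, comap_of_isEtaleNhd hn])
  refine ⟨i, fun hm => ?_⟩
  obtain ⟨Q₀, hQ₀, hmem, hA, hP₀⟩ := hg i Q hQ hm
  exact hh i Q₀ hQ₀ (hA.trans hQm) (by rwa [hP₀]) hmem

/-- finite presentation only depends on the module up to isomorphism -/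
theorem fp_congr {P C : Type u} [CommRing P] [CommRing C] [Algebra P C] {M : Type u} [AddCommGroup M] [Module P M]
    (N : Type u) [AddCommGroup N] [Module P N] (e : M ≃ₗ[P] N) (h : Module.FinitePresentation C (C ⊗[P] M)) :
    Module.FinitePresentation C (C ⊗[P] N) :=
  haveI := h
  Module.FinitePresentation.of_equiv (R := C) (AlgebraTensorModule.congr (LinearEquiv.refl C C) e)

attribute [local instance] Algebra.TensorProduct.rightAlgebra in
/-- a good basic open containing the point over `q` and the closed point, on every model -/
theorem exists_good_piece_aux {R P S : Type u} [CommRing R] [CommRing P] [CommRing S] [Algebra R P]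
    [Algebra.FinitePresentation R P] [Algebra R S] [Algebra P S] [IsScalarTower R P S] [Module.Finite P S]
    (hπ : Function.Surjective (algebraMap P S))
    (p : Ideal R) [p.IsPrime] (q : Ideal S) [q.IsPrime] (hq : q.comap (algebraMap R S) = p) (N : Type u)
    [AddCommGroup N] [Module S N] [Module R N] [IsScalarTower R S N] [Module.Finite S N] [Module P N] [IsScalarTower P S N] [IsScalarTower R P N] [Module.Finite P N]
    (hflat : Module.Flat R (LocalizedModule q.primeCompl N)) :
    ∃ (R' : Type u) (_ : CommRing R') (_ : Algebra R R') (p' : Ideal R') (_ : p'.IsPrime), FlatCA.IsEtaleNhd R R' p p' ∧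
      ∀ (SA NA : Type u) [CommRing SA] [Algebra R SA] [Algebra S SA] [Algebra (Localization.AtPrime p') SA]
        [IsScalarTower R S SA] [IsScalarTower R (Localization.AtPrime p') SA]
        [Algebra.IsPushout R S (Localization.AtPrime p') SA] [AddCommGroup NA] [Module SA NA] [Module S NA]
        [IsScalarTower S SA NA] (f : N →ₗ[S] NA), IsBaseChange SA f →
        ∃ g : SA, Module.FinitePresentation (Localization.Away g) (Localization.Away g ⊗[SA] NA) ∧
          Module.Projective (Localization.AtPrime p') (Localization.Away g ⊗[SA] NA) ∧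
          (∀ (_ : N ≃ₗ[S] S), Algebra.FinitePresentation (Localization.AtPrime p') (Localization.Away g)) ∧
          ∀ Q : Ideal SA, Q.IsPrime → Q.comap (algebraMap S SA) = q →
            Q.comap (algebraMap (Localization.AtPrime p') SA) = maximalIdeal (Localization.AtPrime p') → g ∉ Q := by
  let Q := q.comap (algebraMap P S)
  have hQ : Q.comap (algebraMap R P) = p := by
    rw [Ideal.comap_comap, ← IsScalarTower.algebraMap_eq R P S, hq]
  have hflatP : Module.Flat R (LocalizedModule Q.primeCompl N) :=
    flat_unique_prime Q q rfl (fun Q' _ he => Ideal.comap_injective_of_surjective _ hπ he) N hflat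
  obtain ⟨R', _, _, p', _, hn, y, hy, h, hfp, hproj, hh⟩ := exists_locCovers_of_flat p Q hQ N hflatP
  refine ⟨R', inferInstance, inferInstance, p', inferInstance, hn, fun SA NA _ _ _ _ _ _ _ _ _ _ _ f hf => ?_⟩
  obtain ⟨g, hg, hgfp, hgproj, hgalg⟩ := exists_model_good N NA f hf hπ h
  refine ⟨g, hgfp hfp, hgproj hproj, fun e => hgalg ?_, fun T hT hTq hTm hm => ?_⟩
  · exact fp_congr _ (e.restrictScalars P) hfp
  · obtain ⟨Q₀, hQ₀, hmem, hA, hP₀⟩ := hg T hT hm
    exact hh Q₀ hQ₀ (hA.trans hTm) (by rw [hP₀, hTq]; exact hy) hmem

attribute [local instance] Algebra.TensorProduct.rightAlgebra in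
/-- a good basic open containing the point over `q` and the closed point, on every model -/
theorem exists_good_piece {R S : Type u} [CommRing R] [CommRing S] [Algebra R S] [Algebra.FiniteType R S]
    (p : Ideal R) [p.IsPrime] (q : Ideal S) [q.IsPrime] (hq : q.comap (algebraMap R S) = p) (N : Type u)
    [AddCommGroup N] [Module S N] [Module R N] [IsScalarTower R S N] [Module.Finite S N]
    (hflat : Module.Flat R (LocalizedModule q.primeCompl N)) :
    ∃ (R' : Type u) (_ : CommRing R') (_ : Algebra R R') (p' : Ideal R') (_ : p'.IsPrime), FlatCA.IsEtaleNhd R R' p p' ∧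
      ∀ (SA NA : Type u) [CommRing SA] [Algebra R SA] [Algebra S SA] [Algebra (Localization.AtPrime p') SA]
        [IsScalarTower R S SA] [IsScalarTower R (Localization.AtPrime p') SA]
        [Algebra.IsPushout R S (Localization.AtPrime p') SA] [AddCommGroup NA] [Module SA NA] [Module S NA]
        [IsScalarTower S SA NA] (f : N →ₗ[S] NA), IsBaseChange SA f →
        ∃ g : SA, Module.FinitePresentation (Localization.Away g) (Localization.Away g ⊗[SA] NA) ∧
          Module.Projective (Localization.AtPrime p') (Localization.Away g ⊗[SA] NA) ∧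
          (∀ (_ : N ≃ₗ[S] S), Algebra.FinitePresentation (Localization.AtPrime p') (Localization.Away g)) ∧
          ∀ Q : Ideal SA, Q.IsPrime → Q.comap (algebraMap S SA) = q →
            Q.comap (algebraMap (Localization.AtPrime p') SA) = maximalIdeal (Localization.AtPrime p') → g ∉ Q := by
  obtain ⟨n, π, hπ⟩ := Algebra.FiniteType.iff_quotient_mvPolynomial''.1 (inferInstance : Algebra.FiniteType R S)
  let P := MvPolynomial (Fin n) R
  letI : Algebra P S := π.toRingHom.toAlgebra
  haveI : IsScalarTower R P S := IsScalarTower.of_algebraMap_eq fun r => (π.commutes r).symm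
  replace hπ : Function.Surjective (algebraMap P S) := hπ
  haveI : Module.Finite P S := Module.Finite.of_surjective (Algebra.linearMap P S) hπ
  letI : Module P N := Module.compHom N (algebraMap P S)
  haveI : IsScalarTower P S N := IsScalarTower.of_algebraMap_smul fun _ _ => rfl
  haveI : IsScalarTower R P N := IsScalarTower.of_algebraMap_smul fun r x => by
    change algebraMap P S (algebraMap R P r) • x = r • x
    rw [← IsScalarTower.algebraMap_apply R P S, algebraMap_smul]
  haveI : Module.Finite P N := Module.Finite.trans S N
  exact exists_good_piece_aux (P := P) hπ p q hq N hflat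

/-- projective over a local ring and countably generated, hence free -/
theorem free_piece {A C : Type u} [CommRing A] [IsLocalRing A] [CommRing C] [Algebra A C] [Algebra.FiniteType A C]
    (W : Type u) [AddCommGroup W] [Module C W] [Module A W] [IsScalarTower A C W] [Module.Finite C W]
    (h : Module.Projective A W) : Module.Free A W :=
  haveI := h
  Groth.Agent.Kaplansky.free_of_countablyGenerated (Groth.Agent.RG.Pure.isCountablyGenerated_of_finiteType (B := C) W)

end Groth.Agent.RG.Loc
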