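import Groth.Agent.RG.Loc.FpTools

/-!
# A finite module flat at a point is finitely presented near it: henselian base
-/

set_option autoImplicit false
set_option linter.style.haveILetI false
set_option backward.isDefEq.respectTransparency false

universe u

open TensorProduct IsLocalRing

namespace Groth.Agent.RG.Loc

/-- the statement proved by induction on the dimension of the closed fibre -/
def MainFp (n : ℕ) : Prop :=
  ∀ (R : Type u) [CommRing R] [HenselianLocalRing R] (S : Type u) [CommRing S] [Algebra R S]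
    [Algebra.FinitePresentation R S] (q : Ideal S) [q.IsPrime] (N : Type u) [AddCommGroup N] [Module S N] [Module R N]
    [IsScalarTower R S N] [Module.Finite S N], q.comap (algebraMap R S) = maximalIdeal R →
      Module.Flat R (LocalizedModule q.primeCompl N) → DimLT R S (maximalIdeal R) n →
      ∃ g : S, g ∉ q ∧ Module.FinitePresentation (Localization.Away g) (Localization.Away g ⊗[S] N)

attribute [local instance] Algebra.TensorProduct.rightAlgebra in
/-- the cokernel becomes finitely presented after inverting `a` or after the induction hypothesis -/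
theorem fp_structure_step {n : ℕ} (ih : MainFp.{u} n) {R T : Type u} [CommRing R] [HenselianLocalRing R] [CommRing T]
    [Algebra R T] [Algebra.FinitePresentation R T] [Module.Projective R T] (η t : Ideal T) [η.IsPrime] [t.IsPrime]
    (htm : t.comap (algebraMap R T) = maximalIdeal R) (hηt : η ≤ t)
    (hη : ∀ x ∈ η, x ∈ (maximalIdeal R).map (algebraMap R T)) (hηm : (maximalIdeal R).map (algebraMap R T) ≤ η)
    (hdim : DimLT R T (maximalIdeal R) (n + 1)) (M : Type u) [AddCommGroup M] [Module T M] [Module R M]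
    [IsScalarTower R T M] [Module.Finite T M] (hflat : Module.Flat R (LocalizedModule t.primeCompl M)) :
    ∃ g : T, g ∉ t ∧ Module.FinitePresentation (Localization.Away g) (Localization.Away g ⊗[T] M) := by
  obtain ⟨r, α, a, haη, hrange, hinj, hPflat⟩ := exists_structure_local η t hηt hη hηm M hflat
  let P := M ⧸ LinearMap.range α
  suffices H : ∃ g : T, g ∉ t ∧ Module.FinitePresentation (Localization.Away g) (Localization.Away g ⊗[T] P) by
    obtain ⟨g, hg, hP⟩ := H
    haveI : Module.Flat T (Localization.Away g) := IsLocalization.flat _ (Submonoid.powers g)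
    exact ⟨g, hg, fp_extension α hinj hP⟩
  by_cases hat : a ∈ t
  · let I : Ideal T := Ideal.span {a}
    have hPI : Module.IsTorsionBySet T P (I : Set T) := by
      refine (Module.isTorsionBySet_span_singleton_iff a).2 fun x => ?_
      obtain ⟨m, rfl⟩ := Submodule.mkQ_surjective _ x
      rw [← map_smul, Submodule.mkQ_apply, Submodule.Quotient.mk_eq_zero]
      exact hrange m
    letI : Module (T ⧸ I) P := hPI.module
    haveI : IsScalarTower T (T ⧸ I) P := hPI.isScalarTower
    haveI : IsScalarTower R (T ⧸ I) P := hPI.isScalarTower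
    haveI : Module.Finite (T ⧸ I) P := Module.Finite.of_restrictScalars_finite T (T ⧸ I) P
    haveI : Algebra.FinitePresentation R (T ⧸ I) := Algebra.FinitePresentation.quotient ⟨{a}, by simp [I]⟩
    have hIt : I ≤ t := (Ideal.span_singleton_le_iff_mem t).2 hat
    let tI : Ideal (T ⧸ I) := t.map (Ideal.Quotient.mk I)
    haveI : tI.IsPrime := Ideal.map_isPrime_of_surjective Ideal.Quotient.mk_surjective (by rwa [Ideal.mk_ker])
    have htI : tI.comap (Ideal.Quotient.mk I) = t := by
      rw [Ideal.comap_map_of_surjective _ Ideal.Quotient.mk_surjective, ← RingHom.ker_eq_comap_bot, Ideal.mk_ker]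
      exact sup_eq_left.2 hIt
    have hcomap : ∀ τ : Ideal (T ⧸ I),
        (τ.comap (Ideal.Quotient.mk I)).comap (algebraMap R T) = τ.comap (algebraMap R (T ⧸ I)) := fun τ => by
      rw [Ideal.comap_comap]; rfl
    have hflatI : Module.Flat R (LocalizedModule tI.primeCompl P) := by
      haveI := hPflat
      obtain ⟨e⟩ := exists_equiv_quot (R := R) I t tI htI P
      exact Module.Flat.of_linearEquiv e.symm
    have hdimI : DimLT R (T ⧸ I) (maximalIdeal R) n := by
      intro l
      let φ : {q : PrimeSpectrum (T ⧸ I) // q.asIdeal.comap (algebraMap R (T ⧸ I)) = maximalIdeal R} →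
          {q : PrimeSpectrum T // q.asIdeal.comap (algebraMap R T) = maximalIdeal R} := fun q =>
        ⟨⟨q.1.asIdeal.comap (Ideal.Quotient.mk I), Ideal.IsPrime.comap _⟩, (hcomap _).trans q.2⟩
      have hφ : StrictMono φ := fun q q' hqq => lt_of_le_of_ne (Ideal.comap_mono (le_of_lt hqq : q ≤ q')) fun he =>
        (ne_of_lt hqq) (Subtype.ext (PrimeSpectrum.ext (Ideal.comap_injective_of_surjective _
          Ideal.Quotient.mk_surjective (congrArg (fun x => x.1.asIdeal) he))))
      have hηp : η.comap (algebraMap R T) = maximalIdeal R :=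
        le_antisymm (IsLocalRing.le_maximalIdeal (Ideal.IsPrime.comap _).ne_top) (Ideal.map_le_iff_le_comap.1 hηm)
      let η₀ : {q : PrimeSpectrum T // q.asIdeal.comap (algebraMap R T) = maximalIdeal R} := ⟨⟨η, ‹_›⟩, hηp⟩
      have hlt : η₀ < (l.map φ hφ).head := by
        rw [LTSeries.head_map]
        refine lt_of_le_of_ne (fun x hx => ?_) fun he => haη ?_
        · exact Ideal.map_le_iff_le_comap.2 (φ l.head).2.ge (hη x hx)
        · rw [show η = (φ l.head).1.asIdeal from congrArg (fun x => x.1.asIdeal) he, Ideal.mem_comap,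
            Ideal.Quotient.eq_zero_iff_mem.2 (Ideal.mem_span_singleton_self a)]
          exact zero_mem _
      have := hdim ((l.map φ hφ).cons η₀ hlt)
      simpa [LTSeries.map] using this
    obtain ⟨h', hh', hfp⟩ := ih R (T ⧸ I) tI P (by rw [← hcomap, htI, htm]) hflatI hdimI
    obtain ⟨h, rfl⟩ := Ideal.Quotient.mk_surjective h'
    refine ⟨h, fun hm => hh' (by rw [← Ideal.mem_comap, htI]; exact hm), ?_⟩
    let C := Localization.Away h
    let C' := C ⊗[T] (T ⧸ I)
    haveI hloc : IsLocalization.Away (algebraMap T (T ⧸ I) h) C' := by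
      have h1 := (Algebra.isLocalization_iff_isPushout (Submonoid.powers h) C (T := T ⧸ I) (B := C')).2
        (Algebra.IsPushout.symm inferInstance)
      rw [Algebra.algebraMapSubmonoid_powers] at h1
      exact h1
    haveI : Module.FinitePresentation (T ⧸ I) (T ⧸ I) := inferInstance
    haveI : Module.FinitePresentation T (T ⧸ I) :=
      Module.finitePresentation_of_surjective (Algebra.linearMap T (T ⧸ I)) Ideal.Quotient.mk_surjective (by
        refine ⟨{a}, ?_⟩
        ext x
        simp [I, Ideal.Quotient.eq_zero_iff_mem])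
    exact fp_pushout_down (S₀ := T ⧸ I) (C' := C')
      (fp_model (Ideal.Quotient.mk I h) (C := Localization.Away (Ideal.Quotient.mk I h)) hfp)
  · refine ⟨a, hat, ?_⟩
    let C := Localization.Away a
    have hu : IsUnit (algebraMap T C a) := IsLocalization.Away.algebraMap_isUnit a
    have hz : ∀ z : C ⊗[T] P, z = 0 := fun z => by
      induction z using TensorProduct.induction_on with
      | zero => rfl
      | add x y hx hy => rw [hx, hy, add_zero]
      | tmul c x =>
        obtain ⟨m, rfl⟩ := Submodule.mkQ_surjective _ x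
        refine hu.smul_eq_zero.1 ?_
        rw [algebraMap_smul, ← tmul_smul, ← map_smul, Submodule.mkQ_apply,
          (Submodule.Quotient.mk_eq_zero _).2 (hrange m), tmul_zero]
    haveI : Subsingleton (C ⊗[T] P) := ⟨fun x y => (hz x).trans (hz y).symm⟩
    exact inferInstance

attribute [local instance] Algebra.TensorProduct.rightAlgebra in
/-- the generic point of the component of the closed fibre through `P` -/
theorem exists_generic {R T₀ : Type u} [CommRing R] [IsLocalRing R] [CommRing T₀] [Algebra R T₀] [Algebra.Smooth R T₀]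
    (P : Ideal T₀) [P.IsPrime] (hP : P.comap (algebraMap R T₀) = maximalIdeal R) :
    ∃ w : T₀, w ∉ P ∧ ∀ (G : T₀) (T : Type u) [CommRing T] [Algebra T₀ T] [Algebra R T] [IsScalarTower R T₀ T]
      [IsLocalization.Away G T], w ∣ G → G ∉ P → ∀ (t : Ideal T) [t.IsPrime], t.comap (algebraMap T₀ T) = P →
        ∃ η : Ideal T, η.IsPrime ∧ η ≤ t ∧ (∀ x ∈ η, x ∈ (maximalIdeal R).map (algebraMap R T)) ∧
          (maximalIdeal R).map (algebraMap R T) ≤ η := by
  classical
  let κ := (maximalIdeal R).ResidueField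
  let F := κ ⊗[R] T₀
  let e := PrimeSpectrum.preimageOrderIsoFiber R T₀ ⟨maximalIdeal R, inferInstance⟩
  let PF : PrimeSpectrum F := e ⟨⟨P, ‹_›⟩, PrimeSpectrum.ext hP⟩
  have hPF : ∀ x : T₀, (1 : κ) ⊗ₜ[R] x ∈ PF.asIdeal ↔ x ∈ P := fun x => by
    conv_rhs => rw [show P = PF.asIdeal.comap (Algebra.TensorProduct.includeRight : T₀ →ₐ[R] F).toRingHom from
      (congrArg (fun x => x.1.asIdeal) (e.symm_apply_apply ⟨⟨P, ‹_›⟩, PrimeSpectrum.ext hP⟩)).symm]
    rfl
  haveI : Algebra.Smooth κ F := inferInstance
  haveI : IsNoetherianRing F := Algebra.FiniteType.isNoetherianRing κ F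
  let L := Localization.AtPrime PF.asIdeal
  haveI : IsDomain L := isDomain_localization_of_smooth (k := κ) PF.asIdeal
  obtain ⟨s, hs, hkill⟩ : ∃ s : F, s ∉ PF.asIdeal ∧ ∀ x, algebraMap F L x = 0 → s * x = 0 := by
    obtain ⟨G, hG⟩ := IsNoetherian.noetherian (RingHom.ker (algebraMap F L))
    choose c hc using fun x : G => (IsLocalization.map_eq_zero_iff PF.asIdeal.primeCompl L x.1).1
      (RingHom.mem_ker.1 (hG ▸ Submodule.subset_span x.2))
    refine ⟨∏ x : G, (c x : F), fun hm => ?_, fun x hx => ?_⟩
    · obtain ⟨y, -, hy⟩ := PF.isPrime.prod_mem_iff.1 hm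
      exact (c y).2 hy
    · have hx' : x ∈ Submodule.span F (G : Set F) := hG ▸ RingHom.mem_ker.2 hx
      clear hx
      induction hx' using Submodule.span_induction with
      | mem y hy => rw [← Finset.prod_erase_mul _ _ (Finset.mem_univ (⟨y, hy⟩ : G)), mul_assoc, hc, mul_zero]
      | zero => rw [mul_zero]
      | add a b _ _ ha hb => rw [mul_add, ha, hb, add_zero]
      | smul c' a _ ha => rw [smul_eq_mul, mul_left_comm, ha, mul_zero]
  obtain ⟨c, hc, w, hcw⟩ := exists_scalar (R := R) (p := maximalIdeal R) s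
  have hcu : IsUnit c := IsLocalRing.notMem_maximalIdeal.1 hc
  have hw : w ∉ P := fun h => hs (by
    have h1 := (hPF w).2 h
    rw [← hcw, Algebra.smul_def] at h1
    exact (PF.isPrime.mem_or_mem h1).resolve_left fun hm => PF.isPrime.ne_top (PF.asIdeal.eq_top_of_isUnit_mem hm
      ((hcu.map (algebraMap R κ)).map (algebraMap κ F))))
  refine ⟨w, hw, fun G T _ _ _ _ _ hwG hGP' t ht htc => ?_⟩
  let θ : T₀ →+* L := (algebraMap F L).comp (Algebra.TensorProduct.includeRight : T₀ →ₐ[R] F).toRingHom
  have hθG : IsUnit (θ G) := IsLocalization.map_units L (⟨(1 : κ) ⊗ₜ G, fun h => hGP' ((hPF G).1 h)⟩ : PF.asIdeal.primeCompl)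
  let ι : T →+* L := IsLocalization.Away.lift G hθG
  have hι : ∀ x, ι (algebraMap T₀ T x) = θ x := fun x => IsLocalization.Away.lift_eq G hθG x
  let η : Ideal T := RingHom.ker ι
  haveI : η.IsPrime := RingHom.ker_isPrime _
  have hfrac : ∀ x : T, ∃ (k : ℕ) (y : T₀), x * algebraMap T₀ T G ^ k = algebraMap T₀ T y := fun x => by
    obtain ⟨k, y, hy⟩ := IsLocalization.Away.surj G x
    exact ⟨k, y, by simpa using hy⟩
  have hGu : IsUnit (algebraMap T₀ T G) := IsLocalization.Away.algebraMap_isUnit G
  have hηy : ∀ {x : T}, x ∈ η → ∀ {k : ℕ} {y : T₀}, x * algebraMap T₀ T G ^ k = algebraMap T₀ T y → θ y = 0 := by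
    intro x hx k y hy
    have h0 : ι (algebraMap T₀ T y) = 0 := by rw [← hy, map_mul, RingHom.mem_ker.1 hx, zero_mul]
    rwa [hι] at h0
  have hηt : η ≤ t := fun x hx => by
    obtain ⟨k, y, hy⟩ := hfrac x
    have hyP : y ∈ P := by
      rw [← hPF]
      by_contra h
      exact (IsLocalization.map_units L (⟨(1 : κ) ⊗ₜ y, h⟩ : PF.asIdeal.primeCompl)).ne_zero (hηy hx hy)
    have : x * algebraMap T₀ T G ^ k ∈ t := by rw [hy, ← Ideal.mem_comap, htc]; exact hyP
    exact (ht.mem_or_mem this).resolve_right fun hm => ht.ne_top (t.eq_top_of_isUnit_mem hm (hGu.pow k))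
  have hη : ∀ x ∈ η, x ∈ (maximalIdeal R).map (algebraMap R T) := by
    intro x hx
    obtain ⟨k, y, hy⟩ := hfrac x
    have h1 : (1 : κ) ⊗ₜ[R] (w * y) = 0 := by
      rw [← one_mul (1 : κ), ← Algebra.TensorProduct.tmul_mul_tmul, ← hcw, Algebra.smul_def, mul_assoc]
      exact (congrArg (algebraMap κ F (algebraMap R κ c) * ·) (hkill _ (hηy hx hy))).trans (mul_zero _)
    obtain ⟨d, hd, hdw⟩ := (RG.one_tmul_eq_zero_iff (maximalIdeal R) _).1 h1
    rw [Ideal.smul_top_eq_map, Submodule.restrictScalars_mem, Algebra.smul_def] at hdw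
    have h2 := Ideal.mem_map_of_mem (algebraMap T₀ T) hdw
    rw [Ideal.map_map, ← IsScalarTower.algebraMap_eq R T₀ T, map_mul, map_mul, ← hy] at h2
    have hu : IsUnit (algebraMap T₀ T (algebraMap R T₀ d) * algebraMap T₀ T w * algebraMap T₀ T G ^ k) := by
      refine ((((IsLocalRing.notMem_maximalIdeal.1 hd).map (algebraMap R T₀)).map _).mul ?_).mul (hGu.pow k)
      exact isUnit_of_dvd_unit (map_dvd _ hwG) hGu
    obtain ⟨v, hv⟩ := hu
    have : (↑v⁻¹ : T) * (algebraMap T₀ T (algebraMap R T₀ d) * (algebraMap T₀ T w * (x * algebraMap T₀ T G ^ k))) = x := by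
      calc _ = (↑v⁻¹ : T) * ↑v * x := by rw [hv]; ring
        _ = x := by rw [Units.inv_mul, one_mul]
    rw [← this]
    exact Ideal.mul_mem_left _ _ h2
  have hηm : (maximalIdeal R).map (algebraMap R T) ≤ η := by
    rw [Ideal.map_le_iff_le_comap]
    intro r hr
    rw [Ideal.mem_comap, RingHom.mem_ker, IsScalarTower.algebraMap_apply R T₀ T, hι]
    change algebraMap F L ((1 : κ) ⊗ₜ[R] algebraMap R T₀ r) = 0
    rw [Algebra.algebraMap_eq_smul_one (A := T₀), ← smul_tmul, Algebra.smul_def,
      Ideal.algebraMap_residueField_eq_zero.2 hr, zero_mul, zero_tmul, map_zero]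
  exact ⟨η, inferInstance, hηt, hη, hηm⟩

attribute [local instance] Algebra.TensorProduct.rightAlgebra in
/-- the step on a basic open where the ring is projective over the base -/
theorem fp_smooth_away {n : ℕ} (ih : MainFp.{u} n) {R T₀ : Type u} [CommRing R] [HenselianLocalRing R] [CommRing T₀]
    [Algebra R T₀] (P : Ideal T₀) [P.IsPrime] (hP : P.comap (algebraMap R T₀) = maximalIdeal R)
    (hdim : DimLT R T₀ (maximalIdeal R) (n + 1)) (G : T₀) (T : Type u) [CommRing T] [Algebra T₀ T] [Algebra R T]
    [IsScalarTower R T₀ T] [IsLocalization.Away G T] [Algebra.FinitePresentation R T] [Module.Projective R T]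
    (t η : Ideal T) [t.IsPrime] [η.IsPrime] (htc : t.comap (algebraMap T₀ T) = P) (hηt : η ≤ t)
    (hη : ∀ x ∈ η, x ∈ (maximalIdeal R).map (algebraMap R T)) (hηm : (maximalIdeal R).map (algebraMap R T) ≤ η)
    (M : Type u) [AddCommGroup M] [Module T₀ M] [Module R M] [IsScalarTower R T₀ M] [Module.Finite T₀ M]
    (hflat : Module.Flat R (LocalizedModule P.primeCompl M)) :
    ∃ g : T₀, g ∉ P ∧ Module.FinitePresentation (Localization.Away g) (Localization.Away g ⊗[T₀] M) := by
  have htm : t.comap (algebraMap R T) = maximalIdeal R := by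
    rw [IsScalarTower.algebraMap_eq R T₀ T, ← Ideal.comap_comap, htc, hP]
  have hflat' : Module.Flat R (LocalizedModule t.primeCompl (T ⊗[T₀] M)) := by
    subst htc
    exact flat_localized_away (g := G) T t M hflat
  obtain ⟨h, hh, hfp⟩ := fp_structure_step ih η t htm hηt hη hηm (hdim.away (S₁ := T) G) (T ⊗[T₀] M) hflat'
  let C := Localization.Away h
  obtain ⟨b, hGb, hGbP⟩ := exists_away_trans G T h C
  refine ⟨G * b, fun hm => hGbP t inferInstance hh (by rw [htc]; exact hm), fp_model (G * b) (C := C) ?_⟩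
  exact fp_cancel T hfp

attribute [local instance] Algebra.TensorProduct.rightAlgebra in
/-- a finite module over a smooth algebra, flat at `P` -/
theorem fp_smooth {n : ℕ} (ih : MainFp.{u} n) {R T₀ : Type u} [CommRing R] [HenselianLocalRing R] [CommRing T₀]
    [Algebra R T₀] [Algebra.Smooth R T₀] (P : Ideal T₀) [P.IsPrime]
    (hP : P.comap (algebraMap R T₀) = maximalIdeal R) (hdim : DimLT R T₀ (maximalIdeal R) (n + 1)) (M : Type u)
    [AddCommGroup M] [Module T₀ M] [Module R M] [IsScalarTower R T₀ M] [Module.Finite T₀ M]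
    (hflat : Module.Flat R (LocalizedModule P.primeCompl M)) :
    ∃ g : T₀, g ∉ P ∧ Module.FinitePresentation (Localization.Away g) (Localization.Away g ⊗[T₀] M) := by
  obtain ⟨w, hw, hgen⟩ := exists_generic P hP
  -- a projective basic open
  let T₁ := Localization.Away w
  haveI : Algebra.FinitePresentation T₀ T₁ := IsLocalization.Away.finitePresentation w
  haveI : Algebra.FinitePresentation R T₁ := Algebra.FinitePresentation.trans R T₀ T₁
  haveI : Module.Flat T₀ T₁ := IsLocalization.flat T₁ (Submonoid.powers w)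
  haveI : Module.Flat R T₁ := Module.Flat.trans R T₀ T₁
  have hd : Disjoint (Submonoid.powers w : Set T₀) (P : Set T₀) := by
    rwa [Ideal.disjoint_powers_iff_notMem_of_isPrime]
  haveI hP₁ : (P.map (algebraMap T₀ T₁)).IsPrime := IsLocalization.isPrime_of_isPrime_disjoint _ T₁ P inferInstance hd
  let P₁ := P.map (algebraMap T₀ T₁)
  have hP₁c : P₁.comap (algebraMap T₀ T₁) = P := IsLocalization.comap_map_of_isPrime_disjoint _ T₁ inferInstance hd
  obtain ⟨g₁, hg₁, hproj⟩ := exists_projective_away P₁ (by
      rw [IsScalarTower.algebraMap_eq R T₀ T₁, ← Ideal.comap_comap, hP₁c, hP]) T₁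
    (InjFibre.flat_localized (R := R) (S := T₁) (M := T₁) (M' := LocalizedModule P₁.primeCompl T₁) P₁.primeCompl
      (LocalizedModule.mkLinearMap _ T₁))
  let T := Localization.Away g₁
  haveI := hproj
  haveI : Module.Projective R T :=
    Module.Projective.of_equiv ((AlgebraTensorModule.rid T₁ T T).restrictScalars R)
  haveI : Algebra.FinitePresentation R T :=
    haveI : Algebra.FinitePresentation T₁ T := IsLocalization.Away.finitePresentation g₁
    Algebra.FinitePresentation.trans R T₁ T
  obtain ⟨a, hG, hGP⟩ := exists_away_trans w T₁ g₁ T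
  let G := w * a
  haveI := hG
  have hGP' : G ∉ P := fun h => hGP P₁ hP₁ hg₁ (by rw [hP₁c]; exact h)
  have hdG : Disjoint (Submonoid.powers G : Set T₀) (P : Set T₀) := by
    rwa [Ideal.disjoint_powers_iff_notMem_of_isPrime]
  haveI ht : (P.map (algebraMap T₀ T)).IsPrime := IsLocalization.isPrime_of_isPrime_disjoint _ T P inferInstance hdG
  let t := P.map (algebraMap T₀ T)
  have htc : t.comap (algebraMap T₀ T) = P := IsLocalization.comap_map_of_isPrime_disjoint _ T inferInstance hdG
  obtain ⟨η, _, hηt, hη, hηm⟩ := hgen G T (dvd_mul_right w a) hGP' t htc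
  exact fp_smooth_away ih P hP hdim G T t η htc hηt hη hηm M hflat

attribute [local instance] Algebra.TensorProduct.rightAlgebra in
/-- coordinates with quasi-finite map -/
theorem fp_coord {n : ℕ} (ih : MainFp.{u} n) {R A S : Type u} [CommRing R] [HenselianLocalRing R] [CommRing A]
    [CommRing S] [Algebra R A] [Algebra.Smooth R A] [Algebra R S] [Algebra.FinitePresentation R S] [Algebra A S]
    [IsScalarTower R A S] (q : Ideal S) [q.IsPrime] (hq : q.comap (algebraMap R S) = maximalIdeal R) {s : ℕ}
    (y : Fin s → A)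
    (hfin : (MvPolynomial.aeval fun i => (1 : (maximalIdeal R).ResidueField) ⊗ₜ[R] algebraMap A S (y i) :
      MvPolynomial (Fin s) (maximalIdeal R).ResidueField →ₐ[(maximalIdeal R).ResidueField] (maximalIdeal R).Fiber S).Finite)
    (hdim : DimLT R A (maximalIdeal R) (n + 1)) (N : Type u) [AddCommGroup N] [Module S N] [Module R N]
    [IsScalarTower R S N] [Module.Finite S N] (hflat : Module.Flat R (LocalizedModule q.primeCompl N)) :
    ∃ g : S, g ∉ q ∧ Module.FinitePresentation (Localization.Away g) (Localization.Away g ⊗[S] N) := by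
  let t : Ideal A := q.comap (algebraMap A S)
  haveI : t.IsPrime := Ideal.IsPrime.comap _
  haveI : q.LiesOver t := ⟨rfl⟩
  have htm : t.comap (algebraMap R A) = maximalIdeal R := by
    rw [Ideal.comap_comap, ← IsScalarTower.algebraMap_eq, hq]
  haveI : Algebra.FiniteType A S := Algebra.FiniteType.of_restrictScalars_finiteType R A S
  haveI : Algebra.QuasiFiniteAt A q := quasiFiniteAt_fibre (maximalIdeal R) t htm q y hfin
  obtain ⟨T₀, _, _, _, P, _, hPt, e, he, P', _, hP'P, hP'q, heP', -, hfine, huniq⟩ :=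
    Algebra.exists_etale_isIdempotentElem_forall_liesOver_eq t q
  letI : Algebra R T₀ := ((algebraMap A T₀).comp (algebraMap R A)).toAlgebra
  haveI : IsScalarTower R A T₀ := IsScalarTower.of_algebraMap_eq' rfl
  haveI : Algebra.Smooth R T₀ := Algebra.Smooth.comp R A T₀
  have hPm : P.comap (algebraMap R T₀) = maximalIdeal R := by
    rw [IsScalarTower.algebraMap_eq R A T₀, ← Ideal.comap_comap]
    exact (congrArg (Ideal.comap (algebraMap R A)) hPt.over.symm).trans htm
  let B := T₀ ⊗[A] S
  let S₁ := Localization.Away e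
  haveI : IsScalarTower R S B := IsScalarTower.of_algebraMap_eq fun r => by
    change algebraMap R T₀ r ⊗ₜ[A] (1 : S) = (1 : T₀) ⊗ₜ[A] algebraMap R S r
    rw [IsScalarTower.algebraMap_apply R A T₀, IsScalarTower.algebraMap_apply R A S, Algebra.algebraMap_eq_smul_one,
      Algebra.algebraMap_eq_smul_one (A := S), smul_tmul]
  haveI : IsScalarTower R S S₁ := IsScalarTower.of_algebraMap_eq fun r => by
    rw [IsScalarTower.algebraMap_apply S B S₁, ← IsScalarTower.algebraMap_apply R S B,
      ← IsScalarTower.algebraMap_apply R B S₁]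
  haveI : Algebra.Etale S B := Algebra.Etale.of_equiv (Algebra.TensorProduct.commRight A S T₀)
  haveI : Algebra.Etale B S₁ := Algebra.Etale.of_isLocalizationAway e
  haveI : Algebra.Etale S S₁ := Algebra.Etale.comp S B S₁
  have hd : Disjoint (Submonoid.powers e : Set B) (P' : Set B) := by
    rwa [Ideal.disjoint_powers_iff_notMem_of_isPrime]
  haveI hQ : (P'.map (algebraMap B S₁)).IsPrime := IsLocalization.isPrime_of_isPrime_disjoint _ S₁ P' inferInstance hd
  let q₁ := P'.map (algebraMap B S₁)
  have hQc : q₁.comap (algebraMap B S₁) = P' := IsLocalization.comap_map_of_isPrime_disjoint _ S₁ inferInstance hd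
  have hq₁q : q₁.comap (algebraMap S S₁) = q := by
    rw [IsScalarTower.algebraMap_eq S B S₁, ← Ideal.comap_comap, hQc]
    exact hP'q
  have hq₁P : q₁.comap (algebraMap T₀ S₁) = P := by
    rw [IsScalarTower.algebraMap_eq T₀ B S₁, ← Ideal.comap_comap, hQc]
    exact hP'P.over.symm
  let M := S₁ ⊗[S] N
  have hMflat : Module.Flat R (LocalizedModule q₁.primeCompl M) := by
    haveI : Module.Flat S S₁ := inferInstance
    haveI := hflat
    let L := Localization.AtPrime q₁
    let Sq := Localization.AtPrime q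
    letI : Algebra Sq L := (Localization.localRingHom q q₁ (algebraMap S S₁) hq₁q.symm).toAlgebra
    haveI : IsScalarTower S Sq L := IsScalarTower.of_algebraMap_eq fun x => by
      rw [RingHom.algebraMap_toAlgebra, Localization.localRingHom_to_map, ← IsScalarTower.algebraMap_apply]
    haveI : IsScalarTower R Sq L := IsScalarTower.of_algebraMap_eq fun x => by
      rw [IsScalarTower.algebraMap_apply R S Sq, ← IsScalarTower.algebraMap_apply S Sq L,
        ← IsScalarTower.algebraMap_apply R S L]
    haveI : Module.Flat S L := Module.Flat.trans S S₁ L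
    haveI : Module.Flat Sq L := (Module.flat_iff_of_isLocalization (R := S) (S := Sq) (M := L) q.primeCompl).2 inferInstance
    haveI : Module.Flat R (Sq ⊗[S] N) :=
      Module.Flat.of_linearEquiv ((LocalizedModule.equivTensorProduct q.primeCompl N).restrictScalars R).symm
    haveI : Module.Flat R (L ⊗[Sq] (Sq ⊗[S] N)) := Groth.Agent.FlatRes.flat_tensor
    exact Module.Flat.of_linearEquiv (((LocalizedModule.equivTensorProduct q₁.primeCompl M) ≪≫ₗ
      (AlgebraTensorModule.cancelBaseChange S S₁ L L N) ≪≫ₗ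
      (AlgebraTensorModule.cancelBaseChange S Sq L L N).symm).restrictScalars R)
  haveI := hfine
  have hflatP : Module.Flat R (LocalizedModule P.primeCompl M) := by
    refine flat_unique_prime P q₁ hq₁P (fun Q hQ' hQP => ?_) M hMflat
    haveI := hQ'
    have heQ : e ∉ Q.comap (algebraMap B S₁) := fun hm =>
      hQ'.ne_top (Q.eq_top_of_isUnit_mem hm (IsLocalization.Away.algebraMap_isUnit e))
    have h1 : Q.comap (algebraMap B S₁) = P' := huniq _ (Ideal.IsPrime.comap _)
      ⟨by rw [Ideal.under, Ideal.comap_comap, ← IsScalarTower.algebraMap_eq T₀ B S₁, hQP]⟩ heQ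
    exact congrArg PrimeSpectrum.asIdeal (PrimeSpectrum.localization_comap_injective S₁ (Submonoid.powers e)
      (a₁ := ⟨Q, hQ'⟩) (a₂ := ⟨q₁, hQ⟩) (PrimeSpectrum.ext (h1.trans hQc.symm)))
  haveI : Module.Finite T₀ M := Module.Finite.trans S₁ M
  haveI : Algebra.QuasiFinite A T₀ := inferInstance
  obtain ⟨g, hg, hfp⟩ := fp_smooth ih P hPm (DimLT.quasiFinite (A := A) hdim) M hflatP
  let Tg := Localization.Away g
  let C := Tg ⊗[T₀] S₁
  haveI : Module.Finite Tg C := inferInstance
  have hfpC : Module.FinitePresentation C (C ⊗[S₁] M) := fp_pushout_up (C := Tg) hfp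
  haveI := hfpC
  haveI hlocC : IsLocalization.Away (algebraMap T₀ S₁ g) C := by
    have h := (Algebra.isLocalization_iff_isPushout (Submonoid.powers g) Tg (T := S₁) (B := C)).2
      (Algebra.IsPushout.symm inferInstance)
    rw [Algebra.algebraMapSubmonoid_powers] at h
    exact h
  letI : Algebra S C := ((algebraMap S₁ C).comp (algebraMap S S₁)).toAlgebra
  haveI : IsScalarTower S S₁ C := IsScalarTower.of_algebraMap_eq' rfl
  haveI : Algebra.FinitePresentation S C :=
    haveI : Algebra.FinitePresentation S₁ C := IsLocalization.Away.finitePresentation (algebraMap T₀ S₁ g)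
    Algebra.FinitePresentation.trans S S₁ C
  haveI : Module.Flat S₁ C := IsLocalization.flat C (Submonoid.powers (algebraMap T₀ S₁ g))
  haveI : Module.Flat S C := Module.Flat.trans S S₁ C
  have hdC : Disjoint (Submonoid.powers (algebraMap T₀ S₁ g) : Set S₁) (q₁ : Set S₁) := by
    rw [Ideal.disjoint_powers_iff_notMem_of_isPrime]
    exact fun hm => hg (by rw [← hq₁P]; exact hm)
  haveI : (q₁.map (algebraMap S₁ C)).IsPrime := IsLocalization.isPrime_of_isPrime_disjoint _ C q₁ hQ hdC
  have hCc : (q₁.map (algebraMap S₁ C)).comap (algebraMap S₁ C) = q₁ :=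
    IsLocalization.comap_map_of_isPrime_disjoint _ C hQ hdC
  refine fp_descend (C := C) N ?_ q (q₁.map (algebraMap S₁ C)) ?_
  · exact fp_cancel S₁ hfpC
  · rw [IsScalarTower.algebraMap_eq S S₁ C, ← Ideal.comap_comap, hCc, hq₁q]

theorem exists_noether' {R S : Type u} [CommRing R] [CommRing S] [Algebra R S] [Algebra.FiniteType R S] (p : Ideal R)
    [p.IsPrime] [Nontrivial (p.Fiber S)] {n : ℕ} (hdim : DimLT R S p (n + 1)) :
    ∃ (s : ℕ) (b : Fin s → S), s ≤ n ∧
      (MvPolynomial.aeval fun i => (1 : p.ResidueField) ⊗ₜ[R] b i : MvPolynomial (Fin s) p.ResidueField →ₐ[p.ResidueField] p.Fiber S).Finite := by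
  classical
  let k := p.ResidueField
  let F := p.Fiber S
  haveI : Algebra.FiniteType k F := inferInstance
  obtain ⟨s, g, hginj, hgfin⟩ := exists_finite_inj_algHom_of_fg k F
  let P := MvPolynomial (Fin s) k
  have hdimF : ringKrullDim F ≤ n := (dimLT_iff_ringKrullDim p n).1 hdim
  have hsn : s ≤ n := by
    letI : Algebra P F := g.toRingHom.toAlgebra
    haveI : Module.Finite P F := hgfin
    have h1 := Groth.Agent.SegreDim.ringKrullDim_eq_of_injective_integral (A := P) (B := F) hginj
    rw [← h1, MvPolynomial.ringKrullDim_of_isNoetherianRing, ringKrullDim_eq_zero_of_field, zero_add,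
      Nat.card_fin] at hdimF
    exact_mod_cast hdimF
  choose c hc b hb using fun i : Fin s => exists_scalar (R := R) (p := p) (g (MvPolynomial.X i))
  refine ⟨s, b, hsn, ?_⟩
  let ck : Fin s → k := fun i => algebraMap R k (c i)
  let ψ : P →ₐ[k] P := MvPolynomial.aeval fun i => ck i • MvPolynomial.X i
  have hcomp : (MvPolynomial.aeval fun i => (1 : k) ⊗ₜ[R] b i : P →ₐ[k] F) = g.comp ψ := by
    refine MvPolynomial.algHom_ext fun i => ?_
    rw [AlgHom.comp_apply, MvPolynomial.aeval_X, MvPolynomial.aeval_X, map_smul, hb i]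
  rw [hcomp]
  refine hgfin.comp (RingHom.Finite.of_surjective _ fun x => ?_)
  induction x using MvPolynomial.induction_on with
  | C a => exact ⟨MvPolynomial.C a, ψ.commutes a⟩
  | add a b ha hb =>
    obtain ⟨a', rfl⟩ := ha
    obtain ⟨b', rfl⟩ := hb
    exact ⟨a' + b', map_add _ _ _⟩
  | mul_X a i ha =>
    obtain ⟨a', rfl⟩ := ha
    have hck : ck i ≠ 0 := fun h0 => hc i (Ideal.algebraMap_residueField_eq_zero.1 h0)
    refine ⟨a' * ((ck i)⁻¹ • MvPolynomial.X i), ?_⟩
    change ψ (a' * _) = ψ a' * _
    rw [map_mul, map_smul, MvPolynomial.aeval_X, inv_smul_smul₀ hck]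

/-- the induction step -/
theorem mainFp_succ {n : ℕ} (ih : MainFp.{u} n) : MainFp.{u} (n + 1) := by
  intro R _ _ S _ _ _ q _ N _ _ _ _ _ hq hflat hdim
  haveI : Nontrivial ((maximalIdeal R).Fiber S) :=
    let Q := PrimeSpectrum.preimageEquivFiber R S ⟨maximalIdeal R, inferInstance⟩ ⟨⟨q, ‹_›⟩, PrimeSpectrum.ext hq⟩
    ⟨0, 1, fun h => Q.isPrime.ne_top ((Ideal.eq_top_iff_one _).2 (by rw [← h]; exact zero_mem _))⟩
  obtain ⟨s, b, hsn, hfin⟩ := exists_noether' (maximalIdeal R) hdim
  let A := MvPolynomial (Fin s) R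
  let φ : A →ₐ[R] S := MvPolynomial.aeval b
  letI : Algebra A S := φ.toRingHom.toAlgebra
  haveI : IsScalarTower R A S := IsScalarTower.of_algebraMap_eq fun r => (φ.commutes r).symm
  haveI : Algebra.Smooth R A := ⟨inferInstance, inferInstance⟩
  have hX : ∀ i, algebraMap A S (MvPolynomial.X i) = b i := fun i => MvPolynomial.aeval_X b i
  refine fp_coord ih q hq MvPolynomial.X ?_ ((dimLT_mvPolynomial R (maximalIdeal R) s).mono (by omega)) N hflat
  rw [show (fun i => (1 : (maximalIdeal R).ResidueField) ⊗ₜ[R] algebraMap A S (MvPolynomial.X i)) =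
    fun i => (1 : (maximalIdeal R).ResidueField) ⊗ₜ[R] b i from funext fun i => by rw [hX]]
  exact hfin

theorem mainFp : ∀ n, MainFp.{u} n
  | 0 => fun R _ _ S _ _ _ q hqi N _ _ _ _ _ hq _ hdim =>
    absurd (hdim (RelSeries.singleton _ ⟨⟨q, hqi⟩, hq⟩)) (Nat.not_lt_zero _)
  | n + 1 => mainFp_succ (mainFp n)

/-- over a henselian local ring: flat at a point of the closed fibre implies finitely presented near it -/
theorem fp_of_flat_henselian {R S : Type u} [CommRing R] [HenselianLocalRing R] [CommRing S] [Algebra R S]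
    [Algebra.FinitePresentation R S] (q : Ideal S) [q.IsPrime] (hq : q.comap (algebraMap R S) = maximalIdeal R)
    (N : Type u) [AddCommGroup N] [Module S N] [Module R N] [IsScalarTower R S N] [Module.Finite S N]
    (hflat : Module.Flat R (LocalizedModule q.primeCompl N)) :
    ∃ g : S, g ∉ q ∧ Module.FinitePresentation (Localization.Away g) (Localization.Away g ⊗[S] N) := by
  obtain ⟨m, π, hπ⟩ := Algebra.FiniteType.iff_quotient_mvPolynomial''.1 (inferInstance : Algebra.FiniteType R S)
  letI : Algebra (MvPolynomial (Fin m) R) S := π.toRingHom.toAlgebra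
  haveI : IsScalarTower R (MvPolynomial (Fin m) R) S := IsScalarTower.of_algebraMap_eq fun r => (π.commutes r).symm
  exact mainFp (m + 1) R S q N hq hflat ((dimLT_mvPolynomial R (maximalIdeal R) m).of_comap_injective
    fun Q Q' _ _ _ he => Ideal.comap_injective_of_surjective _ hπ he)

end Groth.Agent.RG.Loc
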