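import Groth.Agent.S3420
import Groth.Agent.GeomRedAt.Scheme
import Groth.Agent.GeomFib.SectionConn
import Groth.Agent.GeomProp.SmoothReg
import Groth.Agent.RegLoc.Order
import Groth.Agent.RG.Pure.GeomInt
import Groth.Agent.RG.Pure.Global

/-!
# Geometrically integral fibres near a section of a smooth algebra
-/

set_option autoImplicit false
set_option linter.style.haveILetI false
set_option backward.isDefEq.respectTransparency false

universe u

open TensorProduct AlgebraicGeometry CategoryTheory
open Groth.Agent.GeomRedAt (GR RingGR)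

namespace Groth.Agent.RG.Loc

theorem isDomain_localization_of_smooth {k B : Type u} [Field k] [CommRing B] [Algebra k B] [Algebra.Smooth k B]
    (Q : Ideal B) [Q.IsPrime] : IsDomain (Localization.AtPrime Q) := by
  haveI := Groth.Agent.GeomProp.isRegularRing_of_smooth k B
  haveI : IsNoetherianRing B := Algebra.FiniteType.isNoetherianRing k B
  haveI : IsRegularLocalRing (Localization.AtPrime Q) := (isRegularRing_iff (R := B)).1 inferInstance Q
  exact Groth.Agent.RegLoc.isDomain (Localization.AtPrime Q)

/-- a basic open inside one connected component of a locally integral Noetherian affine scheme is integral -/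
theorem isDomain_away_of_connected {B : Type u} [CommRing B] [IsNoetherianRing B]
    (hB : ∀ (Q : Ideal B) [Q.IsPrime], IsDomain (Localization.AtPrime Q)) (v : B) (c : PrimeSpectrum B)
    (hcv : v ∉ c.asIdeal) (hcomp : ∀ z : PrimeSpectrum B, v ∉ z.asIdeal → z ∈ connectedComponent c) :
    IsDomain (Localization.Away v) := by
  classical
  have hkill : ∀ (P : Ideal B), P ∈ minimalPrimes B → ∀ (Q : Ideal B) [Q.IsPrime], P ≤ Q →
      ∀ x ∈ P, ∃ s ∉ Q, s * x = 0 := by
    intro P hP Q _ hPQ x hx
    haveI := hB Q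
    let P₀ : Ideal B := RingHom.ker (algebraMap B (Localization.AtPrime Q))
    haveI : P₀.IsPrime := RingHom.ker_isPrime _
    have hle : P₀ ≤ P := fun y hy => by
      obtain ⟨s, hs⟩ := (IsLocalization.map_eq_zero_iff Q.primeCompl (Localization.AtPrime Q) y).1 hy
      haveI := hP.1.1
      exact ((‹P.IsPrime›).mem_or_mem (show (s : B) * y ∈ P by rw [hs]; exact zero_mem _)).resolve_left
        fun h => s.2 (hPQ h)
    have hx₀ : x ∈ P₀ := hP.2 ⟨inferInstance, bot_le⟩ hle hx
    obtain ⟨s, hs⟩ := (IsLocalization.map_eq_zero_iff Q.primeCompl (Localization.AtPrime Q) x).1 hx₀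
    exact ⟨s, s.2, hs⟩
  obtain ⟨P, hP, hPc⟩ := Ideal.exists_minimalPrimes_le (J := c.asIdeal) (I := ⊥) bot_le
  haveI := hP.1.1
  -- `V(P)` is open
  have hopen : IsOpen (PrimeSpectrum.zeroLocus (P : Set B)) := by
    refine isOpen_iff_forall_mem_open.2 fun z hz => ?_
    obtain ⟨G, hG⟩ := IsNoetherian.noetherian P
    choose s hs hs0 using fun x : G => hkill P hP z.asIdeal hz x (hG ▸ Submodule.subset_span x.2)
    let σ := ∏ x : G, s x
    have hσ : σ ∉ z.asIdeal := fun h => by
      obtain ⟨x, -, hx⟩ := z.isPrime.prod_mem_iff.1 h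
      exact hs x hx
    refine ⟨PrimeSpectrum.basicOpen σ, fun w hw => ?_, (PrimeSpectrum.basicOpen σ).isOpen, hσ⟩
    rw [PrimeSpectrum.mem_zeroLocus, SetLike.coe_subset_coe, ← hG, Submodule.span_le]
    intro x hx
    have h0 : σ * x = 0 := by
      obtain ⟨d, hd⟩ := Finset.dvd_prod_of_mem s (Finset.mem_univ (⟨x, hx⟩ : G))
      change σ = _ at hd
      rw [hd, mul_assoc, mul_comm d, ← mul_assoc, hs0, zero_mul]
    exact (w.isPrime.mem_or_mem (show σ * x ∈ w.asIdeal by rw [h0]; exact zero_mem _)).resolve_left hw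
  have hclopen : IsClopen (PrimeSpectrum.zeroLocus (P : Set B)) := ⟨PrimeSpectrum.isClosed_zeroLocus _, hopen⟩
  have hsub := hclopen.connectedComponent_subset (x := c) ((PrimeSpectrum.mem_zeroLocus _ _).2 hPc)
  have hall : ∀ z : PrimeSpectrum B, v ∉ z.asIdeal → P ≤ z.asIdeal := fun z hz => hsub (hcomp z hz)
  let Bv := Localization.Away v
  have hker : ∀ x ∈ P, algebraMap B Bv x = 0 := by
    intro x hx
    rw [IsLocalization.map_eq_zero_iff (Submonoid.powers v) Bv]
    by_contra hcon
    push Not at hcon
    let J : Ideal B := (Submodule.span B {x}).annihilator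
    have hJ : Disjoint (J : Set B) (Submonoid.powers v : Set B) := by
      rw [Set.disjoint_left]
      intro y hy hyv
      exact hcon ⟨y, hyv⟩ ((Submodule.mem_annihilator_span_singleton x y).1 hy)
    obtain ⟨Q, hQ, hJQ, hdis⟩ := Ideal.exists_le_prime_disjoint J _ hJ
    haveI := hQ
    have hvQ : v ∉ Q := fun h => Set.disjoint_left.1 hdis h (Submonoid.mem_powers v)
    obtain ⟨s, hs, hs0⟩ := hkill P hP Q (hall ⟨Q, hQ⟩ hvQ) x hx
    exact hs (hJQ ((Submodule.mem_annihilator_span_singleton x s).2 hs0))
  have hvP : v ∉ P := fun h => hcv (hPc h)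
  haveI : Nontrivial Bv := ⟨0, 1, fun h0 => by
    rw [← map_zero (algebraMap B Bv), ← map_one (algebraMap B Bv),
      IsLocalization.eq_iff_exists (Submonoid.powers v) Bv] at h0
    obtain ⟨⟨_, k, rfl⟩, hk⟩ := h0
    exact hvP ((‹P.IsPrime›).mem_of_pow_mem k (by
      rw [mul_zero, mul_one] at hk
      rw [← show (0 : B) = v ^ k from hk]; exact zero_mem _))⟩
  haveI : NoZeroDivisors Bv := by
    refine ⟨fun {a b} hab => ?_⟩
    obtain ⟨a₀, s, rfl⟩ := IsLocalization.exists_mk'_eq (Submonoid.powers v) a
    obtain ⟨b₀, t, rfl⟩ := IsLocalization.exists_mk'_eq (Submonoid.powers v) b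
    rw [← IsLocalization.mk'_mul, IsLocalization.mk'_eq_zero_iff] at hab
    obtain ⟨⟨_, k, rfl⟩, hk⟩ := hab
    have h : v ^ k * (a₀ * b₀) ∈ P := by rw [show v ^ k * (a₀ * b₀) = 0 from hk]; exact zero_mem _
    have hz : ∀ {y : B} (w : Submonoid.powers v), y ∈ P → IsLocalization.mk' Bv y w = 0 := fun {y} w hy => by
      rw [IsLocalization.mk'_eq_mul_mk'_one, hker y hy, zero_mul]
    rcases (‹P.IsPrime›).mem_or_mem
      (((‹P.IsPrime›).mem_or_mem h).resolve_left fun h => hvP ((‹P.IsPrime›).mem_of_pow_mem k h)) with h | h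
    · exact Or.inl (hz s h)
    · exact Or.inr (hz t h)
  exact NoZeroDivisors.to_isDomain _

theorem mem_connectedComponent_of_mem_sectionComponents {X Y : Scheme.{u}} [Subsingleton Y] (f : X ⟶ Y) (g : Y ⟶ X)
    (x : X) (h : x ∈ MoreMor.sectionComponents f g) (y : Y) : x ∈ connectedComponent (g.base y) := by
  change x ∈ connectedComponentIn (f ⁻¹' {f x}) (g (f x)) at h
  rw [Subsingleton.elim (f x) y] at h
  exact isPreconnected_connectedComponentIn.subset_connectedComponent
    (mem_connectedComponentIn (show g y ∈ f ⁻¹' {y} from Subsingleton.elim (f (g y)) y)) h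

/-- near a section of a smooth algebra the fibres are geometrically integral -/
theorem exists_geomIntegral_open {R T : Type u} [CommRing R] [IsNoetherianRing R] [CommRing T] [Algebra R T]
    [Algebra.Smooth R T] (σ : T →ₐ[R] R) (p : Ideal R) [p.IsPrime] :
    ∃ u : T, σ u ∉ p ∧ ∀ (K : Type u) [Field K] [Algebra R K], algebraMap R K (σ u) ≠ 0 →
      IsDomain (Localization.Away u ⊗[R] K) := by
  let f : Spec (CommRingCat.of T) ⟶ Spec (CommRingCat.of R) := Spec.map (CommRingCat.ofHom (algebraMap R T))
  let g : Spec (CommRingCat.of R) ⟶ Spec (CommRingCat.of T) := Spec.map (CommRingCat.ofHom σ.toRingHom)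
  have hg : g ≫ f = 𝟙 _ := by
    change Spec.map _ ≫ Spec.map _ = _
    rw [← Spec.map_comp, ← CommRingCat.ofHom_comp,
      show σ.toRingHom.comp (algebraMap R T) = RingHom.id R from RingHom.ext fun r => σ.commutes r]
    exact Spec.map_id _
  haveI : LocallyOfFinitePresentation f := (HasRingHomProperty.Spec_iff (P := @LocallyOfFinitePresentation)).2
    (RingHom.finitePresentation_algebraMap.2 inferInstance)
  haveI : Flat f := (HasRingHomProperty.Spec_iff (P := @Flat)).2 (RingHom.flat_algebraMap_iff.2 inferInstance)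
  have hGR : ∀ x : Spec (CommRingCat.of T), GR f x := by
    intro x
    refine (Groth.Agent.GeomRedAt.gr_spec_iff x).2 fun k _ _ P _ _ => ?_
    let e := (Algebra.TensorProduct.comm R k T).toRingEquiv
    let P' : Ideal (k ⊗[R] T) := P.comap e
    haveI := isDomain_localization_of_smooth (k := k) P'
    haveI : P'.IsPrime := Ideal.IsPrime.comap _
    exact isReduced_of_injective
      (IsLocalization.ringEquivOfRingEquiv (Localization.AtPrime P') (Localization.AtPrime P) e
        (e.map_primeCompl_comap_eq P)).symm.toRingHom (RingEquiv.injective _)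
  have hopen : IsOpen (MoreMor.sectionComponents f g) := (Groth.Agent.S3420.result f g hg).2 inferInstance
    fun x _ => (Groth.Agent.GeomRedAt.isGeomReducedAt_iff f x).2 (hGR x)
  have hfg : ∀ y, f.base (g.base y) = y := fun y => Groth.Agent.GeomFib.section_apply f g hg y
  let t : Spec (CommRingCat.of T) := g.base ⟨p, ‹_›⟩
  have ht : t ∈ MoreMor.sectionComponents f g := by
    have h1 : f.base t = ⟨p, ‹_›⟩ := hfg _
    change t ∈ connectedComponentIn (f.base ⁻¹' {f.base t}) (g.base (f.base t))
    rw [h1]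
    exact mem_connectedComponentIn h1
  obtain ⟨_, ⟨u, rfl⟩, htu, hu⟩ :=
    PrimeSpectrum.isTopologicalBasis_basic_opens.exists_subset_of_mem_open ht hopen
  refine ⟨u, htu, fun K _ _ hK => ?_⟩
  let B := T ⊗[R] K
  haveI : Algebra.Smooth K (K ⊗[R] T) := inferInstance
  haveI : IsNoetherianRing (K ⊗[R] T) := Algebra.FiniteType.isNoetherianRing K _
  let e := (Algebra.TensorProduct.comm R K T).toRingEquiv
  haveI : IsNoetherianRing B := isNoetherianRing_of_ringEquiv _ e
  have hB : ∀ (Q : Ideal B) [Q.IsPrime], IsDomain (Localization.AtPrime Q) := fun Q _ => by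
    haveI := isDomain_localization_of_smooth (k := K) (Ideal.comap e Q)
    exact (IsLocalization.ringEquivOfRingEquiv (Localization.AtPrime (Ideal.comap e Q)) (Localization.AtPrime Q) e
      (e.map_primeCompl_comap_eq Q)).symm.toMulEquiv.isDomain
  let inl : CommRingCat.of T ⟶ CommRingCat.of B := CommRingCat.ofHom Algebra.TensorProduct.includeLeftRingHom
  let inr : CommRingCat.of K ⟶ CommRingCat.of B := CommRingCat.ofHom Algebra.TensorProduct.includeRight.toRingHom
  let yK : Spec (CommRingCat.of K) ⟶ Spec (CommRingCat.of R) := Spec.map (CommRingCat.ofHom (algebraMap R K))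
  have hsq : IsPullback (Spec.map inl) (Spec.map inr) f yK :=
    isPullback_SpecMap_of_isPushout _ _ _ _ (CommRingCat.isPushout_tensorProduct R T K)
  let σK : B →ₐ[R] K := Algebra.TensorProduct.lift ((Algebra.ofId R K).comp σ) (AlgHom.id R K) fun _ _ => Commute.all _ _
  let gK : Spec (CommRingCat.of K) ⟶ Spec (CommRingCat.of B) := Spec.map (CommRingCat.ofHom σK.toRingHom)
  have hgK : gK ≫ Spec.map inr = 𝟙 _ := by
    change Spec.map _ ≫ Spec.map _ = _
    rw [← Spec.map_comp, ← CommRingCat.ofHom_comp]
    have : σK.toRingHom.comp Algebra.TensorProduct.includeRight.toRingHom = RingHom.id K :=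
      RingHom.ext fun k => by
        change σK ((1 : T) ⊗ₜ[R] k) = k
        rw [Algebra.TensorProduct.lift_tmul, map_one, one_mul]; rfl
    rw [this]
    exact Spec.map_id _
  have hgKe : gK ≫ Spec.map inl = yK ≫ g := by
    change Spec.map _ ≫ Spec.map _ = Spec.map _ ≫ Spec.map _
    rw [← Spec.map_comp, ← Spec.map_comp, ← CommRingCat.ofHom_comp, ← CommRingCat.ofHom_comp]
    congr 2
    refine RingHom.ext fun x => ?_
    change σK (x ⊗ₜ[R] (1 : K)) = algebraMap R K (σ x)
    rw [Algebra.TensorProduct.lift_tmul, map_one, mul_one]; rfl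
  have hsec := Groth.Agent.GeomFib.sectionComponents_baseChange f g hg hsq hgK hgKe
  let c : PrimeSpectrum B := gK.base ⟨⊥, Ideal.isPrime_bot⟩
  let v : B := u ⊗ₜ 1
  have hcv : v ∉ c.asIdeal := fun h => hK (by
    have h1 : σK v ∈ (⊥ : Ideal K) := h
    rw [Ideal.mem_bot, Algebra.TensorProduct.lift_tmul, map_one, mul_one] at h1
    exact h1)
  have hcomp : ∀ z : PrimeSpectrum B, v ∉ z.asIdeal → z ∈ connectedComponent c := by
    intro z hz
    haveI : Subsingleton (Spec (CommRingCat.of K)) := inferInstanceAs (Subsingleton (PrimeSpectrum K))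
    let z₁ : Spec (CommRingCat.of B) := z
    have h1 : (Spec.map inl).base z₁ ∈ MoreMor.sectionComponents f g := hu hz
    have h2 : z₁ ∈ MoreMor.sectionComponents (Spec.map inr) gK := by
      rw [hsec]
      exact h1
    exact mem_connectedComponent_of_mem_sectionComponents (Spec.map inr) gK z₁ h2 ⟨⊥, Ideal.isPrime_bot⟩
  haveI := isDomain_away_of_connected hB v c hcv hcomp
  let W := Localization.Away u ⊗[T] B
  letI : Algebra B W := Algebra.TensorProduct.rightAlgebra
  haveI : IsLocalization.Away v W := by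
    have h := (Algebra.isLocalization_iff_isPushout (Submonoid.powers u) (Localization.Away u) (T := B) (B := W)).2
      (Algebra.IsPushout.symm inferInstance)
    rw [Algebra.algebraMapSubmonoid_powers] at h
    exact h
  haveI : IsDomain W := (IsLocalization.algEquiv (Submonoid.powers v) W (Localization.Away v)).toRingEquiv.toMulEquiv.isDomain
  exact (Algebra.TensorProduct.cancelBaseChange R T T (Localization.Away u) K).symm.toRingEquiv.toMulEquiv.isDomain

theorem geomIntegralFibres_of_isDomain {A B : Type u} [CommRing A] [CommRing B] [Algebra A B]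
    (h : ∀ (K : Type u) [Field K] [Algebra A K], IsDomain (B ⊗[A] K)) : FlatCA.GeomIntegralFibres A B := by
  refine ⟨fun K _ y Z fst snd hP => ?_⟩
  obtain ⟨φ, rfl⟩ : ∃ φ : CommRingCat.of A ⟶ CommRingCat.of K, y = Spec.map φ := ⟨Spec.preimage y, (Spec.map_preimage y).symm⟩
  letI : Algebra A K := φ.hom.toAlgebra
  haveI := h K
  have h2 : IsPullback (Spec.map (CommRingCat.ofHom (R := B) (S := B ⊗[A] K) Algebra.TensorProduct.includeLeftRingHom))
      (Spec.map (CommRingCat.ofHom (R := K) (S := B ⊗[A] K) Algebra.TensorProduct.includeRight.toRingHom))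
      (Spec.map (CommRingCat.ofHom (algebraMap A B))) (Spec.map φ) :=
    isPullback_SpecMap_of_isPushout _ _ _ _ (CommRingCat.isPushout_tensorProduct A B K)
  haveI : IsIntegral (Spec (CommRingCat.of (B ⊗[A] K))) := inferInstance
  haveI : Nonempty Z := (inferInstance : Nonempty (Spec (CommRingCat.of (B ⊗[A] K)))).map (hP.isoIsPullback _ _ h2).inv.base
  exact isIntegral_of_isOpenImmersion (hP.isoIsPullback _ _ h2).hom

/-- near a section a smooth algebra is projective after localising the base -/
theorem exists_projective_section {R T : Type u} [CommRing R] [IsNoetherianRing R] [CommRing T] [Algebra R T]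
    [Algebra.Smooth R T] (σ : T →ₐ[R] R) (p : Ideal R) [p.IsPrime] :
    ∃ (u : T) (f : R), f = σ u ∧ f ∉ p ∧ (∀ (K : Type u) [Field K] [Algebra R K], algebraMap R K f ≠ 0 →
        IsDomain (Localization.Away u ⊗[R] K)) ∧ ∀ (L : Type u) [CommRing L] [Algebra R L] [IsLocalization.Away f L],
      Module.Projective L (L ⊗[R] Localization.Away u) := by
  obtain ⟨u, hup, hu⟩ := exists_geomIntegral_open σ p
  refine ⟨u, σ u, rfl, hup, hu, fun L _ _ _ => ?_⟩
  let Tu := Localization.Away u
  haveI : Algebra.FinitePresentation R Tu :=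
    haveI : Algebra.FinitePresentation T Tu := IsLocalization.Away.finitePresentation u
    Algebra.FinitePresentation.trans R T Tu
  haveI : Module.Flat T Tu := IsLocalization.flat Tu (Submonoid.powers u)
  haveI : Module.Flat R Tu := Module.Flat.trans R T Tu
  have hg : FlatCA.GeomIntegralFibres L (L ⊗[R] Tu) := geomIntegralFibres_of_isDomain fun K _ _ => by
    letI : Algebra R K := ((algebraMap L K).comp (algebraMap R L)).toAlgebra
    haveI : IsScalarTower R L K := IsScalarTower.of_algebraMap_eq' rfl
    haveI := hu K (by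
      rw [IsScalarTower.algebraMap_apply R L K]
      exact ((IsLocalization.map_units L ⟨σ u, Submonoid.mem_powers _⟩).map (algebraMap L K)).ne_zero)
    exact (((Algebra.TensorProduct.comm L (L ⊗[R] Tu) K).toRingEquiv.trans
      (Algebra.TensorProduct.cancelBaseChange R L L K Tu).toRingEquiv).trans
      (Algebra.TensorProduct.comm R K Tu).toRingEquiv).toMulEquiv.isDomain
  exact Pure.projective_of_pure (B := L ⊗[R] Tu) (L ⊗[R] Tu)
    fun q hq A' B' N' _ _ _ _ _ _ _ _ _ _ _ _ _ _ g t' t _ _ P _ _ => Pure.isUnivPure_of_geomIntegral hg q A' B' N' g t' t P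

end Groth.Agent.RG.Loc
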