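import Groth.Agent.RG.Loc.Dim
import Groth.Agent.RG.Loc.Section
import Groth.Agent.FlatSpread.Fp
import Groth.Agent.FlatRes.FibreFree
import Mathlib.RingTheory.Etale.QuasiFinite

/-!
# Flat modules become projective after an étale localisation: noetherian base
-/

set_option autoImplicit false
set_option linter.style.haveILetI false
set_option backward.isDefEq.respectTransparency false

universe u

open TensorProduct

namespace Groth.Agent.RG.Loc

attribute [local instance] Algebra.TensorProduct.rightAlgebra in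
/-- `S'` finite over `T` which becomes projective with integral fibre after a neighbourhood `L` -/
theorem piece_over_proj {n : ℕ} (ih : Main.{u} n) {R T : Type u} [CommRing R] [IsNoetherianRing R] [CommRing T]
    [Algebra R T] [Algebra.FiniteType R T] (p : Ideal R) [p.IsPrime] (L : Type u) [CommRing L] [Algebra R L]
    (pL : Ideal L) [pL.IsPrime] (hn : FlatCA.IsEtaleNhd R L p pL) [Module.Projective L (L ⊗[R] T)]
    [IsDomain (T ⊗[R] pL.ResidueField)] (hdim : DimLT R T p (n + 1)) (S' : Type u) [CommRing S'] [Algebra R S']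
    [Algebra T S'] [IsScalarTower R T S'] [Module.Finite T S'] (q' : Ideal S') [q'.IsPrime]
    (hq' : q'.comap (algebraMap R S') = p) (N' : Type u) [AddCommGroup N'] [Module S' N'] [Module R N']
    [IsScalarTower R S' N'] [Module.Finite S' N'] [Module.Flat R N'] : EPiece R S' p q' N' := by
  haveI := hn.1
  haveI : IsNoetherianRing L := Algebra.FiniteType.isNoetherianRing R L
  haveI : Algebra.FiniteType R S' := Algebra.FiniteType.trans (S := T) inferInstance inferInstance
  obtain ⟨q'', hq'', hq''p, hq''q⟩ := exists_prime_of_nhd hn q' hq'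
  haveI := hq''
  refine EPiece.of_nhd L hn hq''q ?_
  let T₂ := L ⊗[R] T
  let S₂ := L ⊗[R] S'
  letI : Algebra T₂ S₂ := (Algebra.TensorProduct.map (AlgHom.id L L) (IsScalarTower.toAlgHom R T S')).toRingHom.toAlgebra
  letI : Algebra T S₂ := ((algebraMap S' S₂).comp (algebraMap T S')).toAlgebra
  haveI : IsScalarTower T S' S₂ := IsScalarTower.of_algebraMap_eq' rfl
  obtain ⟨h1, h2⟩ := tower_map R L T S' rfl rfl
  haveI := h1
  haveI := h2
  haveI hpush := isPushout_map R L T S'
  haveI : Module.Finite T₂ S₂ :=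
    Module.Finite.equiv (IsBaseChange.equiv (Algebra.IsPushout.out (R := T) (S := T₂) (R' := S') (S' := S₂)))
  haveI : Module.Flat L (S₂ ⊗[S'] N') :=
    Module.Flat.of_linearEquiv (Algebra.IsPushout.cancelBaseChange R L S' S₂ N')
  -- the generic point of the fibre
  let κ := pL.ResidueField
  haveI : IsDomain (κ ⊗[L] T₂) := ((Algebra.TensorProduct.cancelBaseChange R L L κ T).toRingEquiv.trans
    (Algebra.TensorProduct.comm R κ T).toRingEquiv).toMulEquiv.isDomain
  let ι : T₂ →ₐ[L] κ ⊗[L] T₂ := Algebra.TensorProduct.includeRight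
  let η : Ideal T₂ := RingHom.ker ι.toRingHom
  haveI : η.IsPrime := RingHom.ker_isPrime _
  have hηp : η.comap (algebraMap L T₂) = pL := by
    ext r
    rw [Ideal.mem_comap, RingHom.mem_ker]
    change ι (algebraMap L T₂ r) = 0 ↔ _
    rw [ι.commutes]
    change algebraMap κ (κ ⊗[L] T₂) (algebraMap L κ r) = 0 ↔ _
    rw [map_eq_zero]
    exact Ideal.algebraMap_residueField_eq_zero
  have hη : ∀ x ∈ η, ∃ s ∉ pL, algebraMap L T₂ s * x ∈ pL.map (algebraMap L T₂) := by
    intro x hx
    have h0 : ι.toRingHom x = 0 := RingHom.mem_ker.1 hx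
    obtain ⟨s, hs, hsx⟩ := (RG.one_tmul_eq_zero_iff pL x).1 h0
    rw [Ideal.smul_top_eq_map, Submodule.restrictScalars_mem, Algebra.smul_def] at hsx
    exact ⟨s, hs, hsx⟩
  exact step_piece ih pL η hηp hη (hdim.nhd hn) S₂ q'' hq''p (S₂ ⊗[S'] N')

attribute [local instance] Algebra.TensorProduct.rightAlgebra in
/-- `S'` finite over a smooth algebra with a section through the point -/
theorem piece_over_smooth {n : ℕ} (ih : Main.{u} n) {R T : Type u} [CommRing R] [IsNoetherianRing R] [CommRing T]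
    [Algebra R T] [Algebra.Smooth R T] (σ : T →ₐ[R] R) (p : Ideal R) [p.IsPrime] (hdim : DimLT R T p (n + 1))
    (S' : Type u) [CommRing S'] [Algebra R S'] [Algebra T S'] [IsScalarTower R T S'] [Module.Finite T S']
    (q' : Ideal S') [q'.IsPrime] (hq' : q'.comap (algebraMap T S') = p.comap σ.toRingHom) (N' : Type u)
    [AddCommGroup N'] [Module S' N'] [Module R N'] [IsScalarTower R S' N'] [Module.Finite S' N'] [Module.Flat R N'] :
    EPiece R S' p q' N' := by
  have hq'p : q'.comap (algebraMap R S') = p := by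
    rw [IsScalarTower.algebraMap_eq R T S', ← Ideal.comap_comap, hq', Ideal.comap_comap]
    ext r
    simp
  obtain ⟨u, f, hfu, hf, hdom, hproj⟩ := exists_projective_section σ p
  let Tu := Localization.Away u
  let W := Tu ⊗[T] S'
  let g := algebraMap T S' u
  have hg : g ∉ q' := fun h => hf (by rw [hfu]; exact (hq'.le (Ideal.mem_comap.2 h) :))
  haveI hloc : IsLocalization.Away g W := by
    have h := (Algebra.isLocalization_iff_isPushout (Submonoid.powers u) Tu (T := S') (B := W)).2
      (Algebra.IsPushout.symm inferInstance)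
    rw [Algebra.algebraMapSubmonoid_powers] at h
    exact h
  haveI : IsScalarTower R S' W := IsScalarTower.of_algebraMap_eq fun r => by
    change algebraMap R Tu r ⊗ₜ[T] (1 : S') = (1 : Tu) ⊗ₜ[T] algebraMap R S' r
    rw [IsScalarTower.algebraMap_apply R T Tu, IsScalarTower.algebraMap_apply R T S', Algebra.algebraMap_eq_smul_one,
      Algebra.algebraMap_eq_smul_one (A := S'), smul_tmul]
  haveI : Module.Flat S' W := IsLocalization.flat W (Submonoid.powers g)
  have hd : Disjoint (Submonoid.powers g : Set S') (q' : Set S') := by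
    rwa [Ideal.disjoint_powers_iff_notMem_of_isPrime]
  haveI hQ : (q'.map (algebraMap S' W)).IsPrime := IsLocalization.isPrime_of_isPrime_disjoint _ W q' inferInstance hd
  have hQc : (q'.map (algebraMap S' W)).comap (algebraMap S' W) = q' :=
    IsLocalization.comap_map_of_isPrime_disjoint _ W inferInstance hd
  refine EPiece.of_flat W hQc ?_
  haveI : Algebra.FiniteType R Tu := Algebra.FiniteType.trans (S := T) inferInstance
    (IsLocalization.finiteType_of_monoid_fg (Submonoid.powers u) Tu)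
  haveI : Module.Flat R (W ⊗[S'] N') := Groth.Agent.FlatRes.flat_tensor
  obtain ⟨pL, _, hn⟩ := isEtaleNhd_away (R := R) (p := p) f hf
  haveI := hproj (Localization.Away f)
  haveI : IsDomain (Tu ⊗[R] pL.ResidueField) := hdom _ fun h => hf (by
    rw [← comap_of_isEtaleNhd hn, Ideal.mem_comap]
    rw [IsScalarTower.algebraMap_apply R (Localization.Away f) pL.ResidueField] at h
    exact Ideal.algebraMap_residueField_eq_zero.1 h)
  refine piece_over_proj ih p (Localization.Away f) pL hn (hdim.away (S₁ := Tu) u) W (q'.map (algebraMap S' W)) ?_ (W ⊗[S'] N')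
  rw [IsScalarTower.algebraMap_eq R S' W, ← Ideal.comap_comap, hQc, hq'p]

attribute [local instance] Algebra.TensorProduct.rightAlgebra in
/-- an étale neighbourhood over a section gives one of the base -/
theorem exists_nhd_section {R A T₀ : Type u} [CommRing R] [CommRing A] [CommRing T₀] [Algebra R A] [Algebra A T₀]
    [Algebra R T₀] [IsScalarTower R A T₀] (ε : A →ₐ[R] R) (p : Ideal R) [p.IsPrime] (P : Ideal T₀) [P.IsPrime]
    (hnA : FlatCA.IsEtaleNhd A T₀ (p.comap ε.toRingHom) P) :
    ∃ (R₁ : Type u) (_ : CommRing R₁) (_ : Algebra R R₁) (p₁ : Ideal R₁) (_ : p₁.IsPrime),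
      FlatCA.IsEtaleNhd R R₁ p p₁ ∧ ∃ j : T₀ →ₐ[R] R₁, p₁.comap j.toRingHom = P := by
  letI : Algebra A R := ε.toRingHom.toAlgebra
  haveI : IsScalarTower R A R := IsScalarTower.of_algebraMap_eq fun r => (ε.commutes r).symm
  haveI := hnA.1
  obtain ⟨Q, hQ, hQP, hQp⟩ := exists_prime_of_nhd (S := R) hnA p rfl
  let R₁ := R ⊗[A] T₀
  let cm : R₁ ≃ₐ[A] T₀ ⊗[A] R := Algebra.TensorProduct.comm A R T₀
  let p₁ : Ideal R₁ := Q.comap cm.toRingEquiv.toRingHom
  haveI : p₁.IsPrime := Ideal.IsPrime.comap _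
  have hc : p₁.comap (algebraMap R R₁) = p := by
    rw [← hQp, Ideal.comap_comap]
    rfl
  haveI : Algebra.Etale R R₁ := inferInstance
  have hj : ∀ r : R, (Algebra.TensorProduct.includeRight : T₀ →ₐ[A] R₁) (algebraMap R T₀ r) = algebraMap R R₁ r := by
    intro r
    rw [Algebra.TensorProduct.includeRight_apply, IsScalarTower.algebraMap_apply R A T₀,
      Algebra.algebraMap_eq_smul_one (A := T₀), ← smul_tmul, Algebra.smul_def, mul_one,
      ← IsScalarTower.algebraMap_apply R A R]
    rfl
  let j : T₀ →ₐ[R] R₁ :=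
    { (Algebra.TensorProduct.includeRight : T₀ →ₐ[A] R₁).toRingHom with commutes' := hj }
  refine ⟨R₁, inferInstance, inferInstance, p₁, inferInstance, isEtaleNhd_mk hc fun x => ?_, j, ?_⟩
  · obtain ⟨a, y, ha, hay⟩ := exists_approx hnA (cm x)
    refine ⟨y, ε a, ha, ?_⟩
    have h := (Ideal.map_le_iff_le_comap.2 hQP.ge) hay
    change cm (algebraMap R R₁ (ε a) * x - algebraMap R R₁ y) ∈ Q
    have e1 : cm (algebraMap R R₁ (ε a)) = algebraMap A (T₀ ⊗[A] R) a := by
      rw [← cm.commutes a]
      rfl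
    have e2 : cm (algebraMap R R₁ y) = algebraMap R (T₀ ⊗[A] R) y := rfl
    rwa [map_sub, map_mul, e1, e2]
  · rw [← hQP, Ideal.comap_comap]
    rfl

attribute [local instance] Algebra.TensorProduct.rightAlgebra in
/-- `S₁` finite over an étale algebra over a smooth algebra with a section -/
theorem piece_over_etale {n : ℕ} (ih : Main.{u} n) {R A T₀ : Type u} [CommRing R] [IsNoetherianRing R] [CommRing A]
    [CommRing T₀] [Algebra R A] [Algebra.Smooth R A] [Algebra A T₀] [Algebra R T₀] [IsScalarTower R A T₀]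
    (ε : A →ₐ[R] R) (p : Ideal R) [p.IsPrime] (P : Ideal T₀) [P.IsPrime]
    (hnA : FlatCA.IsEtaleNhd A T₀ (p.comap ε.toRingHom) P) (hdim : DimLT R A p (n + 1)) (S₁ : Type u) [CommRing S₁]
    [Algebra R S₁] [Algebra T₀ S₁] [IsScalarTower R T₀ S₁] [Module.Finite T₀ S₁] (q₁ : Ideal S₁) [q₁.IsPrime]
    (hq₁ : q₁.comap (algebraMap T₀ S₁) = P) (N₁ : Type u) [AddCommGroup N₁] [Module S₁ N₁] [Module R N₁]
    [IsScalarTower R S₁ N₁] [Module.Finite S₁ N₁] [Module.Flat R N₁] : EPiece R S₁ p q₁ N₁ := by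
  haveI := hnA.1
  haveI : Algebra.Smooth R T₀ := Algebra.Smooth.comp R A T₀
  obtain ⟨R₁, _, _, p₁, _, hn, j, hj⟩ := exists_nhd_section ε p P hnA
  haveI := hn.1
  haveI : IsNoetherianRing R₁ := Algebra.FiniteType.isNoetherianRing R R₁
  have hq₁p : q₁.comap (algebraMap R S₁) = p := by
    rw [IsScalarTower.algebraMap_eq R T₀ S₁, ← Ideal.comap_comap, hq₁, ← hj, Ideal.comap_comap]
    rw [show j.toRingHom.comp (algebraMap R T₀) = algebraMap R R₁ from j.comp_algebraMap, comap_of_isEtaleNhd hn]
  obtain ⟨q, hq, hqp, hqq⟩ := exists_prime_of_nhd hn q₁ hq₁p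
  haveI := hq
  refine EPiece.of_nhd R₁ hn hqq ?_
  let T₁ := R₁ ⊗[R] T₀
  let W := R₁ ⊗[R] S₁
  letI : Algebra T₁ W := (Algebra.TensorProduct.map (AlgHom.id R₁ R₁) (IsScalarTower.toAlgHom R T₀ S₁)).toRingHom.toAlgebra
  letI : Algebra T₀ W := ((algebraMap S₁ W).comp (algebraMap T₀ S₁)).toAlgebra
  haveI : IsScalarTower T₀ S₁ W := IsScalarTower.of_algebraMap_eq' rfl
  obtain ⟨h1, h2⟩ := tower_map R R₁ T₀ S₁ rfl rfl
  haveI := h1
  haveI := h2
  haveI hpush := isPushout_map R R₁ T₀ S₁
  haveI : Module.Finite T₁ W :=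
    Module.Finite.equiv (IsBaseChange.equiv (Algebra.IsPushout.out (R := T₀) (S := T₁) (R' := S₁) (S' := W)))
  haveI : Module.Flat R₁ (W ⊗[S₁] N₁) :=
    Module.Flat.of_linearEquiv (Algebra.IsPushout.cancelBaseChange R R₁ S₁ W N₁)
  let σ : T₁ →ₐ[R₁] R₁ := Algebra.TensorProduct.lift (AlgHom.id R₁ R₁) j fun _ _ => Commute.all _ _
  have hdim₁ : DimLT R₁ T₁ p₁ (n + 1) := DimLT.nhd hn (DimLT.quasiFinite (A := A) hdim)
  have hσp : (p₁.comap σ.toRingHom).comap (algebraMap R₁ T₁) = p₁ := by
    rw [Ideal.comap_comap, show σ.toRingHom.comp (algebraMap R₁ T₁) = RingHom.id R₁ from σ.comp_algebraMap,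
      Ideal.comap_id]
  have hσP : (p₁.comap σ.toRingHom).comap (algebraMap T₀ T₁) = P := by
    rw [← hj, Ideal.comap_comap]
    congr 1
    refine RingHom.ext fun x => ?_
    change σ ((1 : R₁) ⊗ₜ x) = j x
    rw [Algebra.TensorProduct.lift_tmul, map_one, one_mul]
  refine piece_over_smooth ih σ p₁ hdim₁ W q ?_ (W ⊗[S₁] N₁)
  have hqT : (q.comap (algebraMap T₁ W)).comap (algebraMap R₁ T₁) = p₁ := by
    rw [Ideal.comap_comap, ← IsScalarTower.algebraMap_eq R₁ T₁ W, hqp]
  ext x
  obtain ⟨c, y, hc, hcy⟩ := exists_approx hn x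
  rw [mem_iff_of_nhd hn hqT hc hcy, mem_iff_of_nhd hn hσp hc hcy, hσP, Ideal.comap_comap,
    ← IsScalarTower.algebraMap_eq T₀ T₁ W, IsScalarTower.algebraMap_eq T₀ S₁ W, ← Ideal.comap_comap, hqq, hq₁]

attribute [local instance] Algebra.TensorProduct.rightAlgebra in
/-- a maximal point of the fibre with coordinates -/
theorem piece_coord {n : ℕ} (ih : Main.{u} n) {R A S : Type u} [CommRing R] [IsNoetherianRing R] [CommRing A]
    [CommRing S] [Algebra R A] [Algebra.Smooth R A] [Algebra R S] [Algebra.FiniteType R S] [Algebra A S]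
    [IsScalarTower R A S] (ε : A →ₐ[R] R) (p : Ideal R) [p.IsPrime] (q : Ideal S) [q.IsPrime]
    (hqA : q.comap (algebraMap A S) = p.comap ε.toRingHom) {s : ℕ} (y : Fin s → A) (hy : ∀ i, ε (y i) = 0)
    (hfin : (MvPolynomial.aeval fun i => (1 : p.ResidueField) ⊗ₜ[R] algebraMap A S (y i) :
      MvPolynomial (Fin s) p.ResidueField →ₐ[p.ResidueField] p.Fiber S).Finite)
    (hdim : DimLT R A p (n + 1)) (N : Type u) [AddCommGroup N] [Module S N] [Module R N] [IsScalarTower R S N]
    [Module.Finite S N] [Module.Flat R N] : EPiece R S p q N := by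
  let t : Ideal A := p.comap ε.toRingHom
  haveI : t.IsPrime := Ideal.IsPrime.comap _
  haveI : q.LiesOver t := ⟨hqA.symm⟩
  have htp : t.comap (algebraMap R A) = p := by
    rw [Ideal.comap_comap, show ε.toRingHom.comp (algebraMap R A) = RingHom.id R from ε.comp_algebraMap, Ideal.comap_id]
  haveI : Algebra.QuasiFiniteAt A q := quasiFiniteAt_origin p t htp q y
    (fun i => by change ε (y i) ∈ p; rw [hy i]; exact zero_mem _)
    (fun a => ⟨ε a, by change ε (a - algebraMap R A (ε a)) ∈ p; rw [map_sub, ε.commutes, Algebra.algebraMap_self,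
      RingHom.id_apply, sub_self]; exact zero_mem _⟩) hfin
  haveI : Algebra.FiniteType A S := Algebra.FiniteType.of_restrictScalars_finiteType R A S
  obtain ⟨T₀, _, _, _, P, _, _, e, he, P', _, hP'P, hP'q, heP', hbij, hfine, -⟩ :=
    Algebra.exists_etale_isIdempotentElem_forall_liesOver_eq t q
  letI : Algebra R T₀ := ((algebraMap A T₀).comp (algebraMap R A)).toAlgebra
  haveI : IsScalarTower R A T₀ := IsScalarTower.of_algebraMap_eq' rfl
  let B := T₀ ⊗[A] S
  let S₁ := Localization.Away e
  haveI : IsScalarTower R S B := IsScalarTower.of_algebraMap_eq fun r => by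
    change algebraMap R T₀ r ⊗ₜ[A] (1 : S) = (1 : T₀) ⊗ₜ[A] algebraMap R S r
    rw [IsScalarTower.algebraMap_apply R A T₀, IsScalarTower.algebraMap_apply R A S, Algebra.algebraMap_eq_smul_one,
      Algebra.algebraMap_eq_smul_one (A := S), smul_tmul]
  haveI : IsScalarTower R S S₁ := IsScalarTower.of_algebraMap_eq fun r => by
    rw [IsScalarTower.algebraMap_apply S B S₁, ← IsScalarTower.algebraMap_apply R S B,
      ← IsScalarTower.algebraMap_apply R B S₁]
  haveI : Module.Flat S B := Module.Flat.isBaseChange A S T₀ B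
    (Algebra.IsPushout.symm (inferInstance : Algebra.IsPushout A T₀ S B)).out
  haveI : Module.Flat B S₁ := IsLocalization.flat S₁ (Submonoid.powers e)
  haveI : Module.Flat S S₁ := Module.Flat.trans S B S₁
  have hd : Disjoint (Submonoid.powers e : Set B) (P' : Set B) := by
    rwa [Ideal.disjoint_powers_iff_notMem_of_isPrime]
  haveI hQ : (P'.map (algebraMap B S₁)).IsPrime := IsLocalization.isPrime_of_isPrime_disjoint _ S₁ P' inferInstance hd
  have hQc : (P'.map (algebraMap B S₁)).comap (algebraMap B S₁) = P' :=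
    IsLocalization.comap_map_of_isPrime_disjoint _ S₁ inferInstance hd
  refine EPiece.of_flat S₁ (q₀ := P'.map (algebraMap B S₁)) ?_ ?_
  · rw [IsScalarTower.algebraMap_eq S B S₁, ← Ideal.comap_comap, hQc]
    exact hP'q
  haveI : Module.Flat R (S₁ ⊗[S] N) := Groth.Agent.FlatRes.flat_tensor
  haveI := hfine
  refine piece_over_etale ih ε p P ⟨inferInstance, ‹_›, hbij⟩ hdim S₁ (P'.map (algebraMap B S₁)) ?_ (S₁ ⊗[S] N)
  rw [IsScalarTower.algebraMap_eq T₀ B S₁, ← Ideal.comap_comap, hQc]
  exact hP'P.over.symm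

/-- a maximal point of the fibre -/
theorem piece_max {n : ℕ} (ih : Main.{u} n) {R S : Type u} [CommRing R] [IsNoetherianRing R] [CommRing S]
    [Algebra R S] [Algebra.FiniteType R S] (p : Ideal R) [p.IsPrime] (q : Ideal S) [q.IsPrime]
    (hq : q.comap (algebraMap R S) = p)
    (hmax : ∀ Q : Ideal S, Q.IsPrime → Q.comap (algebraMap R S) = p → q ≤ Q → Q = q) (hdim : DimLT R S p (n + 1))
    (N : Type u) [AddCommGroup N] [Module S N] [Module R N] [IsScalarTower R S N] [Module.Finite S N]
    [Module.Flat R N] : EPiece R S p q N := by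
  obtain ⟨s, b, hsn, hbq, hfin⟩ := exists_noether p q hq hmax hdim
  let A := MvPolynomial (Fin s) R
  let φ : A →ₐ[R] S := MvPolynomial.aeval b
  letI : Algebra A S := φ.toRingHom.toAlgebra
  haveI : IsScalarTower R A S := IsScalarTower.of_algebraMap_eq fun r => (φ.commutes r).symm
  let ε : A →ₐ[R] R := MvPolynomial.aeval fun _ => 0
  have hX : ∀ i, algebraMap A S (MvPolynomial.X i) = b i := fun i => MvPolynomial.aeval_X b i
  have hdiff : ∀ a : A, φ a - algebraMap R S (ε a) ∈ q := by
    intro a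
    induction a using MvPolynomial.induction_on with
    | C r =>
      change MvPolynomial.aeval b (MvPolynomial.C r) - algebraMap R S (MvPolynomial.aeval _ (MvPolynomial.C r)) ∈ q
      rw [MvPolynomial.aeval_C, MvPolynomial.aeval_C, Algebra.algebraMap_self, RingHom.id_apply, sub_self]
      exact zero_mem _
    | add a b ha hb =>
      rw [map_add, map_add, map_add, show ∀ x y z w : S, x + y - (z + w) = x - z + (y - w) from fun _ _ _ _ => by ring]
      exact add_mem ha hb
    | mul_X a i ha =>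
      rw [map_mul, map_mul, MvPolynomial.aeval_X, MvPolynomial.aeval_X, mul_zero, map_zero, sub_zero]
      exact q.mul_mem_left _ (hbq i)
  have hqA : q.comap (algebraMap A S) = p.comap ε.toRingHom := by
    ext a
    rw [Ideal.mem_comap, Ideal.mem_comap, ← hq, Ideal.mem_comap]
    change φ a ∈ q ↔ algebraMap R S (ε a) ∈ q
    refine ⟨fun h => ?_, fun h => ?_⟩
    · have := sub_mem (h : φ a ∈ q) (hdiff a)
      rwa [sub_sub_cancel] at this
    · have := add_mem (hdiff a) h
      rwa [sub_add_cancel] at this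
  haveI : Algebra.Smooth R A := ⟨inferInstance, inferInstance⟩
  refine piece_coord ih ε p q hqA MvPolynomial.X (fun i => MvPolynomial.aeval_X _ i) ?_
    ((dimLT_mvPolynomial R p s).mono (by omega)) N
  simp_rw [hX]
  exact hfin

theorem exists_flat_away {R S N : Type u} [CommRing R] [IsNoetherianRing R] [CommRing S] [Algebra R S]
    [Algebra.FiniteType R S] [AddCommGroup N] [Module S N] [Module R N] [IsScalarTower R S N] [Module.Finite S N]
    (q : Ideal S) [q.IsPrime] (h : Module.Flat R (LocalizedModule q.primeCompl N)) :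
    ∃ g : S, g ∉ q ∧ Module.Flat R (LocalizedModule (Submonoid.powers g) N) := by
  haveI : Algebra.FinitePresentation R S := Algebra.FinitePresentation.of_finiteType.1 inferInstance
  haveI : IsNoetherianRing S := Algebra.FiniteType.isNoetherianRing R S
  haveI : Module.FinitePresentation S N := Module.finitePresentation_of_finite S N
  obtain ⟨n, m, π, hπ, -, W, hW, ⟨e⟩⟩ := FlatSpread.exists_presentation (R := R) (S := S) (M := N)
  have hcomap : (q.comap π.toRingHom).primeCompl.map π.toRingHom = q.primeCompl := by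
    ext s
    constructor
    · rintro ⟨a, ha, rfl⟩; exact ha
    · intro hs
      obtain ⟨a, rfl⟩ := hπ s
      exact ⟨a, hs, rfl⟩
  obtain ⟨g, hg, hgfl⟩ := FlatSpread.exists_fl_powers hW ((FlatSpread.flat_localized_iff π W e _).1 (hcomap.symm ▸ h))
  refine ⟨π g, hg, ?_⟩
  have := (FlatSpread.flat_localized_iff π W e (Submonoid.powers g)).2 hgfl
  rwa [Submonoid.map_powers] at this

/-- the induction step -/
theorem main_succ {n : ℕ} (ih : Main.{u} n) : Main.{u} (n + 1) := by
  intro R _ _ S _ _ _ p _ q _ N _ _ _ _ _ hq hflat hdim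
  obtain ⟨g, hg, hgflat⟩ := exists_flat_away q hflat
  let S₀ := Localization.Away g
  haveI : Algebra.FiniteType R S₀ := Algebra.FiniteType.trans (S := S) inferInstance
    (IsLocalization.finiteType_of_monoid_fg (Submonoid.powers g) S₀)
  haveI : IsNoetherianRing S₀ := Algebra.FiniteType.isNoetherianRing R S₀
  haveI : Module.Flat R (S₀ ⊗[S] N) :=
    Module.Flat.of_linearEquiv ((LocalizedModule.equivTensorProduct (Submonoid.powers g) N).restrictScalars R).symm
  haveI : Module.Flat S S₀ := IsLocalization.flat S₀ (Submonoid.powers g)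
  have hd : Disjoint (Submonoid.powers g : Set S) (q : Set S) := by
    rwa [Ideal.disjoint_powers_iff_notMem_of_isPrime]
  haveI hq₀ : (q.map (algebraMap S S₀)).IsPrime := IsLocalization.isPrime_of_isPrime_disjoint _ S₀ q inferInstance hd
  have hq₀c : (q.map (algebraMap S S₀)).comap (algebraMap S S₀) = q :=
    IsLocalization.comap_map_of_isPrime_disjoint _ S₀ inferInstance hd
  refine exists_openPiece (EPiece.of_flat S₀ hq₀c (EPiece.of_openPiece ?_))
  let q₀ := q.map (algebraMap S S₀)
  have hq₀p : q₀.comap (algebraMap R S₀) = p := by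
    rw [IsScalarTower.algebraMap_eq R S S₀, ← Ideal.comap_comap, hq₀c, hq]
  -- a maximal point of the fibre above `q`
  obtain ⟨q₁, ⟨hq₁, hq₁p, hle⟩, hmax⟩ := set_has_maximal_iff_noetherian.2 (inferInstance : IsNoetherian S₀ S₀)
    {Q : Ideal S₀ | Q.IsPrime ∧ Q.comap (algebraMap R S₀) = p ∧ q₀ ≤ Q} ⟨q₀, hq₀, hq₀p, le_rfl⟩
  haveI := hq₁
  have hmax' : ∀ Q : Ideal S₀, Q.IsPrime → Q.comap (algebraMap R S₀) = p → q₁ ≤ Q → Q = q₁ := fun Q hQ hQp hQle =>
    (eq_of_le_of_not_lt hQle (hmax Q ⟨hQ, hQp, hle.trans hQle⟩)).symm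
  obtain ⟨R', _, _, p', _, hn, h, q₁', hq₁', hq₁'p, hq₁'q, hh, hproj⟩ :=
    exists_openPiece (piece_max ih p q₁ hq₁p hmax' (hdim.away g) (S₀ ⊗[S] N))
  obtain ⟨q', hq', hq'p, hq'q⟩ := exists_prime_of_nhd hn q₀ hq₀p
  refine ⟨R', inferInstance, inferInstance, p', inferInstance, hn, h, q', hq', hq'p, hq'q, fun hm => hh ?_, hproj⟩
  haveI := hq₁'
  haveI := hq'
  obtain ⟨c, y, hc, hcy⟩ := exists_approx hn h
  refine (mem_iff_of_nhd hn hq₁'p hc hcy).2 ?_
  rw [hq₁'q]
  exact hle (hq'q ▸ (mem_iff_of_nhd hn hq'p hc hcy).1 hm)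

theorem main : ∀ n, Main.{u} n
  | 0 => fun R _ _ S _ _ _ p _ q hqi N _ _ _ _ _ hq _ hdim =>
    absurd (hdim (RelSeries.singleton _ ⟨⟨q, hqi⟩, hq⟩)) (Nat.not_lt_zero _)
  | n + 1 => main_succ (main n)

/-- over a noetherian base: flat at a point implies projective near it after an étale localisation -/
theorem openPiece_of_flat {R S : Type u} [CommRing R] [IsNoetherianRing R] [CommRing S] [Algebra R S]
    [Algebra.FiniteType R S] (p : Ideal R) [p.IsPrime] (q : Ideal S) [q.IsPrime] (hq : q.comap (algebraMap R S) = p)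
    (N : Type u) [AddCommGroup N] [Module S N] [Module R N] [IsScalarTower R S N] [Module.Finite S N]
    (hflat : Module.Flat R (LocalizedModule q.primeCompl N)) : OpenPiece R S p q N := by
  obtain ⟨m, π, hπ⟩ := Algebra.FiniteType.iff_quotient_mvPolynomial''.1 (inferInstance : Algebra.FiniteType R S)
  letI : Algebra (MvPolynomial (Fin m) R) S := π.toRingHom.toAlgebra
  haveI : IsScalarTower R (MvPolynomial (Fin m) R) S := IsScalarTower.of_algebraMap_eq fun r => (π.commutes r).symm
  exact main (m + 1) R S p q N hq hflat ((dimLT_mvPolynomial R p m).of_comap_injective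
    fun Q Q' _ _ _ he => Ideal.comap_injective_of_surjective _ hπ he)

end Groth.Agent.RG.Loc
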