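import Groth.Agent.RG.Loc.Reduce

/-!
# Transport of projective pieces to models of the base change
-/

set_option autoImplicit false
set_option linter.style.haveILetI false
set_option backward.isDefEq.respectTransparency false

universe u

open TensorProduct

namespace Groth.Agent.RG.Loc

theorem projective_restrictScalars {R' C W : Type u} [CommRing R'] [CommRing C] [Algebra R' C] [AddCommGroup W]
    [Module C W] [Module R' W] [IsScalarTower R' C W] (h : Module.Projective R' W) :
    Module.Projective R' (RestrictScalars R' C W) :=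
  haveI := h
  Module.Projective.of_equiv (show W ≃ₗ[R'] RestrictScalars R' C W from
    { (RestrictScalars.addEquiv R' C W).symm with
      map_smul' := fun r w => by
        refine (RestrictScalars.addEquiv R' C W).injective ?_
        simp [RestrictScalars.addEquiv_map_smul, algebraMap_smul] })

/-- the module over a localisation of the base change, for any model -/
theorem exists_equiv_model {S S' C : Type u} [CommRing S] [CommRing S'] [CommRing C] [Algebra S S'] [Algebra S' C]
    [Algebra S C] [IsScalarTower S S' C] {N N' : Type u} [AddCommGroup N] [Module S N] [AddCommGroup N'] [Module S' N']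
    [Module S N'] [IsScalarTower S S' N'] (f : N →ₗ[S] N') (hf : IsBaseChange S' f) :
    Nonempty (C ⊗[S] N ≃ₗ[C] C ⊗[S'] N') :=
  ⟨(AlgebraTensorModule.congr (LinearEquiv.refl C C) hf.equiv.symm ≪≫ₗ
    AlgebraTensorModule.cancelBaseChange S S' C C N).symm⟩

/-- the localisation as an algebra over any model of the base change -/
theorem exists_algebra_model {A S' : Type u} [CommRing A] [CommRing S'] (e : A ≃+* S') (h : A) :
    ∃ ψ : Localization.Away h ≃+* Localization.Away (e h),
      ∀ a, ψ (algebraMap A _ a) = algebraMap S' _ (e a) :=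
  ⟨IsLocalization.ringEquivOfRingEquiv (Localization.Away h) (Localization.Away (e h)) e
    (show (Submonoid.powers h).map e.toMonoidHom = Submonoid.powers (e h) from Submonoid.map_powers _ _), fun a => IsLocalization.ringEquivOfRingEquiv_eq _ a⟩

attribute [local instance] Algebra.TensorProduct.rightAlgebra in
/-- a basic open of `R' ⊗ S` through the point is an étale neighbourhood of `q` -/
theorem isEtaleNhd_open {R R' S : Type u} [CommRing R] [CommRing R'] [CommRing S] [Algebra R R'] [Algebra R S]
    {p : Ideal R} [p.IsPrime] {p' : Ideal R'} [p'.IsPrime] (hn : FlatCA.IsEtaleNhd R R' p p') {q : Ideal S} [q.IsPrime]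
    (hq : q.comap (algebraMap R S) = p) (h : R' ⊗[R] S) (q₀ : Ideal (R' ⊗[R] S)) [q₀.IsPrime]
    (hq₀p : q₀.comap (algebraMap R' (R' ⊗[R] S)) = p') (hq₀q : q₀.comap (algebraMap S (R' ⊗[R] S)) = q) (hh : h ∉ q₀) :
    ∃ (q' : Ideal (Localization.Away h)) (_ : q'.IsPrime), FlatCA.IsEtaleNhd S (Localization.Away h) q q' ∧
      q'.comap (algebraMap R' (Localization.Away h)) = p' := by
  haveI := hn.1
  let A := R' ⊗[R] S
  haveI : Algebra.Etale S A := Algebra.Etale.of_equiv (Algebra.TensorProduct.commRight R S R')
  have hA : FlatCA.IsEtaleNhd S A q q₀ := by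
    refine isEtaleNhd_mk hq₀q fun x => ?_
    obtain ⟨c, y, hc, hcy⟩ := exists_approx hn x
    refine ⟨y, algebraMap R S c, fun hm => hc (by rw [← hq]; exact hm), ?_⟩
    have hcS : algebraMap S A (algebraMap R S c) = algebraMap R A c := by
      change (1 : R') ⊗ₜ[R] algebraMap R S c = algebraMap R R' c ⊗ₜ[R] (1 : S)
      rw [Algebra.algebraMap_eq_smul_one, Algebra.algebraMap_eq_smul_one (A := R'), smul_tmul]
    rw [hcS]
    exact (Ideal.map_le_iff_le_comap.2 hq₀p.ge) hcy
  obtain ⟨q', hq', hn'⟩ := isEtaleNhd_away (R := A) (p := q₀) h hh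
  refine ⟨q', hq', isEtaleNhd_trans hA hn', ?_⟩
  rw [IsScalarTower.algebraMap_eq R' A (Localization.Away h), ← Ideal.comap_comap, comap_of_isEtaleNhd hn', hq₀p]

end Groth.Agent.RG.Loc
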