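import Groth.Agent.RG.Pure.Global

/-!
# Projectivity of localisations of projective modules

A finite module over a finite type algebra which is projective over the base stays projective after
inverting an element acting injectively in every fibre; projectivity descends along faithfully
flat covers of the algebra.
-/

set_option autoImplicit false
set_option linter.style.haveILetI false
set_option backward.isDefEq.respectTransparency false

universe u

open TensorProduct

namespace Groth.Agent.RG.Loc

variable {A B : Type u} [CommRing A] [CommRing B] [Algebra A B]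

theorem ctn_of_projective (N : Type u) [AddCommGroup N] [Module A N] [Module.Projective A N] : Ctn A N := by
  classical
  obtain ⟨j, hj⟩ := Module.projective_def'.1 (inferInstance : Module.Projective A N)
  have hfree : Ctn A (N →₀ A) := by
    intro r x
    let T : Finset N := Finset.univ.biUnion fun i => (x i).support
    let φ : T → (N →₀ A) →ₗ[A] A := fun m => Finsupp.lapply m.1
    refine ⟨Submodule.span A (Set.range fun m i => φ m (x i)), Submodule.fg_span (Set.finite_range _),
      fun V' => content_of_functionals x φ ?_ V'⟩
    refine res_eq_zero_of_span ?_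
    have hx : x = ∑ m : T, fun i => (x i m.1) • Finsupp.single m.1 (1 : A) := by
      funext i
      rw [Finset.sum_apply]
      conv_lhs => rw [← Finsupp.sum_single (x i)]
      rw [Finsupp.sum_of_support_subset _ (Finset.subset_biUnion_of_mem (fun i => (x i).support) (Finset.mem_univ i)) _
        (fun _ _ => Finsupp.single_zero _)]
      refine Eq.trans ?_ (Finset.sum_coe_sort T fun m => x i m • Finsupp.single m (1 : A)).symm
      simp
      rfl
    conv => arg 2; rw [hx]
    exact sum_mem fun m _ => Submodule.subset_span ⟨_, Submodule.subset_span ⟨m, rfl⟩, Finsupp.single m.1 1, rfl⟩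
  refine hfree.of_pure j fun Q _ _ => ?_
  refine Function.LeftInverse.injective (g := (Finsupp.linearCombination A (id : N → N)).rTensor Q) fun z => ?_
  rw [← LinearMap.rTensor_comp_apply, hj, LinearMap.rTensor_id, LinearMap.id_apply]

theorem projective_of_ctn [Algebra.FiniteType A B] (N : Type u) [AddCommGroup N] [Module B N] [Module A N]
    [IsScalarTower A B N] [Module.Finite B N] [Module.Flat A N] (h : Ctn A N) : Module.Projective A N := by
  refine (Groth.Agent.S0584.result A N).2
    ⟨inferInstance, isMittagLeffler_of_ctn h, PUnit, fun _ => ⊤, ?_, fun _ => ?_⟩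
  · convert (DirectSum.isInternal_submodule_iff_iSupIndep_and_iSup_eq_top (fun _ : PUnit => (⊤ : Submodule A N))).2
      ⟨iSupIndep_subsingleton _, iSup_const⟩
  · obtain ⟨s, hs, hspan⟩ := Pure.isCountablyGenerated_of_finiteType (A := A) (B := B) N
    refine ⟨Subtype.val ⁻¹' s, hs.preimage Subtype.val_injective, ?_⟩
    apply Submodule.map_injective_of_injective (⊤ : Submodule A N).injective_subtype
    rw [Submodule.map_span, Submodule.map_subtype_top, show ((⊤ : Submodule A N).subtype : _ → N) = Subtype.val from rfl,
      Set.image_preimage_eq_of_subset (by simp)]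
    exact hspan

/-- descent along a faithfully flat cover -/
theorem projective_of_faithfullyFlat [Algebra.FiniteType A B] (N : Type u) [AddCommGroup N] [Module B N] [Module A N]
    [IsScalarTower A B N] [Module.Finite B N] (W : Type u) [CommRing W] [Algebra B W] [Algebra A W]
    [IsScalarTower A B W] [Module.FaithfullyFlat B W] (h : Module.Projective A (W ⊗[B] N)) :
    Module.Projective A N := by
  haveI := h
  have hj := pure_mk (A := A) (R := B) (X := N) W
  haveI : Module.Flat A N := flat_of_pure _ hj
  exact projective_of_ctn (B := B) N ((ctn_of_projective (A := A) (W ⊗[B] N)).of_pure _ hj)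

/-- localising at an element which acts injectively in all fibres -/
theorem projective_powers [Algebra.FiniteType A B] (N : Type u) [AddCommGroup N] [Module B N] [Module A N]
    [IsScalarTower A B N] [Module.Finite B N] [Module.Projective A N] (g : B)
    (hg : ∀ (t : Ideal A) [t.IsPrime], Function.Injective (Pure.act A t.ResidueField (N := N) g)) :
    Module.Projective A (LocalizedModule (Submonoid.powers g) N) := by
  let Ng := LocalizedModule (Submonoid.powers g) N
  let ι : N →ₗ[B] Ng := LocalizedModule.mkLinearMap (Submonoid.powers g) N
  let μ : N →ₗ[A] N := (LinearMap.lsmul B N g).restrictScalars A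
  have hμ : ∀ (Q : Type u) [AddCommGroup Q] [Module A Q], Function.Injective (μ.rTensor Q) := fun Q _ _ => by
    haveI : Algebra.EssFiniteType A B := inferInstance
    refine rTensor_injective_of_fibres (L := B) μ (fun p hp => ?_) Q
    haveI := hp
    exact hg p
  have hι : ∀ (Q : Type u) [AddCommGroup Q] [Module A Q], Function.Injective ((ι.restrictScalars A).rTensor Q) := by
    intro Q _ _
    rw [injective_iff_map_eq_zero]
    intro z hz
    have hz' : AlgebraTensorModule.rTensor A Q ι z = 0 := hz
    obtain ⟨⟨_, k, rfl⟩, hk⟩ :=
      (IsLocalizedModule.eq_zero_iff (Submonoid.powers g) (AlgebraTensorModule.rTensor A Q ι)).1 hz'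
    have hsm : ∀ w : N ⊗[A] Q, μ.rTensor Q w = g • w := fun w => by
      induction w using TensorProduct.induction_on with
      | zero => simp
      | tmul n q => simp [μ, smul_tmul']
      | add a b ha hb => rw [map_add, smul_add, ha, hb]
    clear hz hz'
    induction k generalizing z with
    | zero => simpa [Submonoid.smul_def] using hk
    | succ k ih =>
      have h1 : g • z = 0 := ih (g • z) (by
        change g ^ k • g • z = 0
        rw [smul_smul, ← pow_succ]
        exact hk)
      exact hμ Q (by rw [hsm, h1, map_zero])
  have hloc : Module.Flat A Ng := InjFibre.flat_localized (Submonoid.powers g) ι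
  refine projective_of_ctn (B := Localization (Submonoid.powers g)) Ng fun r x => ?_
  obtain ⟨s, hs⟩ : ∃ s : Submonoid.powers g, ∀ i, ∃ n : N, s • x i = ι n := by
    classical
    have : ∀ i, ∃ (s : Submonoid.powers g) (n : N), s • x i = ι n := fun i => by
      obtain ⟨⟨n, s⟩, hn⟩ := IsLocalizedModule.surj (Submonoid.powers g) ι (x i)
      exact ⟨s, n, hn⟩
    choose s n hn using this
    refine ⟨∏ i, s i, fun i => ⟨(∏ j ∈ Finset.univ.erase i, s j) • n i, ?_⟩⟩
    rw [← Finset.prod_erase_mul _ _ (Finset.mem_univ i), mul_smul, hn, Submonoid.smul_def, Submonoid.smul_def, map_smul]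
  choose n hn using hs
  let e : Ng →ₗ[A] Ng := (LinearMap.lsmul B Ng (s : B)).restrictScalars A
  have he : Function.Bijective e := (Module.End.isUnit_iff ((algebraMap B (Module.End B Ng)) (s : B))).1 (IsLocalizedModule.map_units ι s)
  obtain ⟨V, hV, hx⟩ := ctn_of_projective (A := A) N r n
  refine ⟨V, hV, fun V' => ?_⟩
  rw [← hx V', ← LinearEquiv.map_eq_zero_iff ((LinearEquiv.ofBijective e he).rTensor _)]
  change e.rTensor _ (res V' x) = 0 ↔ _
  rw [← res_map, show (fun i => e (x i)) = fun i => (ι.restrictScalars A) (n i) from funext fun i => hn i, res_map]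
  exact ⟨fun h0 => hι _ (h0.trans (map_zero _).symm), fun h0 => by rw [h0, map_zero]⟩

end Groth.Agent.RG.Loc
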