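import Groth.Agent.RG.Loc.Common
import Groth.Agent.RG.Pure.Global
import Groth.Agent.RG.Pure.UnivPure
import Groth.Agent.S0585

/-!
# Associated points in fibres: joint regularity, localisation, projectivity from a cover
-/

set_option autoImplicit false
set_option linter.style.haveILetI false
set_option backward.isDefEq.respectTransparency false

universe u

open TensorProduct IsLocalRing

namespace Groth.Agent.RG.Loc

variable {R S N : Type u} [CommRing R] [CommRing S] [Algebra R S] [AddCommGroup N] [Module S N] [Module R N]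
  [IsScalarTower R S N]

theorem act_one (K : Type u) [CommRing K] [Algebra R K] (z : K ⊗[R] N) : Pure.act R K (1 : S) z = z := by
  induction z using TensorProduct.induction_on with
  | zero => simp
  | tmul a n => rw [Pure.act_tmul, one_smul]
  | add a b ha hb => rw [map_add, ha, hb]

/-- jointly regular elements: no associated point contains all of them -/
theorem exists_notMem_of_joint {p : Ideal R} [p.IsPrime] {m : ℕ} (h : Fin m → S)
    (hj : ∀ z : p.ResidueField ⊗[R] N, (∀ i, Pure.act R p.ResidueField (h i) z = 0) → z = 0)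
    {σ : Ideal S} (hσ : σ ∈ assPts R S N p) : ∃ i, h i ∉ σ := by
  classical
  by_contra hcon
  push Not at hcon
  obtain ⟨hprime, -⟩ := isPrime_of_mem_assPts R S N hσ
  obtain ⟨y, hy⟩ := Pure.assAt_of_mem_assPts hσ
  choose k hk using fun i => (hy (h i)).1 (hcon i)
  have hy0 : y ≠ 0 := fun h0 => hprime.ne_top ((Ideal.eq_top_iff_one σ).2 ((hy 1).2 ⟨0, by rw [h0, map_zero]⟩))
  have key : ∀ T : Finset (Fin m), ∃ z : p.ResidueField ⊗[R] N, z ≠ 0 ∧
      (∀ i ∈ T, Pure.act R p.ResidueField (h i) z = 0) ∧
      ∀ i, Pure.act R p.ResidueField (h i ^ k i) z = 0 := by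
    intro T
    induction T using Finset.induction_on with
    | empty => exact ⟨y, hy0, fun i hi => absurd hi (by simp), hk⟩
    | insert a T _ ih =>
      obtain ⟨z, hz, hzT, hzk⟩ := ih
      have hex : ∃ n, Pure.act R p.ResidueField (h a ^ n) z = 0 := ⟨k a, hzk a⟩
      have hn0 : Nat.find hex ≠ 0 := fun h0 => hz (by
        have h1 := Nat.find_spec hex
        rwa [h0, pow_zero, act_one] at h1)
      obtain ⟨n, hn⟩ := Nat.exists_eq_succ_of_ne_zero hn0
      refine ⟨Pure.act R p.ResidueField (h a ^ n) z, Nat.find_min hex (by omega), fun i hi => ?_, fun i => ?_⟩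
      · rcases Finset.mem_insert.1 hi with rfl | hi
        · have h1 := Nat.find_spec hex
          rw [hn, Nat.succ_eq_add_one, pow_succ', Pure.act_mul] at h1
          exact h1
        · rw [← Pure.act_mul, mul_comm, Pure.act_mul, hzT i hi, map_zero]
      · rw [← Pure.act_mul, mul_comm, Pure.act_mul, hzk i, map_zero]
  obtain ⟨z, hz, hzT, -⟩ := key Finset.univ
  exact hz (hj z fun i => hzT i (Finset.mem_univ i))

attribute [local instance] Algebra.TensorProduct.rightAlgebra in
/-- a fibre section killed by `h` has an associated point containing `h` -/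
theorem eq_zero_of_assPts [Algebra.FiniteType R S] [Module.Finite S N] {p : Ideal R} [p.IsPrime] {m : ℕ}
    (h : Fin m → S) (hass : ∀ σ ∈ assPts R S N p, ∃ i, h i ∉ σ) (z : p.ResidueField ⊗[R] N)
    (hz : ∀ i, Pure.act R p.ResidueField (h i) z = 0) : z = 0 := by
  by_contra hne
  let F := p.Fiber S
  haveI : IsNoetherianRing F := Algebra.FiniteType.isNoetherianRing p.ResidueField F
  let eF : F ⊗[S] N ≃ₗ[p.ResidueField] p.ResidueField ⊗[R] N :=
    Algebra.IsPushout.cancelBaseChange R p.ResidueField S F N
  have hnat : ∀ (s : S) (w : F ⊗[S] N), eF (s • w) = Pure.act R p.ResidueField s (eF w) := by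
    intro s w
    obtain ⟨v, rfl⟩ := eF.symm.surjective w
    induction v using TensorProduct.induction_on with
    | zero => simp
    | tmul k n =>
      have h1 : eF.symm (k ⊗ₜ[R] n) = algebraMap p.ResidueField F k ⊗ₜ[S] n :=
        eF.injective (by rw [LinearEquiv.apply_symm_apply, Algebra.algebraMap_eq_smul_one, ← smul_tmul', map_smul, Algebra.IsPushout.cancelBaseChange_tmul, smul_tmul', smul_eq_mul, mul_one])
      rw [LinearEquiv.apply_symm_apply, h1, ← tmul_smul, Algebra.algebraMap_eq_smul_one, ← smul_tmul', map_smul, Algebra.IsPushout.cancelBaseChange_tmul, Pure.act_tmul, smul_tmul', smul_eq_mul, mul_one]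
    | add a b ha hb => rw [map_add, smul_add, map_add, map_add, map_add, ha, hb]
  let w : FlatCA.fiberMod p S N := eF.symm z
  have hw : w ≠ 0 := fun h0 => hne (eF.symm.injective (h0.trans (map_zero eF.symm).symm))
  obtain ⟨P, hP, hle⟩ := exists_le_isAssociatedPrime_of_isNoetherianRing F w hw
  obtain ⟨i, hi⟩ := hass _ ⟨P, hP, rfl⟩
  refine hi (hle (Submodule.mem_colon_singleton.2 ?_))
  rw [Submodule.mem_bot]
  change algebraMap S F (h i) • (eF.symm z : F ⊗[S] N) = 0
  rw [algebraMap_smul]
  exact eF.injective (by rw [hnat, LinearEquiv.apply_symm_apply, hz i, map_zero])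

/-- associated points survive inverting an element outside them -/
theorem assAt_localise {C : Type u} [CommRing C] [Algebra R C] [Algebra S C] [IsScalarTower R S C] (h : S)
    [IsLocalization.Away h C] {K : Type u} [Field K] [Algebra R K] {σ : Ideal S} [σ.IsPrime] (hh : h ∉ σ)
    (hσ : Pure.AssAt R N K σ) : Pure.AssAt R (C ⊗[S] N) K (σ.map (algebraMap S C)) := by
  obtain ⟨y, hy⟩ := hσ
  let g : N →ₗ[S] C ⊗[S] N := TensorProduct.mk S C N 1
  let γ : K ⊗[R] N →ₗ[K] K ⊗[R] (C ⊗[S] N) := AlgebraTensorModule.lTensor K K (g.restrictScalars R)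
  haveI : IsLocalizedModule (Submonoid.powers h) g :=
    (isLocalizedModule_iff_isBaseChange (Submonoid.powers h) C g).2 (TensorProduct.isBaseChange S N C)
  have hcomm : ∀ (s : S) (z : K ⊗[R] N), γ (Pure.act R K s z) = Pure.act R K (algebraMap S C s) (γ z) := by
    intro s z
    induction z using TensorProduct.induction_on with
    | zero => simp
    | tmul a n =>
      rw [Pure.act_tmul, AlgebraTensorModule.lTensor_tmul, AlgebraTensorModule.lTensor_tmul, Pure.act_tmul,
        LinearMap.restrictScalars_apply, LinearMap.restrictScalars_apply, map_smul, algebraMap_smul]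
    | add a b ha hb => rw [map_add, map_add, map_add, map_add, ha, hb]
  have hker : ∀ z : K ⊗[R] N, γ z = 0 → ∃ l : ℕ, Pure.act R K (h ^ l) z = 0 := by
    intro z hz
    let e₁ := TensorProduct.comm R K N
    let e₂ := TensorProduct.comm R K (C ⊗[S] N)
    have hnat : ∀ w, AlgebraTensorModule.rTensor R K g (e₁ w) = e₂ (γ w) := fun w => by
      induction w using TensorProduct.induction_on with
      | zero => simp
      | tmul a n => simp [e₁, e₂, γ]
      | add a b ha hb => simp only [map_add, ha, hb]
    obtain ⟨⟨c, l, rfl⟩, hc⟩ := IsLocalizedModule.exists_of_eq (S := Submonoid.powers h)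
      (f := AlgebraTensorModule.rTensor R K g) (x₁ := e₁ z) (x₂ := 0) (by rw [hnat, hz, map_zero, map_zero])
    rw [smul_zero] at hc
    refine ⟨l, e₁.injective ?_⟩
    rw [map_zero]
    refine Eq.trans ?_ hc
    rw [Submonoid.smul_def]
    clear hz hc
    induction z using TensorProduct.induction_on with
    | zero => simp
    | tmul a n => simp [e₁, Pure.act_tmul, smul_tmul']
    | add a b ha hb => simp only [map_add, smul_add, ha, hb]
  have hd : Disjoint (Submonoid.powers h : Set S) (σ : Set S) := by
    rwa [Ideal.disjoint_powers_iff_notMem_of_isPrime]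
  have hc : (σ.map (algebraMap S C)).comap (algebraMap S C) = σ :=
    IsLocalization.comap_map_of_isPrime_disjoint _ C ‹σ.IsPrime› hd
  have hS : ∀ s : S, algebraMap S C s ∈ σ.map (algebraMap S C) ↔ ∃ k : ℕ, Pure.act R K (algebraMap S C s ^ k) (γ y) = 0 := by
    intro s
    rw [← Ideal.mem_comap, hc, hy]
    simp only [← map_pow, ← hcomm]
    refine ⟨fun ⟨k, hk⟩ => ⟨k, by rw [hk, map_zero]⟩, fun ⟨k, hk⟩ => ?_⟩
    obtain ⟨l, hl⟩ := hker _ hk
    rw [← Pure.act_mul] at hl
    have hmem : h ^ l * s ^ k ∈ σ := (hy _).2 ⟨1, by rwa [pow_one]⟩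
    exact (hy s).1 ((‹σ.IsPrime›).mem_of_pow_mem k (((‹σ.IsPrime›).mem_or_mem hmem).resolve_left
      fun hm => hh ((‹σ.IsPrime›).mem_of_pow_mem l hm)))
  refine ⟨γ y, fun c => ?_⟩
  obtain ⟨k, a, ha⟩ := IsLocalization.Away.surj h c
  have hu : IsUnit (algebraMap S C h ^ k) := (IsLocalization.Away.algebraMap_isUnit h).pow k
  have h1 : c ∈ σ.map (algebraMap S C) ↔ algebraMap S C a ∈ σ.map (algebraMap S C) := by
    rw [← ha]
    exact (Ideal.mul_unit_mem_iff_mem _ hu).symm
  rw [h1, hS]
  refine exists_congr fun j => ?_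
  rw [← ha, mul_pow, mul_comm, Pure.act_mul]
  refine ⟨fun h0 => ?_, fun h0 => by rw [h0, map_zero]⟩
  obtain ⟨v, hv⟩ := hu.pow j
  have h2 := congrArg (Pure.act R K (↑v⁻¹ : C)) h0
  rwa [map_zero, ← Pure.act_mul, ← hv, Units.inv_mul, act_one] at h2

attribute [local instance] Algebra.TensorProduct.rightAlgebra in
/-- the associated points of a module over a henselian ring which are covered by projective pieces meet the closed fibre -/
theorem exists_above_of_piece {H : Type u} [CommRing H] [IsLocalRing H] {S : Type u} [CommRing S] [Algebra H S]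
    (N : Type u) [AddCommGroup N] [Module S N] [Module H N] [IsScalarTower H S N] (h : S)
    (hproj : Module.Projective H (Localization.Away h ⊗[S] N)) (p' : Ideal H) [p'.IsPrime] (σ : Ideal S)
    (hσ : σ ∈ assPts H S N p') (hh : h ∉ σ) :
    ∃ Q : Ideal S, Q.IsPrime ∧ σ ≤ Q ∧ Q.comap (algebraMap H S) = maximalIdeal H := by
  let C := Localization.Away h
  let W := C ⊗[S] N
  let m := maximalIdeal H
  haveI := hproj
  haveI : Module.Projective (Localization.AtPrime m) (LocalizedModule m.primeCompl W) :=
    Module.Projective.of_equiv (LocalizedModule.equivTensorProduct m.primeCompl W).symm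
  have hpure : FlatCA.IsPureAlong H C W m := fun A' B' N' _ _ _ _ _ _ _ _ _ _ _ _ _ _ f t' t _ _ P _ _ =>
    Pure.isUnivPureAlong_of_projective W m A' B' N' f t' t P
  obtain ⟨hprime, -⟩ := isPrime_of_mem_assPts H S N hσ
  haveI := hprime
  have hd : Disjoint (Submonoid.powers h : Set S) (σ : Set S) := by
    rwa [Ideal.disjoint_powers_iff_notMem_of_isPrime]
  haveI : (σ.map (algebraMap S C)).IsPrime := IsLocalization.isPrime_of_isPrime_disjoint _ C σ hprime hd
  have hσC : σ.map (algebraMap S C) ∈ assPts H C W p' :=
    Pure.mem_assPts_of_assAt (K := p'.ResidueField) inferInstance (assAt_localise h hh (Pure.assAt_of_mem_assPts hσ))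
  obtain ⟨Q, hQ, hle, hQm⟩ := Pure.exists_over_of_pure hpure p' (le_maximalIdeal (‹p'.IsPrime›).ne_top) _ hσC
  refine ⟨Q.comap (algebraMap S C), Ideal.IsPrime.comap _, Ideal.map_le_iff_le_comap.1 hle, ?_⟩
  rw [Ideal.comap_comap, ← IsScalarTower.algebraMap_eq H S C, hQm]

attribute [local instance] Algebra.TensorProduct.rightAlgebra in
/-- over a henselian ring above `t`, the base change of a module covered at `t` by projective pieces is projective -/
theorem projective_henselian_of_cover {A A' B H : Type u} [CommRing A] [CommRing A'] [CommRing B] [CommRing H]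
    [HenselianLocalRing H] [Algebra A A'] [Algebra A' H] [Algebra A H] [IsScalarTower A A' H] [Algebra A B]
    [Algebra.FiniteType A B] (N : Type u) [AddCommGroup N] [Module B N] [Module A N] [IsScalarTower A B N]
    [Module.Finite B N] [Module.Flat A N] {m : ℕ} (h : Fin m → A' ⊗[A] B)
    (hproj : ∀ i, Module.Projective A' (Localization.Away (h i) ⊗[B] N)) (t : Ideal A') [t.IsPrime]
    (hH : (maximalIdeal H).comap (algebraMap A' H) = t)
    (hcov : ∀ (t₀ : Ideal A') [t₀.IsPrime], t₀ ≤ t →
      ∀ σ ∈ assPts A' (A' ⊗[A] B) ((A' ⊗[A] B) ⊗[B] N) t₀, ∃ i, h i ∉ σ) :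
    Module.Projective H ((H ⊗[A] B) ⊗[B] N) := by
  classical
  let S := H ⊗[A] B
  let NH := S ⊗[B] N
  haveI : Algebra.FiniteType H S := inferInstance
  haveI : Module.Finite S NH := inferInstance
  haveI : Module.Flat H NH := Module.Flat.of_linearEquiv (Algebra.IsPushout.cancelBaseChange A H B S N)
  let φ : A' →ₐ[A] H := IsScalarTower.toAlgHom A A' H
  let Φ : A' ⊗[A] B →ₐ[A] S := Algebra.TensorProduct.map φ (AlgHom.id A B)
  obtain ⟨-, hctn⟩ := Pure.henselian_core (H := H) (S := S) NH
    (fun Q _ _ => InjFibre.flat_localized Q.primeCompl (LocalizedModule.mkLinearMap Q.primeCompl NH))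
    (fun p' _ σ hσ => by
      obtain ⟨hσp, hσc⟩ := isPrime_of_mem_assPts _ _ _ hσ
      haveI := hσp
      let t' : Ideal A' := p'.comap φ.toRingHom
      have ht' : t' ≤ t := by
        refine (Ideal.comap_mono (le_maximalIdeal (‹p'.IsPrime›).ne_top)).trans ?_
        exact hH.le
      letI : Algebra t'.ResidueField p'.ResidueField := (Ideal.ResidueField.map t' p' φ.toRingHom rfl).toAlgebra
      haveI : IsScalarTower A' t'.ResidueField p'.ResidueField := IsScalarTower.of_algebraMap_eq fun a => by
        rw [RingHom.algebraMap_toAlgebra, Ideal.ResidueField.map_algebraMap, IsScalarTower.algebraMap_apply A' H p'.ResidueField]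
        rfl
      have hσ₁ : σ.comap Φ.toRingHom ∈ assPts A' (A' ⊗[A] B) ((A' ⊗[A] B) ⊗[B] N) t' :=
        Pure.mem_assPts_of_assAt (Ideal.IsPrime.comap _)
          ((Pure.assAt_of_mem_assPts hσ).comap_map φ fun a => (IsScalarTower.algebraMap_apply A' H p'.ResidueField a).symm)
      obtain ⟨i, hi⟩ := hcov t' ht' _ hσ₁
      -- the piece over `H`
      letI : Algebra (A' ⊗[A] B) S := Φ.toRingHom.toAlgebra
      haveI : IsScalarTower B (A' ⊗[A] B) S := IsScalarTower.of_algebraMap_eq fun b => by
        change (1 : H) ⊗ₜ[A] b = Φ ((1 : A') ⊗ₜ[A] b)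
        exact ((Algebra.TensorProduct.map_tmul _ _ _ _).trans (by rw [map_one]; rfl)).symm
      haveI : IsScalarTower A' (A' ⊗[A] B) S := IsScalarTower.of_algebraMap_eq fun a => by
        change algebraMap A' H a ⊗ₜ[A] (1 : B) = Φ (a ⊗ₜ[A] (1 : B))
        exact ((Algebra.TensorProduct.map_tmul _ _ _ _).trans (by rw [map_one]; rfl)).symm
      haveI : IsScalarTower A (A' ⊗[A] B) S := IsScalarTower.of_algebraMap_eq fun a => (Φ.commutes a).symm
      haveI : Algebra.IsPushout A' H (A' ⊗[A] B) S :=
        (Algebra.IsPushout.comp_iff A A' B (A' ⊗[A] B) (T := H) (T' := S)).1 inferInstance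
      have hp : Module.Projective H (Localization.Away (algebraMap (A' ⊗[A] B) S (h i)) ⊗[B] N) :=
        projective_away_baseChange (S₀ := B) (LinearMap.id : N →ₗ[B] N) (IsBaseChange.ofEquiv (LinearEquiv.refl B N))
          (h i) (hproj i)
      haveI := hp
      exact exists_above_of_piece NH (algebraMap (A' ⊗[A] B) S (h i))
        (Module.Projective.of_equiv ((AlgebraTensorModule.cancelBaseChange B S
          (Localization.Away (algebraMap (A' ⊗[A] B) S (h i))) (Localization.Away (algebraMap (A' ⊗[A] B) S (h i))) N).symm.restrictScalars H))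
        p' σ hσ hi)
  exact projective_of_ctn (B := S) NH hctn

attribute [local instance] Algebra.TensorProduct.rightAlgebra in
/-- covered by projective pieces at `t` and all its generisations: projective at the prime below -/
theorem projective_localized_of_cover_aux {A A' B : Type u} [CommRing A] [CommRing A'] [CommRing B] [Algebra A A']
    [Module.Flat A A'] [Algebra A B] [Algebra.FiniteType A B] (N : Type u) [AddCommGroup N] [Module B N] [Module A N]
    [IsScalarTower A B N] [Module.Finite B N] [Module.Flat A N] {m : ℕ} (h : Fin m → A' ⊗[A] B)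
    (hproj : ∀ i, Module.Projective A' (Localization.Away (h i) ⊗[B] N)) (t : Ideal A') [t.IsPrime]
    (hcov : ∀ (t₀ : Ideal A') [t₀.IsPrime], t₀ ≤ t →
      ∀ σ ∈ assPts A' (A' ⊗[A] B) ((A' ⊗[A] B) ⊗[B] N) t₀, ∃ i, h i ∉ σ)
    (s : Ideal A) [s.IsPrime] (hs : t.comap (algebraMap A A') = s) (H : Type u) [CommRing H] [IsLocalRing H]
    [Algebra (Localization.AtPrime t) H] [IsLocalHom (algebraMap (Localization.AtPrime t) H)]
    [Hensel.IsHenselization (Localization.AtPrime t) H] :
    Module.Projective (Localization.AtPrime s) (LocalizedModule s.primeCompl N) := by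
  classical
  let As := Localization.AtPrime s
  let At := Localization.AtPrime t
  haveI : HenselianLocalRing H := Hensel.IsHenselization.henselian (R := At)
  haveI : Module.FaithfullyFlat At H := Groth.Agent.Hensel.henselization_faithfullyFlat At H
  letI : Algebra A' H := ((algebraMap At H).comp (algebraMap A' At)).toAlgebra
  haveI : IsScalarTower A' At H := IsScalarTower.of_algebraMap_eq' rfl
  letI : Algebra A H := ((algebraMap A' H).comp (algebraMap A A')).toAlgebra
  haveI : IsScalarTower A A' H := IsScalarTower.of_algebraMap_eq' rfl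
  let g : As →+* At := Localization.localRingHom s t (algebraMap A A') hs.symm
  letI : Algebra As At := g.toAlgebra
  haveI : IsLocalHom (algebraMap As At) := Localization.isLocalHom_localRingHom s t (algebraMap A A') hs.symm
  letI : Algebra As H := ((algebraMap At H).comp (algebraMap As At)).toAlgebra
  haveI : IsScalarTower As At H := IsScalarTower.of_algebraMap_eq' rfl
  haveI : IsScalarTower A As At := IsScalarTower.of_algebraMap_eq fun a => by
    rw [RingHom.algebraMap_toAlgebra, Localization.localRingHom_to_map, ← IsScalarTower.algebraMap_apply A A' At]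
  haveI : IsScalarTower A As H := IsScalarTower.of_algebraMap_eq fun a => by
    change algebraMap A' H (algebraMap A A' a) = algebraMap At H (algebraMap As At (algebraMap A As a))
    rw [← IsScalarTower.algebraMap_apply A As At, IsScalarTower.algebraMap_apply A A' At]
    rfl
  haveI : Module.Flat A At := Module.Flat.trans A A' At
  haveI : Module.Flat As At := (Module.flat_iff_of_isLocalization (R := A) (S := As) (M := At) s.primeCompl).2 inferInstance
  haveI : Module.FaithfullyFlat As At := @Module.FaithfullyFlat.of_flat_of_isLocalHom As At _ _ _ _ _ _ _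
  haveI : Module.FaithfullyFlat As H := Module.FaithfullyFlat.trans As At H
  have hH : (maximalIdeal H).comap (algebraMap A' H) = t := by
    rw [IsScalarTower.algebraMap_eq A' At H, ← Ideal.comap_comap, maximalIdeal_comap]
    exact Localization.AtPrime.comap_maximalIdeal
  let S := H ⊗[A] B
  let NH := S ⊗[B] N
  haveI : Module.Projective H NH := projective_henselian_of_cover N h hproj t hH hcov
  let Ns := LocalizedModule s.primeCompl N
  let e : H ⊗[As] Ns ≃ₗ[H] NH :=
    ((AlgebraTensorModule.congr (LinearEquiv.refl H H) (LocalizedModule.equivTensorProduct s.primeCompl N)).trans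
      (AlgebraTensorModule.cancelBaseChange A As H H N)).trans
      (Algebra.IsPushout.cancelBaseChange A H B S N).symm
  haveI : Module.Projective H (H ⊗[As] Ns) := Module.Projective.of_equiv e.symm
  exact Groth.Agent.S0585.result As H Ns

attribute [local instance] Algebra.TensorProduct.rightAlgebra in
set_option backward.isDefEq.respectTransparency true in
/-- covered by projective pieces at `t` and all its generisations: projective at the prime below -/
theorem projective_localized_of_cover {A A' B : Type u} [CommRing A] [CommRing A'] [CommRing B] [Algebra A A']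
    [Module.Flat A A'] [Algebra A B] [Algebra.FiniteType A B] (N : Type u) [AddCommGroup N] [Module B N] [Module A N]
    [IsScalarTower A B N] [Module.Finite B N] [Module.Flat A N] {m : ℕ} (h : Fin m → A' ⊗[A] B)
    (hproj : ∀ i, Module.Projective A' (Localization.Away (h i) ⊗[B] N)) (t : Ideal A') [t.IsPrime]
    (hcov : ∀ (t₀ : Ideal A') [t₀.IsPrime], t₀ ≤ t →
      ∀ σ ∈ assPts A' (A' ⊗[A] B) ((A' ⊗[A] B) ⊗[B] N) t₀, ∃ i, h i ∉ σ)
    (s : Ideal A) [s.IsPrime] (hs : t.comap (algebraMap A A') = s) :
    Module.Projective (Localization.AtPrime s) (LocalizedModule s.primeCompl N) := by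
  obtain ⟨hloc, hhens⟩ := Groth.Agent.Hensel.exists_henselization (Localization.AtPrime t)
  haveI := hloc
  haveI := hhens
  exact projective_localized_of_cover_aux N h hproj t hcov s hs
    (Groth.Agent.Hensel.Env (Localization.AtPrime t) (ResidueField (Localization.AtPrime t)))

end Groth.Agent.RG.Loc
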