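import Groth.Agent.RG.Loc.Point
import Mathlib.RingTheory.Etale.Pi

/-!
# Finite products of good pieces
-/

set_option autoImplicit false
set_option linter.style.haveILetI false
set_option backward.isDefEq.respectTransparency false

universe u

open TensorProduct

namespace Groth.Agent.RG.Loc

theorem fp_projective_pi {A B : Type u} [CommRing A] [CommRing B] [Algebra A B] {ι : Type} [Finite ι] (C : ι → Type u)
    [∀ i, CommRing (C i)] [∀ i, Algebra B (C i)] [∀ i, Algebra A (C i)] [∀ i, IsScalarTower A B (C i)] (W : Type u)
    [AddCommGroup W] [Module B W] (hfp : ∀ i, Module.FinitePresentation (C i) (C i ⊗[B] W))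
    (hproj : ∀ i, Module.Projective A (C i ⊗[B] W)) :
    Module.FinitePresentation (∀ i, C i) ((∀ i, C i) ⊗[B] W) ∧ Module.Projective A ((∀ i, C i) ⊗[B] W) := by
  classical
  cases nonempty_fintype ι
  haveI : IsScalarTower A B (∀ i, C i) := IsScalarTower.of_algebraMap_eq fun a => funext fun i =>
    IsScalarTower.algebraMap_apply A B (C i) a
  let D := ∀ i, C i
  let M := D ⊗[B] W
  letI : ∀ i, Algebra D (C i) := fun i => (Pi.evalRingHom C i).toAlgebra
  haveI : ∀ i, IsScalarTower B D (C i) := fun i => IsScalarTower.of_algebraMap_eq fun _ => rfl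
  haveI : ∀ i, IsScalarTower A D (C i) := fun i => IsScalarTower.of_algebraMap_eq fun a => rfl
  have hsurj : ∀ i, Function.Surjective (algebraMap D (C i)) := fun i x =>
    ⟨Pi.single i x, Pi.single_eq_same i x⟩
  haveI : ∀ i, Module.FinitePresentation D (C i) := fun i =>
    Module.finitePresentation_of_surjective (Algebra.linearMap D (C i)) (hsurj i)
      ⟨{1 - Pi.single i 1}, le_antisymm (Submodule.span_le.2 fun x hx => by
          rw [Finset.coe_singleton, Set.mem_singleton_iff] at hx
          subst hx
          change algebraMap D (C i) (1 - Pi.single i 1) = 0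
          change (1 - Pi.single i 1 : D) i = 0
          rw [Pi.sub_apply, Pi.one_apply, Pi.single_eq_same, sub_self]) fun x hx => by
        rw [Finset.coe_singleton, Submodule.mem_span_singleton]
        refine ⟨x, funext fun j => ?_⟩
        by_cases hji : j = i
        · subst hji
          have hx0 : x j = 0 := hx
          rw [smul_eq_mul, Pi.mul_apply, Pi.sub_apply, Pi.one_apply, Pi.single_eq_same, sub_self, mul_zero, hx0]
        · rw [smul_eq_mul, Pi.mul_apply, Pi.sub_apply, Pi.one_apply, Pi.single_eq_of_ne hji, sub_zero, mul_one]⟩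
  let e : M ≃ₗ[D] ∀ i, C i ⊗[D] M := (TensorProduct.lid D M).symm ≪≫ₗ TensorProduct.piLeft D M C
  haveI : ∀ i, Module.FinitePresentation (C i) (C i ⊗[D] M) := fun i =>
    haveI := hfp i
    Module.FinitePresentation.of_equiv (R := C i) (AlgebraTensorModule.cancelBaseChange B D (C i) (C i) W).symm
  haveI : ∀ i, Module.FinitePresentation D (C i ⊗[D] M) := fun i =>
    Module.FinitePresentation.trans (R := D) (M := C i ⊗[D] M) (C i)
  haveI : ∀ i, Module.Projective A (C i ⊗[D] M) := fun i =>
    haveI := hproj i
    Module.Projective.of_equiv ((AlgebraTensorModule.cancelBaseChange B D (C i) (C i) W).symm.restrictScalars A)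
  haveI : Module.Projective A (∀ i, C i ⊗[D] M) :=
    Module.Projective.of_equiv (DFinsupp.linearEquivFunOnFintype (R := A))
  exact ⟨Module.FinitePresentation.of_equiv (R := D) e.symm, Module.Projective.of_equiv (e.symm.restrictScalars A)⟩

end Groth.Agent.RG.Loc
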