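import Groth.Agent.RG.Loc.Nhd
import Mathlib.RingTheory.Flat.Stability
import Mathlib.RingTheory.RingHom.Flat
import Mathlib.RingTheory.RingHom.FiniteType

/-!
# Projective pieces: flat neighbourhoods over an étale neighbourhood with projective module

`EPiece R S p q N`: after an elementary étale neighbourhood `(R', p')` of `p` there is a flat
finite type `R' ⊗ S`-algebra `C` with a point over `q` and `p'` such that `C ⊗ N` is projective over `R'`.
-/

set_option autoImplicit false
set_option linter.style.haveILetI false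
set_option backward.isDefEq.respectTransparency false

universe u

open TensorProduct

namespace Groth.Agent.RG.Loc

/-- the comparison map to an algebra over both factors -/
noncomputable def pieceHom (R R' S C : Type u) [CommRing R] [CommRing R'] [CommRing S] [CommRing C] [Algebra R R']
    [Algebra R S] [Algebra R C] [Algebra R' C] [Algebra S C] [IsScalarTower R R' C] [IsScalarTower R S C] :
    R' ⊗[R] S →ₐ[R'] C :=
  Algebra.TensorProduct.lift (Algebra.ofId R' C) (IsScalarTower.toAlgHom R S C) fun _ _ => Commute.all _ _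

theorem pieceHom_tmul {R R' S C : Type u} [CommRing R] [CommRing R'] [CommRing S] [CommRing C] [Algebra R R']
    [Algebra R S] [Algebra R C] [Algebra R' C] [Algebra S C] [IsScalarTower R R' C] [IsScalarTower R S C]
    (a : R') (s : S) : pieceHom R R' S C (a ⊗ₜ s) = algebraMap R' C a * algebraMap S C s := by
  simp [pieceHom]

/-- flat neighbourhood with projective module over an étale neighbourhood of the base -/
def EPiece (R : Type u) [CommRing R] (S : Type u) [CommRing S] [Algebra R S] (p : Ideal R) [p.IsPrime]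
    (q : Ideal S) (N : Type u) [AddCommGroup N] [Module S N] : Prop :=
  ∃ (R' : Type u) (_ : CommRing R') (_ : Algebra R R') (p' : Ideal R') (_ : p'.IsPrime),
    FlatCA.IsEtaleNhd R R' p p' ∧
    ∃ (C : Type u) (_ : CommRing C) (_ : Algebra R C) (_ : Algebra R' C) (_ : Algebra S C)
      (_ : IsScalarTower R R' C) (_ : IsScalarTower R S C),
      Algebra.FiniteType R' C ∧ (pieceHom R R' S C).toRingHom.Flat ∧ Module.Projective R' (C ⊗[S] N) ∧
      ∃ x : Ideal C, x.IsPrime ∧ x.comap (algebraMap R' C) = p' ∧ x.comap (algebraMap S C) = q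

attribute [local instance] Algebra.TensorProduct.rightAlgebra in
/-- base change of a flat algebra map -/
theorem flat_map_id (R A : Type u) [CommRing R] [CommRing A] [Algebra R A] {S S₀ : Type u} [CommRing S] [CommRing S₀]
    [Algebra R S] [Algebra R S₀] (φ : S →ₐ[R] S₀) (hφ : φ.toRingHom.Flat) :
    (Algebra.TensorProduct.map (AlgHom.id A A) φ : A ⊗[R] S →ₐ[A] A ⊗[R] S₀).toRingHom.Flat := by
  letI : Algebra S S₀ := φ.toRingHom.toAlgebra
  haveI : IsScalarTower R S S₀ := IsScalarTower.of_algebraMap_eq fun r => (φ.commutes r).symm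
  let ψ : A ⊗[R] S →ₐ[A] A ⊗[R] S₀ := Algebra.TensorProduct.map (AlgHom.id A A) φ
  letI : Algebra (A ⊗[R] S) (A ⊗[R] S₀) := ψ.toRingHom.toAlgebra
  haveI : IsScalarTower A (A ⊗[R] S) (A ⊗[R] S₀) := IsScalarTower.of_algebraMap_eq fun a => (ψ.commutes a).symm
  haveI : IsScalarTower R A (A ⊗[R] S₀) := IsScalarTower.of_algebraMap_eq fun r => rfl
  letI : Algebra S (A ⊗[R] S₀) := ((algebraMap S₀ (A ⊗[R] S₀)).comp (algebraMap S S₀)).toAlgebra
  haveI : IsScalarTower S S₀ (A ⊗[R] S₀) := IsScalarTower.of_algebraMap_eq' rfl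
  haveI : IsScalarTower S (A ⊗[R] S) (A ⊗[R] S₀) := IsScalarTower.of_algebraMap_eq fun s => by
    change (1 : A) ⊗ₜ[R] φ s = ψ ((1 : A) ⊗ₜ[R] s)
    simp [ψ]
  haveI : IsScalarTower R (A ⊗[R] S) (A ⊗[R] S₀) := IsScalarTower.of_algebraMap_eq fun r => by
    rw [IsScalarTower.algebraMap_apply R A (A ⊗[R] S), ← IsScalarTower.algebraMap_apply A (A ⊗[R] S) (A ⊗[R] S₀),
      ← IsScalarTower.algebraMap_apply R A (A ⊗[R] S₀)]
  haveI : Algebra.IsPushout R S A (A ⊗[R] S) := inferInstance
  haveI hp : Algebra.IsPushout R S₀ A (A ⊗[R] S₀) := inferInstance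
  haveI := (Algebra.IsPushout.comp_iff R S A (A ⊗[R] S) (T := S₀) (T' := A ⊗[R] S₀)).1 hp
  haveI : Module.Flat S S₀ := hφ
  exact Module.Flat.isBaseChange S (A ⊗[R] S) S₀ (A ⊗[R] S₀)
    (Algebra.IsPushout.symm (inferInstance : Algebra.IsPushout S S₀ (A ⊗[R] S) (A ⊗[R] S₀))).out

attribute [local instance] Algebra.TensorProduct.rightAlgebra in
/-- pieces after an étale neighbourhood of the base give pieces -/
theorem EPiece.of_nhd {R : Type u} [CommRing R] {S : Type u} [CommRing S] [Algebra R S] {p : Ideal R} [p.IsPrime]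
    {q : Ideal S} {N : Type u} [AddCommGroup N] [Module S N] (R₁ : Type u) [CommRing R₁] [Algebra R R₁]
    {p₁ : Ideal R₁} [p₁.IsPrime] (hn : FlatCA.IsEtaleNhd R R₁ p p₁) {q₁ : Ideal (R₁ ⊗[R] S)}
    (hq : q₁.comap (algebraMap S (R₁ ⊗[R] S)) = q) (h : EPiece R₁ (R₁ ⊗[R] S) p₁ q₁ ((R₁ ⊗[R] S) ⊗[S] N)) :
    EPiece R S p q N := by
  obtain ⟨R₂, _, _, p₂, _, hn₂, C, _, _, _, _, _, _, hft, hflat, hproj, x, hx, hxp, hxq⟩ := h
  letI : Algebra R R₂ := ((algebraMap R₁ R₂).comp (algebraMap R R₁)).toAlgebra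
  haveI : IsScalarTower R R₁ R₂ := IsScalarTower.of_algebraMap_eq' rfl
  letI : Algebra R C := ((algebraMap R₁ C).comp (algebraMap R R₁)).toAlgebra
  haveI : IsScalarTower R R₁ C := IsScalarTower.of_algebraMap_eq' rfl
  haveI : IsScalarTower R R₂ C := IsScalarTower.of_algebraMap_eq fun r => by
    rw [IsScalarTower.algebraMap_apply R R₁ C, IsScalarTower.algebraMap_apply R₁ R₂ C, ← IsScalarTower.algebraMap_apply R R₁ R₂]
  letI : Algebra S C := ((algebraMap (R₁ ⊗[R] S) C).comp (algebraMap S (R₁ ⊗[R] S))).toAlgebra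
  haveI : IsScalarTower S (R₁ ⊗[R] S) C := IsScalarTower.of_algebraMap_eq' rfl
  haveI : IsScalarTower R S C := IsScalarTower.of_algebraMap_eq fun r => by
    rw [IsScalarTower.algebraMap_apply S (R₁ ⊗[R] S) C, IsScalarTower.algebraMap_apply R R₁ C,
      IsScalarTower.algebraMap_apply R₁ (R₁ ⊗[R] S) C]
    congr 1
    change algebraMap R R₁ r ⊗ₜ[R] (1 : S) = (1 : R₁) ⊗ₜ[R] algebraMap R S r
    rw [Algebra.algebraMap_eq_smul_one, Algebra.algebraMap_eq_smul_one, smul_tmul]
  refine ⟨R₂, inferInstance, inferInstance, p₂, inferInstance, isEtaleNhd_trans hn hn₂, C, inferInstance,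
    inferInstance, inferInstance, inferInstance, inferInstance, inferInstance, hft, ?_, ?_, x, hx, hxp, ?_⟩
  · let θ : R₂ ⊗[R₁] (R₁ ⊗[R] S) ≃ₐ[R₂] R₂ ⊗[R] S := Algebra.TensorProduct.cancelBaseChange R R₁ R₂ R₂ S
    have hcomp : pieceHom R R₂ S C = (pieceHom R₁ R₂ (R₁ ⊗[R] S) C).comp θ.symm.toAlgHom := by
      refine Algebra.TensorProduct.ext' fun a s => ?_
      have : θ.symm (a ⊗ₜ s) = a ⊗ₜ ((1 : R₁) ⊗ₜ s) := rfl
      simp only [AlgHom.comp_apply, AlgEquiv.toAlgHom_eq_coe, AlgHom.coe_coe, this, pieceHom_tmul]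
      rfl
    rw [hcomp]
    exact RingHom.Flat.comp (RingHom.Flat.of_bijective (f := θ.symm.toAlgHom.toRingHom) θ.symm.bijective) hflat
  · haveI := hproj
    exact Module.Projective.of_equiv
      ((AlgebraTensorModule.cancelBaseChange S (R₁ ⊗[R] S) C C N).restrictScalars R₂)
  · rw [IsScalarTower.algebraMap_eq S (R₁ ⊗[R] S) C, ← Ideal.comap_comap, hxq, hq]

/-- pieces of a flat algebra give pieces -/
theorem EPiece.of_flat {R : Type u} [CommRing R] {S : Type u} [CommRing S] [Algebra R S] {p : Ideal R} [p.IsPrime]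
    {q : Ideal S} {N : Type u} [AddCommGroup N] [Module S N] (S₀ : Type u) [CommRing S₀] [Algebra R S₀] [Algebra S S₀]
    [IsScalarTower R S S₀] [Module.Flat S S₀] {q₀ : Ideal S₀} (hq : q₀.comap (algebraMap S S₀) = q)
    (h : EPiece R S₀ p q₀ (S₀ ⊗[S] N)) : EPiece R S p q N := by
  obtain ⟨R₂, _, _, p₂, _, hn₂, C, _, _, _, _, _, _, hft, hflat, hproj, x, hx, hxp, hxq⟩ := h
  letI : Algebra S C := ((algebraMap S₀ C).comp (algebraMap S S₀)).toAlgebra
  haveI : IsScalarTower S S₀ C := IsScalarTower.of_algebraMap_eq' rfl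
  haveI : IsScalarTower R S C := IsScalarTower.of_algebraMap_eq fun r => by
    rw [IsScalarTower.algebraMap_apply S S₀ C, ← IsScalarTower.algebraMap_apply R S S₀, ← IsScalarTower.algebraMap_apply]
  refine ⟨R₂, inferInstance, inferInstance, p₂, inferInstance, hn₂, C, inferInstance,
    inferInstance, inferInstance, inferInstance, inferInstance, inferInstance, hft, ?_, ?_, x, hx, hxp, ?_⟩
  · have hcomp : pieceHom R R₂ S C =
        (pieceHom R R₂ S₀ C).comp (Algebra.TensorProduct.map (AlgHom.id R₂ R₂) (IsScalarTower.toAlgHom R S S₀)) := by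
      refine Algebra.TensorProduct.ext' fun a s => ?_
      simp only [AlgHom.comp_apply, Algebra.TensorProduct.map_tmul, pieceHom_tmul]
      rfl
    rw [hcomp]
    exact RingHom.Flat.comp (flat_map_id R R₂ (IsScalarTower.toAlgHom R S S₀) (RingHom.flat_algebraMap_iff.2 ‹_›)) hflat
  · haveI := hproj
    exact Module.Projective.of_equiv
      ((AlgebraTensorModule.cancelBaseChange S S₀ C C N).restrictScalars R₂)
  · rw [IsScalarTower.algebraMap_eq S S₀ C, ← Ideal.comap_comap, hxq, hq]

end Groth.Agent.RG.Loc
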