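import Groth.Agent.RG.Loc.FiniteModels

/-!
# The point over `q` and the closed point, on a model
-/

set_option autoImplicit false
set_option linter.style.haveILetI false
set_option backward.isDefEq.respectTransparency false

universe u

open TensorProduct IsLocalRing

namespace Groth.Agent.RG.Loc

/-- fractions from below give a bijection of residue fields -/
theorem residue_bijective {S B : Type u} [CommRing S] [CommRing B] [Algebra S B] (q : Ideal S) [q.IsPrime] (Q : Ideal B)
    [Q.IsPrime] (hc : q = Q.comap (algebraMap S B))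
    (happ : ∀ x : B, ∃ r s : S, s ∉ q ∧ algebraMap S B s * x - algebraMap S B r ∈ Q) :
    Function.Bijective (Ideal.ResidueField.mapₐ q Q (Algebra.ofId S B) hc) := by
  let φ := Ideal.ResidueField.mapₐ q Q (Algebra.ofId S B) hc
  refine ⟨φ.injective, fun y => ?_⟩
  have hφ : ∀ r : S, φ (algebraMap S q.ResidueField r) = algebraMap B Q.ResidueField (algebraMap S B r) := fun r => by
    rw [φ.commutes, IsScalarTower.algebraMap_apply S B Q.ResidueField]
  obtain ⟨a, b, hb, hab⟩ := exists_frac_residue (p := Q) y
  obtain ⟨ra, sa, hsa, ha⟩ := happ a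
  obtain ⟨rb, sb, hsb, hb'⟩ := happ b
  have hr : ∀ {x : B} {r s : S}, algebraMap S B s * x - algebraMap S B r ∈ Q →
      φ (algebraMap S _ s) * algebraMap B Q.ResidueField x = φ (algebraMap S _ r) := fun {x r s} h => by
    rw [hφ, hφ, ← map_mul, ← sub_eq_zero, ← map_sub]
    exact Ideal.algebraMap_residueField_eq_zero.2 h
  have hne : ∀ {s : S}, s ∉ q → φ (algebraMap S _ s) ≠ 0 := fun {s} hs h => hs (by
    rw [map_eq_zero] at h
    exact Ideal.algebraMap_residueField_eq_zero.1 h)
  have hb0 : algebraMap B Q.ResidueField b ≠ 0 := fun h => hb (Ideal.algebraMap_residueField_eq_zero.1 h)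
  refine ⟨algebraMap S _ (sb * ra) / algebraMap S _ (sa * rb), ?_⟩
  change φ _ = y
  rw [map_div₀, map_mul, map_mul, map_mul, map_mul, ← hr ha, ← hr hb', ← hab,
    div_eq_iff (mul_ne_zero (hne hsa) (mul_ne_zero (hne hsb) hb0))]
  ring

/-- the point of a model over `q` and the closed point, with the residue field of `q` -/
theorem exists_point_model {R S R' : Type u} [CommRing R] [CommRing S] [CommRing R'] [Algebra R S] [Algebra R R']
    {p : Ideal R} [p.IsPrime] {p' : Ideal R'} [p'.IsPrime] (hn : FlatCA.IsEtaleNhd R R' p p') (q : Ideal S) [q.IsPrime]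
    (hq : q.comap (algebraMap R S) = p) (SA : Type u) [CommRing SA] [Algebra R SA] [Algebra S SA]
    [Algebra (Localization.AtPrime p') SA] [IsScalarTower R S SA] [IsScalarTower R (Localization.AtPrime p') SA]
    [Algebra.IsPushout R S (Localization.AtPrime p') SA] :
    ∃ Q : Ideal SA, Q.IsPrime ∧ Q.comap (algebraMap S SA) = q ∧
      Q.comap (algebraMap (Localization.AtPrime p') SA) = maximalIdeal (Localization.AtPrime p') ∧
      ∀ x : SA, ∃ r s : S, s ∉ q ∧ algebraMap S SA s * x - algebraMap S SA r ∈ Q := by
  let A := Localization.AtPrime p'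
  obtain ⟨-, hl, hbij⟩ := hn
  let μ := Ideal.ResidueField.mapₐ p p' (Algebra.ofId R R') hl.over
  let ρ : A →ₐ[R] q.ResidueField := ((Ideal.ResidueField.mapₐ p q (Algebra.ofId R S) hq.symm).comp
    (AlgEquiv.ofBijective μ hbij).symm.toAlgHom).comp (IsScalarTower.toAlgHom R A p'.ResidueField)
  haveI : Algebra.IsPushout R A S SA := Algebra.IsPushout.symm inferInstance
  let e : A ⊗[R] S ≃ₐ[A] SA := Algebra.IsPushout.equiv R A S SA
  let ψ₀ : A ⊗[R] S →ₐ[R] q.ResidueField :=
    Algebra.TensorProduct.lift ρ (IsScalarTower.toAlgHom R S q.ResidueField) fun _ _ => Commute.all _ _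
  let ψ : SA →+* q.ResidueField := ψ₀.toRingHom.comp e.symm.toRingEquiv.toRingHom
  have hψS : ∀ s, ψ (algebraMap S SA s) = algebraMap S q.ResidueField s := fun s => by
    change ψ₀ (e.symm (algebraMap S SA s)) = _
    have : e ((1 : A) ⊗ₜ s) = algebraMap S SA s :=
      (Algebra.IsPushout.equiv_tmul (R := R) (S := A) (R' := S) (S' := SA) 1 s).trans (by rw [map_one, one_mul])
    rw [← this, e.symm_apply_apply, Algebra.TensorProduct.lift_tmul, map_one, one_mul]
    rfl
  have hψA : ∀ a, ψ (algebraMap A SA a) = ρ a := fun a => by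
    change ψ₀ (e.symm (algebraMap A SA a)) = _
    rw [e.symm.commutes, Algebra.TensorProduct.algebraMap_apply, Algebra.TensorProduct.lift_tmul, map_one, mul_one]
    rfl
  refine ⟨RingHom.ker ψ, RingHom.ker_isPrime _, ?_, ?_, fun x => ?_⟩
  · ext s
    rw [Ideal.mem_comap, RingHom.mem_ker, hψS, Ideal.algebraMap_residueField_eq_zero]
  · ext a
    rw [Ideal.mem_comap, RingHom.mem_ker, hψA]
    simp only [ρ, AlgHom.comp_apply]
    rw [map_eq_zero]
    refine (map_eq_zero_iff _ (AlgEquiv.injective _)).trans ?_
    exact residue_eq_zero_iff a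
  · obtain ⟨r, s, hs, hrs⟩ := exists_frac_residue (p := q) (ψ x)
    refine ⟨r, s, hs, ?_⟩
    rw [RingHom.mem_ker, map_sub, map_mul, hψS, hψS, hrs, sub_self]

/-- the point of a basic open -/
theorem exists_point_away {S B : Type u} [CommRing S] [CommRing B] [Algebra S B] (q : Ideal S) [q.IsPrime] (Q : Ideal B)
    [Q.IsPrime] (hc : Q.comap (algebraMap S B) = q)
    (happ : ∀ x : B, ∃ r s : S, s ∉ q ∧ algebraMap S B s * x - algebraMap S B r ∈ Q) (g : B) (hg : g ∉ Q) :
    ∃ (x' : Ideal (Localization.Away g)) (_ : x'.IsPrime) (hx : x'.LiesOver q),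
      x'.comap (algebraMap B (Localization.Away g)) = Q ∧
      Function.Bijective (Ideal.ResidueField.mapₐ q x' (Algebra.ofId S (Localization.Away g)) hx.over) := by
  let C := Localization.Away g
  have hd : Disjoint (Submonoid.powers g : Set B) (Q : Set B) := by
    rwa [Ideal.disjoint_powers_iff_notMem_of_isPrime]
  haveI hP : (Q.map (algebraMap B C)).IsPrime := IsLocalization.isPrime_of_isPrime_disjoint _ C Q inferInstance hd
  have hc' : (Q.map (algebraMap B C)).comap (algebraMap B C) = Q :=
    IsLocalization.comap_map_of_isPrime_disjoint _ C inferInstance hd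
  have hx : q = (Q.map (algebraMap B C)).comap (algebraMap S C) := by
    rw [IsScalarTower.algebraMap_eq S B C, ← Ideal.comap_comap, hc', hc]
  refine ⟨Q.map (algebraMap B C), hP, ⟨hx⟩, hc', residue_bijective q _ hx fun z => ?_⟩
  obtain ⟨k, a, ha⟩ := IsLocalization.Away.surj g z
  obtain ⟨ra, sa, hsa, hra⟩ := happ a
  obtain ⟨rd, sd, hsd, hrd⟩ := happ (g ^ k)
  have hrdq : rd ∉ q := fun hm => by
    have h1 : algebraMap S B rd ∈ Q := by rw [← Ideal.mem_comap, hc]; exact hm
    have h2 := add_mem hrd h1
    rw [sub_add_cancel] at h2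
    rcases ‹Q.IsPrime›.mem_or_mem h2 with h | h
    · exact hsd (by rw [← hc]; exact h)
    · exact hg (‹Q.IsPrime›.mem_of_pow_mem k h)
  refine ⟨sd * ra, sa * rd, (‹q.IsPrime›).mul_notMem hsa hrdq, ?_⟩
  have ha' : z * algebraMap B C (g ^ k) = algebraMap B C a := by rw [map_pow]; simpa using ha
  have e : algebraMap S C (sa * rd) * z - algebraMap S C (sd * ra) =
      algebraMap S C sd * algebraMap B C (algebraMap S B sa * a - algebraMap S B ra) -
      algebraMap S C sa * z * algebraMap B C (algebraMap S B sd * g ^ k - algebraMap S B rd) := by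
    simp only [map_mul, map_sub, ← IsScalarTower.algebraMap_apply, ← ha']
    ring
  rw [e]
  exact sub_mem (Ideal.mul_mem_left _ _ (Ideal.mem_map_of_mem _ hra)) (Ideal.mul_mem_left _ _ (Ideal.mem_map_of_mem _ hrd))

/-- finite type on a model -/
theorem finiteType_model {R A S SA : Type u} [CommRing R] [CommRing A] [CommRing S] [CommRing SA] [Algebra R A]
    [Algebra R S] [Algebra.FiniteType R S] [Algebra R SA] [Algebra S SA] [Algebra A SA] [IsScalarTower R S SA]
    [IsScalarTower R A SA] [Algebra.IsPushout R S A SA] (g : SA) : Algebra.FiniteType A (Localization.Away g) := by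
  haveI : Algebra.IsPushout R A S SA := Algebra.IsPushout.symm inferInstance
  haveI : Algebra.FiniteType A SA := Algebra.FiniteType.equiv inferInstance (Algebra.IsPushout.equiv R A S SA)
  haveI : Algebra.FiniteType SA (Localization.Away g) :=
    IsLocalization.finiteType_of_monoid_fg (Submonoid.powers g) (Localization.Away g)
  exact Algebra.FiniteType.trans ((inferInstance : Algebra.FiniteType A SA)) ((inferInstance : Algebra.FiniteType SA (Localization.Away g)))

/-- finite presentation on a model -/
theorem fp_algebra_model {R A S SA : Type u} [CommRing R] [CommRing A] [CommRing S] [CommRing SA] [Algebra R A]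
    [Algebra R S] [Algebra.FinitePresentation R S] [Algebra R SA] [Algebra S SA] [Algebra A SA] [IsScalarTower R S SA]
    [IsScalarTower R A SA] [Algebra.IsPushout R S A SA] (g : SA) :
    Algebra.FinitePresentation A (Localization.Away g) := by
  haveI : Algebra.IsPushout R A S SA := Algebra.IsPushout.symm inferInstance
  haveI : Algebra.FinitePresentation A SA := Algebra.FinitePresentation.equiv (Algebra.IsPushout.equiv R A S SA)
  haveI : Algebra.FinitePresentation SA (Localization.Away g) := IsLocalization.Away.finitePresentation g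
  exact Algebra.FinitePresentation.trans A SA (Localization.Away g)

/-- the module over the basic open is free over the local base -/
theorem free_model {A C W : Type u} [CommRing A] [IsLocalRing A] [CommRing C] [Algebra A C] [Algebra.FiniteType A C]
    [AddCommGroup W] [Module C W] [Module A W] [IsScalarTower A C W] [Module.Finite C W] (h : Module.Projective A W) :
    Module.Free A (RestrictScalars A C W) :=
  haveI := free_piece (C := C) W h
  Module.Free.of_equiv (show W ≃ₗ[A] RestrictScalars A C W from
    { (RestrictScalars.addEquiv A C W).symm with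
      map_smul' := fun r w => by
        refine (RestrictScalars.addEquiv A C W).injective ?_
        simp [RestrictScalars.addEquiv_map_smul, algebraMap_smul] })

end Groth.Agent.RG.Loc
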