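import Groth.Agent.RG.Loc.Main
import Groth.Agent.FlatSpread.Model

/-!
# Flat finitely presented modules become projective after an étale localisation: any base
-/

set_option autoImplicit false
set_option linter.style.haveILetI false
set_option backward.isDefEq.respectTransparency false

universe u

open TensorProduct

namespace Groth.Agent.RG.Loc

attribute [local instance] Algebra.TensorProduct.rightAlgebra in
/-- a basic open of `R' ⊗ S` on which the module is projective over `R'` -/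
def ProjPiece (R : Type u) [CommRing R] (S : Type u) [CommRing S] [Algebra R S] (p : Ideal R) [p.IsPrime]
    (q : Ideal S) (N : Type u) [AddCommGroup N] [Module S N] : Prop :=
  ∃ (R' : Type u) (_ : CommRing R') (_ : Algebra R R') (p' : Ideal R') (_ : p'.IsPrime),
    FlatCA.IsEtaleNhd R R' p p' ∧ ∃ (h : R' ⊗[R] S) (q' : Ideal (R' ⊗[R] S)), q'.IsPrime ∧
      q'.comap (algebraMap R' (R' ⊗[R] S)) = p' ∧ q'.comap (algebraMap S (R' ⊗[R] S)) = q ∧ h ∉ q' ∧
      Module.Projective R' (Localization.Away h ⊗[S] N)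

attribute [local instance] Algebra.TensorProduct.rightAlgebra in
theorem ProjPiece.of_openPiece {R S : Type u} [CommRing R] [CommRing S] [Algebra R S] {p : Ideal R} [p.IsPrime]
    {q : Ideal S} {N : Type u} [AddCommGroup N] [Module S N] (hO : OpenPiece R S p q N) : ProjPiece R S p q N := by
  obtain ⟨R', _, _, p', _, hn, h, q', hq', hqp, hqq, hh, hproj⟩ := hO
  haveI := hproj
  exact ⟨R', inferInstance, inferInstance, p', inferInstance, hn, h, q', hq', hqp, hqq, hh,
    Module.Projective.of_equiv (((LocalizedModule.equivTensorProduct (Submonoid.powers h) ((R' ⊗[R] S) ⊗[S] N)) ≪≫ₗ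
      AlgebraTensorModule.cancelBaseChange S (R' ⊗[R] S) (Localization.Away h) (Localization.Away h) N).restrictScalars R')⟩

attribute [local instance] Algebra.TensorProduct.rightAlgebra in
/-- base change of an étale neighbourhood -/
theorem exists_nhd_baseChange {R₀ R R₀' : Type u} [CommRing R₀] [CommRing R] [CommRing R₀'] [Algebra R₀ R]
    [Algebra R₀ R₀'] (p : Ideal R) [p.IsPrime] {p₀' : Ideal R₀'} [p₀'.IsPrime]
    (hn : FlatCA.IsEtaleNhd R₀ R₀' (p.comap (algebraMap R₀ R)) p₀') :
    ∃ (p' : Ideal (R ⊗[R₀] R₀')) (_ : p'.IsPrime), FlatCA.IsEtaleNhd R (R ⊗[R₀] R₀') p p' ∧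
      p'.comap (algebraMap R₀' (R ⊗[R₀] R₀')) = p₀' := by
  haveI := hn.1
  obtain ⟨Q, hQ, hQP, hQp⟩ := exists_prime_of_nhd (S := R) hn p rfl
  let cm : R ⊗[R₀] R₀' ≃ₐ[R₀] R₀' ⊗[R₀] R := Algebra.TensorProduct.comm R₀ R R₀'
  let p' : Ideal (R ⊗[R₀] R₀') := Q.comap cm.toRingEquiv.toRingHom
  haveI : p'.IsPrime := Ideal.IsPrime.comap _
  have hc : p'.comap (algebraMap R (R ⊗[R₀] R₀')) = p := by
    rw [← hQp, Ideal.comap_comap]
    rfl
  refine ⟨p', inferInstance, isEtaleNhd_mk hc fun x => ?_, ?_⟩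
  · obtain ⟨a, y, ha, hay⟩ := exists_approx hn (cm x)
    refine ⟨y, algebraMap R₀ R a, ha, ?_⟩
    have h := (Ideal.map_le_iff_le_comap.2 hQP.ge) hay
    change cm (algebraMap R (R ⊗[R₀] R₀') (algebraMap R₀ R a) * x - algebraMap R (R ⊗[R₀] R₀') y) ∈ Q
    have e1 : cm (algebraMap R (R ⊗[R₀] R₀') (algebraMap R₀ R a)) = algebraMap R₀ (R₀' ⊗[R₀] R) a := by
      rw [← cm.commutes a, IsScalarTower.algebraMap_apply R₀ R (R ⊗[R₀] R₀')]
    have e2 : cm (algebraMap R (R ⊗[R₀] R₀') y) = algebraMap R (R₀' ⊗[R₀] R) y := rfl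
    rwa [map_sub, map_mul, e1, e2]
  · rw [← hQP, Ideal.comap_comap]
    rfl

/-- the projective module moves along a base change of all the data -/
theorem projective_baseChange_piece {R₀' R' S₀ S C₀ C : Type u} [CommRing R₀'] [CommRing R'] [CommRing S₀] [CommRing S]
    [CommRing C₀] [CommRing C] [Algebra R₀' R'] [Algebra R₀' C₀] [Algebra R' C] [Algebra R₀' C] [Algebra C₀ C]
    [IsScalarTower R₀' R' C] [IsScalarTower R₀' C₀ C] [Algebra.IsPushout R₀' R' C₀ C] [Algebra S₀ S] [Algebra S₀ C₀]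
    [Algebra S₀ C] [Algebra S C] [IsScalarTower S₀ C₀ C] [IsScalarTower S₀ S C] {M₀ N : Type u} [AddCommGroup M₀]
    [Module S₀ M₀] [AddCommGroup N] [Module S N] [Module S₀ N] [IsScalarTower S₀ S N] (f : M₀ →ₗ[S₀] N)
    (hf : IsBaseChange S f) (h : Module.Projective R₀' (C₀ ⊗[S₀] M₀)) : Module.Projective R' (C ⊗[S] N) := by
  haveI := h
  let e1 : C ⊗[S] N ≃ₗ[C] C ⊗[S₀] M₀ := AlgebraTensorModule.congr (LinearEquiv.refl C C) hf.equiv.symm ≪≫ₗ
    AlgebraTensorModule.cancelBaseChange S₀ S C C M₀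
  let e2 : C ⊗[C₀] (C₀ ⊗[S₀] M₀) ≃ₗ[C] C ⊗[S₀] M₀ := AlgebraTensorModule.cancelBaseChange S₀ C₀ C C M₀
  exact Module.Projective.of_equiv ((Algebra.IsPushout.cancelBaseChange R₀' R' C₀ C (C₀ ⊗[S₀] M₀)).symm ≪≫ₗ
    (e2 ≪≫ₗ e1.symm).restrictScalars R')

attribute [local instance] Algebra.TensorProduct.rightAlgebra in
theorem ProjPiece.of_away_dvd {R S : Type u} [CommRing R] [CommRing S] [Algebra R S] {p : Ideal R} [p.IsPrime]
    {q : Ideal S} [q.IsPrime] (g : S) {q₁ : Ideal (Localization.Away g)}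
    (hq : q₁.comap (algebraMap S (Localization.Away g)) = q) {N : Type u} [AddCommGroup N] [Module S N]
    (hP : ProjPiece R (Localization.Away g) p q₁ (Localization.Away g ⊗[S] N)) :
    ∃ (R' : Type u) (_ : CommRing R') (_ : Algebra R R') (p' : Ideal R') (_ : p'.IsPrime),
      FlatCA.IsEtaleNhd R R' p p' ∧ ∃ (h : R' ⊗[R] S) (q' : Ideal (R' ⊗[R] S)), q'.IsPrime ∧
        q'.comap (algebraMap R' (R' ⊗[R] S)) = p' ∧ q'.comap (algebraMap S (R' ⊗[R] S)) = q ∧ h ∉ q' ∧
        algebraMap S (R' ⊗[R] S) g ∣ h ∧ Module.Projective R' (Localization.Away h ⊗[S] N) := by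
  obtain ⟨R', _, _, p', _, hn, h₁, q', hq', hqp, hqq, hh, hproj⟩ := hP
  let S₁ := Localization.Away g
  let A := R' ⊗[R] S
  let A₁ := R' ⊗[R] S₁
  letI : Algebra A A₁ := (Algebra.TensorProduct.map (AlgHom.id R' R') (IsScalarTower.toAlgHom R S S₁)).toRingHom.toAlgebra
  letI : Algebra S A₁ := ((algebraMap S₁ A₁).comp (algebraMap S S₁)).toAlgebra
  haveI : IsScalarTower S S₁ A₁ := IsScalarTower.of_algebraMap_eq' rfl
  obtain ⟨t1, t2⟩ := tower_map R R' S S₁ rfl rfl
  haveI := t1
  haveI := t2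
  haveI := isPushout_map R R' S S₁
  let gA : A := algebraMap S A g
  haveI hloc : IsLocalization.Away gA A₁ := by
    have h := (Algebra.isLocalization_iff_isPushout (Submonoid.powers g) S₁ (T := A) (B := A₁)).2 inferInstance
    rw [Algebra.algebraMapSubmonoid_powers] at h
    exact h
  obtain ⟨k, a, ha⟩ := IsLocalization.Away.surj gA h₁
  have hunit : IsUnit (algebraMap A A₁ gA) := IsLocalization.Away.algebraMap_isUnit gA
  let C := Localization.Away h₁
  haveI : IsLocalization.Away (algebraMap A A₁ a) C :=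
    IsLocalization.Away.of_associated (r := h₁) ⟨(hunit.pow k).unit, by rw [IsUnit.unit_spec, ← map_pow]; simpa using ha⟩
  haveI : IsScalarTower A A₁ C := inferInstance
  haveI : IsLocalization.Away (gA * a) C := IsLocalization.Away.mul' A₁ C gA a
  haveI : IsScalarTower S A₁ C := inferInstance
  haveI : IsScalarTower S A C := IsScalarTower.of_algebraMap_eq fun s => by
    rw [IsScalarTower.algebraMap_apply A A₁ C, ← IsScalarTower.algebraMap_apply S A A₁,
      ← IsScalarTower.algebraMap_apply S A₁ C]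
  haveI : IsScalarTower S S₁ C := IsScalarTower.of_algebraMap_eq fun s => by
    rw [IsScalarTower.algebraMap_apply S A C, IsScalarTower.algebraMap_apply A A₁ C,
      ← IsScalarTower.algebraMap_apply S A A₁, IsScalarTower.algebraMap_apply S S₁ A₁,
      ← IsScalarTower.algebraMap_apply S₁ A₁ C]
  haveI : IsScalarTower R' A C := IsScalarTower.of_algebraMap_eq fun r => by
    rw [IsScalarTower.algebraMap_apply A A₁ C, ← IsScalarTower.algebraMap_apply R' A A₁,
      ← IsScalarTower.algebraMap_apply R' A₁ C]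
  refine ⟨R', inferInstance, inferInstance, p', inferInstance, hn, gA * a, q'.comap (algebraMap A A₁),
    Ideal.IsPrime.comap _, ?_, ?_, fun hm => ?_, dvd_mul_right gA a, ?_⟩
  · rw [Ideal.comap_comap, ← IsScalarTower.algebraMap_eq R' A A₁, hqp]
  · rw [Ideal.comap_comap, ← IsScalarTower.algebraMap_eq S A A₁, IsScalarTower.algebraMap_eq S S₁ A₁,
      ← Ideal.comap_comap, hqq, hq]
  · rw [Ideal.mem_comap, map_mul] at hm
    rcases hq'.mem_or_mem hm with hm | hm
    · exact hq'.ne_top (q'.eq_top_of_isUnit_mem hm hunit)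
    · rw [← ha] at hm
      exact (hq'.mem_or_mem hm).elim hh fun h => hq'.ne_top (q'.eq_top_of_isUnit_mem h (by
        rw [← map_pow] at *; exact (map_pow (algebraMap A A₁) gA k).symm ▸ hunit.pow k))
  · haveI := hproj
    let e : C ≃ₐ[A] Localization.Away (gA * a) := IsLocalization.algEquiv (Submonoid.powers (gA * a)) C _
    exact Module.Projective.of_equiv ((AlgebraTensorModule.cancelBaseChange S S₁ C C N).restrictScalars R' ≪≫ₗ
      (AlgebraTensorModule.congr e.toLinearEquiv (LinearEquiv.refl S N)).restrictScalars R')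

attribute [local instance] Algebra.TensorProduct.rightAlgebra in
theorem ProjPiece.of_away {R S : Type u} [CommRing R] [CommRing S] [Algebra R S] {p : Ideal R} [p.IsPrime]
    {q : Ideal S} [q.IsPrime] (g : S) {q₁ : Ideal (Localization.Away g)}
    (hq : q₁.comap (algebraMap S (Localization.Away g)) = q) {N : Type u} [AddCommGroup N] [Module S N]
    (hP : ProjPiece R (Localization.Away g) p q₁ (Localization.Away g ⊗[S] N)) : ProjPiece R S p q N := by
  obtain ⟨R', _, _, p', _, hn, h, q', hq', hqp, hqq, hh, -, hproj⟩ := ProjPiece.of_away_dvd g hq hP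
  exact ⟨R', inferInstance, inferInstance, p', inferInstance, hn, h, q', hq', hqp, hqq, hh, hproj⟩

theorem exists_flat_away' {R S N : Type u} [CommRing R] [CommRing S] [Algebra R S]
    [Algebra.FinitePresentation R S] [AddCommGroup N] [Module S N] [Module R N] [IsScalarTower R S N]
    [Module.FinitePresentation S N] (q : Ideal S) [q.IsPrime] (h : Module.Flat R (LocalizedModule q.primeCompl N)) :
    ∃ g : S, g ∉ q ∧ Module.Flat R (LocalizedModule (Submonoid.powers g) N) := by
  obtain ⟨n, m, π, hπ, -, W, hW, ⟨e⟩⟩ := FlatSpread.exists_presentation (R := R) (S := S) (M := N)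
  have hcomap : (q.comap π.toRingHom).primeCompl.map π.toRingHom = q.primeCompl := by
    ext s
    constructor
    · rintro ⟨a, ha, rfl⟩; exact ha
    · intro hs
      obtain ⟨a, rfl⟩ := hπ s
      exact ⟨a, hs, rfl⟩
  obtain ⟨g, hg, hgfl⟩ := FlatSpread.exists_fl_powers hW ((FlatSpread.flat_localized_iff π W e _).1 (hcomap.symm ▸ h))
  refine ⟨π g, hg, ?_⟩
  have := (FlatSpread.flat_localized_iff π W e (Submonoid.powers g)).2 hgfl
  rwa [Submonoid.map_powers] at this

attribute [local instance] Algebra.TensorProduct.rightAlgebra in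
/-- projective pieces are stable under base change -/
theorem ProjPiece.baseChange {R₀ R S₀ S : Type u} [CommRing R₀] [CommRing R] [CommRing S₀] [CommRing S]
    [Algebra R₀ R] [Algebra R₀ S₀] [Algebra R S] [Algebra S₀ S] [Algebra R₀ S] [IsScalarTower R₀ R S]
    [IsScalarTower R₀ S₀ S] [Algebra.IsPushout R₀ R S₀ S] (p : Ideal R) [p.IsPrime] (q : Ideal S) [q.IsPrime]
    (hq : q.comap (algebraMap R S) = p) {M₀ N : Type u} [AddCommGroup M₀] [Module S₀ M₀] [AddCommGroup N] [Module S N]
    [Module S₀ N] [IsScalarTower S₀ S N] (f : M₀ →ₗ[S₀] N) (hf : IsBaseChange S f)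
    (hP : ProjPiece R₀ S₀ (p.comap (algebraMap R₀ R)) (q.comap (algebraMap S₀ S)) M₀) : ProjPiece R S p q N := by
  obtain ⟨R₀', _, _, p₀', _, hn₀, g, q₀', hq₀', hq₀p, hq₀q, hg, hproj⟩ := hP
  haveI := hn₀.1
  obtain ⟨p', _, hn, hp'₀⟩ := exists_nhd_baseChange p hn₀
  let R' := R ⊗[R₀] R₀'
  haveI : IsScalarTower R₀ R₀' R' := IsScalarTower.of_algebraMap_eq fun r => by
    change algebraMap R₀ R r ⊗ₜ[R₀] (1 : R₀') = (1 : R) ⊗ₜ[R₀] algebraMap R₀ R₀' r
    rw [Algebra.algebraMap_eq_smul_one, Algebra.algebraMap_eq_smul_one (A := R₀'), smul_tmul]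
  obtain ⟨q', hq', hq'p, hq'q⟩ := exists_prime_of_nhd hn q hq
  haveI := hq'
  haveI := hq₀'
  let A := R' ⊗[R] S
  let A₀ := R₀' ⊗[R₀] S₀
  haveI : IsScalarTower R₀' R' A := IsScalarTower.of_algebraMap_eq (R := R₀') (S := R') (A := A) fun r => rfl
  letI : Algebra S₀ A := ((algebraMap S A).comp (algebraMap S₀ S)).toAlgebra
  haveI : IsScalarTower S₀ S A := IsScalarTower.of_algebraMap_eq' rfl
  haveI : IsScalarTower R₀ R₀' A := IsScalarTower.to₁₂₄ R₀ R₀' R' A
  haveI : IsScalarTower R S A := IsScalarTower.of_algebraMap_eq fun r => by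
    change algebraMap R R' r ⊗ₜ[R] (1 : S) = (1 : R') ⊗ₜ[R] algebraMap R S r
    rw [Algebra.algebraMap_eq_smul_one, Algebra.algebraMap_eq_smul_one (A := S), smul_tmul]
  haveI : IsScalarTower R₀ S A := IsScalarTower.of_algebraMap_eq fun r => by
    rw [IsScalarTower.algebraMap_apply R₀ R S, ← IsScalarTower.algebraMap_apply R S A,
      ← IsScalarTower.algebraMap_apply R₀ R A]
  haveI : IsScalarTower R₀ S₀ A := IsScalarTower.of_algebraMap_eq fun r => by
    rw [IsScalarTower.algebraMap_apply S₀ S A, ← IsScalarTower.algebraMap_apply R₀ S₀ S,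
      ← IsScalarTower.algebraMap_apply R₀ S A]
  let Φ : A₀ →ₐ[R₀'] A := Algebra.TensorProduct.lift (Algebra.ofId R₀' A) (IsScalarTower.toAlgHom R₀ S₀ A)
    fun _ _ => Commute.all _ _
  letI : Algebra A₀ A := Φ.toRingHom.toAlgebra
  haveI : IsScalarTower R₀' A₀ A := IsScalarTower.of_algebraMap_eq fun r => (Φ.commutes r).symm
  haveI : IsScalarTower S₀ A₀ A := IsScalarTower.of_algebraMap_eq fun s => by
    change algebraMap S₀ A s = Φ ((1 : R₀') ⊗ₜ s)
    rw [Algebra.TensorProduct.lift_tmul, map_one, one_mul]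
    rfl
  haveI : IsScalarTower R₀ A₀ A := IsScalarTower.of_algebraMap_eq fun r => by
    rw [IsScalarTower.algebraMap_apply R₀ R₀' A₀, ← IsScalarTower.algebraMap_apply R₀' A₀ A,
      ← IsScalarTower.algebraMap_apply R₀ R₀' A]
  -- the squares
  haveI : Algebra.IsPushout R R' S A := inferInstance
  haveI h1 : Algebra.IsPushout R₀ R' S₀ A := (Algebra.IsPushout.comp_iff R₀ R S₀ S (T := R') (T' := A)).2 inferInstance
  haveI : Algebra.IsPushout R₀ R₀' S₀ A₀ := inferInstance
  haveI h2 : Algebra.IsPushout R₀' R' A₀ A := (Algebra.IsPushout.comp_iff R₀ R₀' S₀ A₀ (T := R') (T' := A)).1 h1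
  let C₀ := Localization.Away g
  let C := Localization.Away (algebraMap A₀ A g)
  letI : Algebra C₀ C := (IsLocalization.Away.map C₀ C (algebraMap A₀ A) g).toAlgebra
  haveI : IsScalarTower A₀ A C := inferInstance
  haveI : IsScalarTower A₀ C₀ C := IsScalarTower.of_algebraMap_eq fun x => by
    rw [IsScalarTower.algebraMap_apply A₀ A C, RingHom.algebraMap_toAlgebra (IsLocalization.Away.map C₀ C (algebraMap A₀ A) g)]
    exact (IsLocalization.map_eq _ x).symm
  haveI hC : Algebra.IsPushout A₀ C₀ A C := by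
    haveI : IsLocalization (Algebra.algebraMapSubmonoid A (Submonoid.powers g)) C := by
      rw [Algebra.algebraMapSubmonoid_powers]; infer_instance
    exact (Algebra.isLocalization_iff_isPushout (Submonoid.powers g) C₀ (T := A) (B := C)).1 inferInstance |>.symm
  haveI : IsScalarTower R₀' A C := inferInstance
  haveI : IsScalarTower R₀' R' C := IsScalarTower.of_algebraMap_eq fun r => by
    rw [IsScalarTower.algebraMap_apply R₀' A C, IsScalarTower.algebraMap_apply R₀' R' A,
      ← IsScalarTower.algebraMap_apply R' A C]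
  haveI : IsScalarTower R₀' A₀ C := IsScalarTower.of_algebraMap_eq fun r => by
    rw [IsScalarTower.algebraMap_apply A₀ A C, ← IsScalarTower.algebraMap_apply R₀' A₀ A,
      ← IsScalarTower.algebraMap_apply R₀' A C]
  haveI : IsScalarTower R₀' C₀ C := IsScalarTower.of_algebraMap_eq fun r => by
    rw [IsScalarTower.algebraMap_apply R₀' A₀ C₀, ← IsScalarTower.algebraMap_apply A₀ C₀ C,
      ← IsScalarTower.algebraMap_apply R₀' A₀ C]
  haveI : Algebra.IsPushout R₀' R' C₀ C := by
    haveI : Algebra.IsPushout R₀' A₀ R' A := h2.symm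
    haveI : Algebra.IsPushout A₀ C₀ A C := hC
    exact ((Algebra.IsPushout.comp_iff R₀' A₀ R' A (T := C₀) (T' := C)).2 inferInstance).symm
  haveI : IsScalarTower S₀ A C := inferInstance
  haveI : IsScalarTower S₀ S C := IsScalarTower.of_algebraMap_eq fun s => by
    rw [IsScalarTower.algebraMap_apply S₀ A C, IsScalarTower.algebraMap_apply S₀ S A,
      ← IsScalarTower.algebraMap_apply S A C]
  haveI : IsScalarTower S₀ C₀ C := IsScalarTower.of_algebraMap_eq fun s => by
    rw [IsScalarTower.algebraMap_apply S₀ A₀ C₀, ← IsScalarTower.algebraMap_apply A₀ C₀ C,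
      IsScalarTower.algebraMap_apply A₀ A C, ← IsScalarTower.algebraMap_apply S₀ A₀ A,
      ← IsScalarTower.algebraMap_apply S₀ A C]
  refine ⟨R', inferInstance, inferInstance, p', inferInstance, hn, algebraMap A₀ A g, q', hq', hq'p, hq'q,
    fun hm => hg ?_, projective_baseChange_piece (R₀' := R₀') (S₀ := S₀) (C₀ := C₀) f hf hproj⟩
  obtain ⟨c, y, hc, hcy⟩ := exists_approx hn₀ g
  have hQp : (q'.comap (algebraMap A₀ A)).comap (algebraMap R₀' A₀) = p₀' := by
    rw [Ideal.comap_comap, ← IsScalarTower.algebraMap_eq R₀' A₀ A, IsScalarTower.algebraMap_eq R₀' R' A,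
      ← Ideal.comap_comap, hq'p, hp'₀]
  have h3 := (mem_iff_of_nhd hn₀ hQp hc hcy).1 hm
  refine (mem_iff_of_nhd hn₀ hq₀p hc hcy).2 ?_
  rw [hq₀q]
  rwa [Ideal.comap_comap, ← IsScalarTower.algebraMap_eq S₀ A₀ A, IsScalarTower.algebraMap_eq S₀ S A,
    ← Ideal.comap_comap, hq'q] at h3

/-- flat at a point and finitely presented: projective near it after an étale localisation -/
theorem projPiece_of_flat {R S : Type u} [CommRing R] [CommRing S] [Algebra R S] [Algebra.FinitePresentation R S]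
    (p : Ideal R) [p.IsPrime] (q : Ideal S) [q.IsPrime] (hq : q.comap (algebraMap R S) = p) (N : Type u)
    [AddCommGroup N] [Module S N] [Module R N] [IsScalarTower R S N] [Module.FinitePresentation S N]
    (hflat : Module.Flat R (LocalizedModule q.primeCompl N)) : ProjPiece R S p q N := by
  obtain ⟨g, hg, hgflat⟩ := exists_flat_away' q hflat
  let S₁ := Localization.Away g
  haveI : Algebra.FinitePresentation R S₁ :=
    haveI : Algebra.FinitePresentation S S₁ := IsLocalization.Away.finitePresentation g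
    Algebra.FinitePresentation.trans R S S₁
  haveI : Module.Flat R (S₁ ⊗[S] N) :=
    Module.Flat.of_linearEquiv ((LocalizedModule.equivTensorProduct (Submonoid.powers g) N).restrictScalars R).symm
  have hd : Disjoint (Submonoid.powers g : Set S) (q : Set S) := by
    rwa [Ideal.disjoint_powers_iff_notMem_of_isPrime]
  haveI hq₁ : (q.map (algebraMap S S₁)).IsPrime := IsLocalization.isPrime_of_isPrime_disjoint _ S₁ q inferInstance hd
  let q₁ := q.map (algebraMap S S₁)
  have hq₁c : q₁.comap (algebraMap S S₁) = q := IsLocalization.comap_map_of_isPrime_disjoint _ S₁ inferInstance hd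
  have hq₁p : q₁.comap (algebraMap R S₁) = p := by
    rw [IsScalarTower.algebraMap_eq R S S₁, ← Ideal.comap_comap, hq₁c, hq]
  refine ProjPiece.of_away g hq₁c ?_
  obtain ⟨R₀, _, _, S₀, _, _, _, _, _, _, M₀, _, _, _, _, _, _, f, hR₀, hS₀, hM₀, hfl, hpush, hf⟩ :=
    FlatSpread.exists_model_module R S₁ (S₁ ⊗[S] N)
  haveI := hR₀
  haveI := hS₀
  haveI := hM₀
  haveI := hfl
  haveI := hpush
  haveI : IsNoetherianRing R₀ := Algebra.FiniteType.isNoetherianRing ℤ R₀
  haveI : IsScalarTower R₀ S₀ M₀ := inferInstance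
  refine ProjPiece.baseChange p q₁ hq₁p f hf (ProjPiece.of_openPiece (openPiece_of_flat (R := R₀) (S := S₀)
    (p.comap (algebraMap R₀ R)) (q₁.comap (algebraMap S₀ S₁)) ?_ M₀ ?_))
  · rw [← hq₁p, Ideal.comap_comap, Ideal.comap_comap, ← IsScalarTower.algebraMap_eq R₀ S₀ S₁,
      ← IsScalarTower.algebraMap_eq R₀ R S₁]
  · exact InjFibre.flat_localized (R := R₀) (S := S₀) (M := M₀)
      (M' := LocalizedModule (q₁.comap (algebraMap S₀ S₁)).primeCompl M₀) (q₁.comap (algebraMap S₀ S₁)).primeCompl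
      (LocalizedModule.mkLinearMap _ M₀)

end Groth.Agent.RG.Loc
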