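import Groth.Agent.RG.Loc.Structure
import Groth.Agent.RG.Pure.Trivial
import Groth.Agent.RG.FlatLocus

/-!
# The induction step: a module finite over a projective algebra
-/

set_option autoImplicit false
set_option linter.style.haveILetI false
set_option backward.isDefEq.respectTransparency false

universe u

open TensorProduct

namespace Groth.Agent.RG.Loc

/-- all chains of primes over `p` have length `< n` -/
def DimLT (R S : Type u) [CommRing R] [CommRing S] [Algebra R S] (p : Ideal R) (n : ℕ) : Prop :=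
  ∀ l : LTSeries {q : PrimeSpectrum S // q.asIdeal.comap (algebraMap R S) = p}, l.length < n

/-- the statement proved by induction on the dimension of the fibre -/
def Main (n : ℕ) : Prop :=
  ∀ (R : Type u) [CommRing R] [IsNoetherianRing R] (S : Type u) [CommRing S] [Algebra R S] [Algebra.FiniteType R S]
    (p : Ideal R) [p.IsPrime] (q : Ideal S) [q.IsPrime] (N : Type u) [AddCommGroup N] [Module S N] [Module R N]
    [IsScalarTower R S N] [Module.Finite S N], q.comap (algebraMap R S) = p →
      Module.Flat R (LocalizedModule q.primeCompl N) → DimLT R S p n → OpenPiece R S p q N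

attribute [local instance] Algebra.TensorProduct.rightAlgebra in
theorem tower_map (R A S S₀ : Type u) [CommRing R] [CommRing A] [CommRing S] [CommRing S₀] [Algebra R A]
    [Algebra R S] [Algebra R S₀] [Algebra S S₀] [IsScalarTower R S S₀] [Algebra (A ⊗[R] S) (A ⊗[R] S₀)]
    [Algebra S (A ⊗[R] S₀)]
    (hψ : algebraMap (A ⊗[R] S) (A ⊗[R] S₀) =
      (Algebra.TensorProduct.map (AlgHom.id A A) (IsScalarTower.toAlgHom R S S₀)).toRingHom)
    (hS : algebraMap S (A ⊗[R] S₀) = (algebraMap S₀ (A ⊗[R] S₀)).comp (algebraMap S S₀)) :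
    IsScalarTower S (A ⊗[R] S) (A ⊗[R] S₀) ∧ IsScalarTower A (A ⊗[R] S) (A ⊗[R] S₀) := by
  let ψ : A ⊗[R] S →ₐ[A] A ⊗[R] S₀ := Algebra.TensorProduct.map (AlgHom.id A A) (IsScalarTower.toAlgHom R S S₀)
  refine ⟨IsScalarTower.of_algebraMap_eq fun s => ?_, IsScalarTower.of_algebraMap_eq fun a => ?_⟩
  · rw [hψ, hS]
    change (1 : A) ⊗ₜ[R] algebraMap S S₀ s = ψ ((1 : A) ⊗ₜ[R] s)
    simp [ψ]
  · rw [hψ]
    exact (ψ.commutes a).symm

attribute [local instance] Algebra.TensorProduct.rightAlgebra in
theorem isPushout_map (R A S S₀ : Type u) [CommRing R] [CommRing A] [CommRing S] [CommRing S₀] [Algebra R A]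
    [Algebra R S] [Algebra R S₀] [Algebra S S₀] [IsScalarTower R S S₀] [Algebra (A ⊗[R] S) (A ⊗[R] S₀)]
    [Algebra S (A ⊗[R] S₀)] [IsScalarTower S S₀ (A ⊗[R] S₀)] [IsScalarTower S (A ⊗[R] S) (A ⊗[R] S₀)]
    [IsScalarTower A (A ⊗[R] S) (A ⊗[R] S₀)] : Algebra.IsPushout S (A ⊗[R] S) S₀ (A ⊗[R] S₀) := by
  haveI : IsScalarTower R A (A ⊗[R] S₀) := IsScalarTower.of_algebraMap_eq fun r => rfl
  haveI : IsScalarTower R (A ⊗[R] S) (A ⊗[R] S₀) := IsScalarTower.of_algebraMap_eq fun r => by
    rw [IsScalarTower.algebraMap_apply R A (A ⊗[R] S), ← IsScalarTower.algebraMap_apply A (A ⊗[R] S) (A ⊗[R] S₀),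
      ← IsScalarTower.algebraMap_apply R A (A ⊗[R] S₀)]
  haveI : Algebra.IsPushout R S A (A ⊗[R] S) := inferInstance
  haveI hp : Algebra.IsPushout R S₀ A (A ⊗[R] S₀) := inferInstance
  haveI := (Algebra.IsPushout.comp_iff R S A (A ⊗[R] S) (T := S₀) (T' := A ⊗[R] S₀)).1 hp
  exact Algebra.IsPushout.symm inferInstance

theorem exists_equiv_quot {R T : Type u} [CommRing R] [CommRing T] [Algebra R T] (I : Ideal T) (t : Ideal T) [t.IsPrime]
    (tI : Ideal (T ⧸ I)) [tI.IsPrime] (htI : tI.comap (Ideal.Quotient.mk I) = t) (P : Type u) [AddCommGroup P]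
    [Module T P] [Module (T ⧸ I) P] [IsScalarTower T (T ⧸ I) P] [Module R P] [IsScalarTower R T P] [IsScalarTower R (T ⧸ I) P] :
    Nonempty (LocalizedModule t.primeCompl P ≃ₗ[R] LocalizedModule tI.primeCompl P) := by
  let f := LocalizedModule.mkLinearMap tI.primeCompl P
  have hsub : Algebra.algebraMapSubmonoid (T ⧸ I) t.primeCompl = tI.primeCompl := by
    ext x
    refine ⟨?_, fun hx => ?_⟩
    · rintro ⟨y, hy, rfl⟩
      exact fun h => hy (by rw [← htI]; exact h)
    · obtain ⟨y, rfl⟩ := Ideal.Quotient.mk_surjective x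
      exact ⟨y, fun h => hx (by rw [← htI] at h; exact h), rfl⟩
  haveI : IsLocalizedModule (Algebra.algebraMapSubmonoid (T ⧸ I) t.primeCompl) f := hsub.symm ▸ inferInstance
  haveI : IsLocalizedModule t.primeCompl (f.restrictScalars T) := IsLocalizedModule.restrictScalars _ f
  exact ⟨(IsLocalizedModule.iso t.primeCompl (f.restrictScalars T)).restrictScalars R⟩

attribute [local instance] Algebra.TensorProduct.rightAlgebra in
theorem projective_tensor_away {R A : Type u} [CommRing R] [CommRing A] [Algebra R A] [Algebra.FiniteType R A]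
    [Module.Projective R A] (f : R) (w : A)
    (hw : ∀ (t : Ideal R) [t.IsPrime], f ∉ t → Function.Injective (Pure.act R t.ResidueField (N := A) w)) :
    Module.Projective (Localization.Away f) (Localization.Away f ⊗[R] LocalizedModule (Submonoid.powers w) A) := by
  let L := Localization.Away f
  let AL := L ⊗[R] A
  let Aw := Localization.Away w
  haveI : Module.Projective L AL := inferInstance
  let wL : AL := algebraMap A AL w
  have hreg : ∀ (t : Ideal L) [t.IsPrime], Function.Injective (Pure.act L t.ResidueField (N := AL) wL) := by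
    intro t _
    let μ : A →ₗ[R] A := (LinearMap.lsmul A A w).restrictScalars R
    have hμ : (LinearMap.lsmul AL AL wL).restrictScalars L = μ.baseChange L := by
      refine AlgebraTensorModule.ext fun l a => ?_
      change ((1 : L) ⊗ₜ[R] w) * (l ⊗ₜ[R] a) = l ⊗ₜ[R] (w * a)
      rw [Algebra.TensorProduct.tmul_mul_tmul, one_mul]
    change Function.Injective (((LinearMap.lsmul AL AL wL).restrictScalars L).lTensor t.ResidueField)
    rw [hμ, Pure.injective_lTensor_baseChange μ t.ResidueField]
    let t₀ : Ideal R := t.comap (algebraMap R L)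
    letI : Algebra t₀.ResidueField t.ResidueField := (Ideal.ResidueField.map t₀ t (algebraMap R L) rfl).toAlgebra
    haveI : IsScalarTower R t₀.ResidueField t.ResidueField := IsScalarTower.of_algebraMap_eq fun a => by
      rw [RingHom.algebraMap_toAlgebra, Ideal.ResidueField.map_algebraMap, ← IsScalarTower.algebraMap_apply]
    rw [Pure.injective_lTensor_field_ext μ t₀.ResidueField t.ResidueField]
    exact hw t₀ fun h => ‹t.IsPrime›.ne_top (t.eq_top_of_isUnit_mem h
      (IsLocalization.map_units L ⟨f, Submonoid.mem_powers f⟩))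
  haveI := projective_powers (A := L) (B := AL) AL wL hreg
  let B := L ⊗[R] Aw
  letI : Algebra AL B := (Algebra.TensorProduct.map (AlgHom.id L L) (IsScalarTower.toAlgHom R A Aw)).toRingHom.toAlgebra
  letI : Algebra A B := ((algebraMap Aw B).comp (algebraMap A Aw)).toAlgebra
  haveI : IsScalarTower A Aw B := IsScalarTower.of_algebraMap_eq' rfl
  obtain ⟨h1, h2⟩ := tower_map R L A Aw rfl rfl
  haveI := h1
  haveI := h2
  haveI := isPushout_map R L A Aw
  haveI hloc : IsLocalization (Algebra.algebraMapSubmonoid AL (Submonoid.powers w)) B :=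
    (Algebra.isLocalization_iff_isPushout (Submonoid.powers w) Aw (T := AL) (B := B)).2 inferInstance
  rw [Algebra.algebraMapSubmonoid_powers] at hloc
  haveI := hloc
  let e1 : Localization.Away wL ≃ₐ[AL] B := IsLocalization.algEquiv (Submonoid.powers wL) _ _
  exact Module.Projective.of_equiv (e1.toLinearEquiv.restrictScalars L)

theorem injective_lTensor_of_killed_ker {R L X M : Type u} [CommRing R] [CommRing L] [Algebra R L] [Module.Flat R L]
    [AddCommGroup X] [Module R X] [AddCommGroup M] [Module R M] (u : X →ₗ[R] M) (s : R) (hs : IsUnit (algebraMap R L s))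
    (hker : ∀ z, u z = 0 → s • z = 0) : Function.Injective (u.baseChange L) := by
  rw [injective_iff_map_eq_zero]
  intro z hz
  obtain ⟨y, rfl⟩ := (Module.Flat.lTensor_exact L (LinearMap.exact_subtype_ker_map u) z).1 hz
  have h0 : algebraMap R L s • (LinearMap.ker u).subtype.lTensor L y = 0 := by
    rw [algebraMap_smul, ← map_smul]
    have hy : s • y = 0 := by
      clear hz
      induction y using TensorProduct.induction_on with
      | zero => exact smul_zero _
      | tmul l v =>
        rw [← tmul_smul, show s • v = 0 from Subtype.ext (hker v.1 (LinearMap.mem_ker.1 v.2)), tmul_zero]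
      | add a b ha hb => rw [smul_add, ha, hb, add_zero]
    rw [hy, map_zero]
  exact (hs.smul_eq_zero).1 h0

theorem projective_of_short_exact {L X M P : Type u} [CommRing L] [AddCommGroup X] [Module L X] [AddCommGroup M]
    [Module L M] [AddCommGroup P] [Module L P] [Module.Projective L X] [Module.Projective L P] (u : X →ₗ[L] M)
    (v : M →ₗ[L] P) (hu : Function.Injective u) (hex : Function.Exact u v) (hv : Function.Surjective v) :
    Module.Projective L M := by
  obtain ⟨s, hs⟩ := Module.projective_lifting_property v LinearMap.id hv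
  have hbij : Function.Bijective (u.coprod s) := by
    refine ⟨?_, fun m => ?_⟩
    · rw [injective_iff_map_eq_zero]
      rintro ⟨x, y⟩ hxy
      have h1 : v (u x + s y) = y := by
        rw [map_add, (hex _).2 ⟨x, rfl⟩, zero_add, ← LinearMap.comp_apply, hs, LinearMap.id_apply]
      have hxy' : u x + s y = 0 := by simpa using hxy
      have hy : y = 0 := by rw [← h1, hxy', map_zero]
      subst hy
      have hx : u x = 0 := by simpa using hxy
      rw [hu (hx.trans (map_zero u).symm)]
      rfl
    · obtain ⟨x, hx⟩ := (hex (m - s (v m))).1 (by rw [map_sub, ← LinearMap.comp_apply v s, hs, LinearMap.id_apply, sub_self])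
      exact ⟨(x, v m), by rw [LinearMap.coprod_apply, hx, sub_add_cancel]⟩
  exact Module.Projective.of_equiv (LinearEquiv.ofBijective _ hbij)

/-- the middle term of the localised sequence becomes projective over `R[1/f]` -/
theorem projective_tensor_middle {R A : Type u} [CommRing R] [CommRing A] [Algebra R A] [Algebra.FiniteType R A]
    [Module.Projective R A] {M P : Type u} [AddCommGroup M] [Module A M] [Module R M] [IsScalarTower R A M]
    [AddCommGroup P] [Module A P] [Module R P] [IsScalarTower R A P] {r : ℕ} (β : (Fin r → A) →ₗ[A] M) (π : M →ₗ[A] P)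
    (hex : Function.Exact β π) (hπ : Function.Surjective π) (h : A) (s f₀ : R) (hker : ∀ v, β v = 0 → s • v = 0)
    (hh : ∀ (t : Ideal R) [t.IsPrime], f₀ ∉ t → Function.Injective (Pure.act R t.ResidueField (N := A) h))
    [Module.Projective R (LocalizedModule (Submonoid.powers h) P)] :
    Module.Projective (Localization.Away (f₀ * s)) (Localization.Away (f₀ * s) ⊗[R] LocalizedModule (Submonoid.powers h) M) := by
  let L := Localization.Away (f₀ * s)
  let U := Submonoid.powers h
  let βh : LocalizedModule U (Fin r → A) →ₗ[R] LocalizedModule U M :=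
    ((LocalizedModule.map U β).restrictScalars R)
  let πh : LocalizedModule U M →ₗ[R] LocalizedModule U P := ((LocalizedModule.map U π).restrictScalars R)
  have hexh : Function.Exact βh πh := LocalizedModule.map_exact U β π hex
  have hπh : Function.Surjective πh := LocalizedModule.map_surjective U π hπ
  have hkerh : ∀ z, βh z = 0 → s • z = 0 := by
    intro z hz
    obtain ⟨v, u, rfl⟩ := RG.exists_mk z
    change LocalizedModule.map U β (LocalizedModule.mk v u) = 0 at hz
    rw [RG.lmap_mk] at hz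
    obtain ⟨⟨c, hc⟩, hcv⟩ := LocalizedModule.mk_eq.1 (hz.trans (LocalizedModule.zero_mk 1).symm)
    simp only [Submonoid.smul_def, Submonoid.coe_one, one_smul, smul_zero] at hcv
    have h2 := hker (c • v) (by rw [map_smul, hcv])
    rw [← algebraMap_smul A s (c • v), smul_comm] at h2
    rw [← algebraMap_smul A s, LocalizedModule.smul'_mk, ← LocalizedModule.zero_mk u, LocalizedModule.mk_eq]
    exact ⟨⟨c, hc⟩, by simp only [Submonoid.smul_def, smul_zero]; rw [smul_comm c, h2, smul_zero]⟩
  have hfs : IsUnit (algebraMap R L (f₀ * s)) := IsLocalization.map_units L ⟨f₀ * s, Submonoid.mem_powers _⟩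
  rw [map_mul] at hfs
  haveI : Module.Flat R L := IsLocalization.flat L (Submonoid.powers (f₀ * s))
  have hinj : Function.Injective (βh.baseChange L) :=
    injective_lTensor_of_killed_ker βh s (isUnit_of_mul_isUnit_right hfs) hkerh
  haveI : Module.Projective L (L ⊗[R] LocalizedModule U A) :=
    projective_tensor_away (f₀ * s) h fun t _ ht => hh t fun hm => ht (t.mul_mem_right _ hm)
  let ι : (Fin r → A) →ₗ[A] (Fin r → LocalizedModule U A) :=
    LinearMap.pi fun i => (LocalizedModule.mkLinearMap U A).comp (LinearMap.proj i)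
  haveI : IsLocalizedModule U ι := inferInstance
  haveI : Module.Projective L (L ⊗[R] LocalizedModule U (Fin r → A)) :=
    haveI : Module.Projective L (Fin r → L ⊗[R] LocalizedModule U A) :=
      Module.Projective.of_equiv (TensorProduct.piScalarRight L L (L ⊗[R] LocalizedModule U A) (Fin r))
    Module.Projective.of_equiv ((TensorProduct.piRight R L L fun _ : Fin r => LocalizedModule U A).symm ≪≫ₗ
      AlgebraTensorModule.congr (LinearEquiv.refl L L) ((IsLocalizedModule.iso U ι).symm.restrictScalars R))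
  exact projective_of_short_exact (βh.baseChange L) (πh.baseChange L) hinj (lTensor_exact L hexh hπh)
    (LinearMap.lTensor_surjective L hπh)

attribute [local instance] Algebra.TensorProduct.rightAlgebra in
/-- the step: `S'` finite over a projective `T` whose fibre has a generic point -/
theorem step_piece {n : ℕ} (ih : Main.{u} n) {R T : Type u} [CommRing R] [IsNoetherianRing R] [CommRing T] [Algebra R T]
    [Algebra.FiniteType R T] [Module.Projective R T] (p : Ideal R) [p.IsPrime] (η : Ideal T) [η.IsPrime]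
    (hηp : η.comap (algebraMap R T) = p) (hη : ∀ x ∈ η, ∃ s ∉ p, algebraMap R T s * x ∈ p.map (algebraMap R T))
    (hdim : DimLT R T p (n + 1)) (S' : Type u) [CommRing S'] [Algebra R S'] [Algebra T S'] [IsScalarTower R T S']
    [Module.Finite T S'] (q' : Ideal S') [q'.IsPrime] (hq' : q'.comap (algebraMap R S') = p) (N' : Type u)
    [AddCommGroup N'] [Module S' N'] [Module T N'] [Module R N'] [IsScalarTower T S' N'] [IsScalarTower R T N']
    [IsScalarTower R S' N'] [Module.Finite S' N'] [Module.Flat R N'] : EPiece R S' p q' N' := by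
  classical
  haveI : Module.Finite T N' := Module.Finite.trans S' N'
  haveI : Algebra.FiniteType R S' := Algebra.FiniteType.trans (S := T) inferInstance inferInstance
  obtain ⟨r, α, a, s, haη, hrange, hsp, hker, hflat⟩ := exists_structure p η hηp hη N'
  let t := q'.comap (algebraMap T S')
  haveI : t.IsPrime := Ideal.IsPrime.comap _
  have htp : t.comap (algebraMap R T) = p := by
    rw [Ideal.comap_comap, ← IsScalarTower.algebraMap_eq, hq']
  have hle_of : ∀ τ : Ideal T, τ.IsPrime → τ.comap (algebraMap R T) = p → η ≤ τ := by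
    intro τ hτ hτp x hx
    obtain ⟨c, hc, hcx⟩ := hη x hx
    exact (hτ.mem_or_mem ((Ideal.map_le_iff_le_comap.2 hτp.ge) hcx)).resolve_left fun h => hc (by rw [← hτp]; exact h)
  let P := N' ⧸ LinearMap.range α
  obtain ⟨R₃, _, _, p₃, _, hn, h, t₃, ht₃, ht₃p, ht₃t, hht₃, hproj⟩ :
      ∃ (R₃ : Type u) (_ : CommRing R₃) (_ : Algebra R R₃) (p₃ : Ideal R₃) (_ : p₃.IsPrime),
        FlatCA.IsEtaleNhd R R₃ p p₃ ∧ ∃ (h : R₃ ⊗[R] T) (t₃ : Ideal (R₃ ⊗[R] T)), t₃.IsPrime ∧
        t₃.comap (algebraMap R₃ (R₃ ⊗[R] T)) = p₃ ∧ t₃.comap (algebraMap T (R₃ ⊗[R] T)) = t ∧ h ∉ t₃ ∧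
        Module.Projective R₃ (LocalizedModule (Submonoid.powers h) ((R₃ ⊗[R] T) ⊗[T] P)) := by
    by_cases hat : a ∈ t
    · let I : Ideal T := Ideal.span {a}
      have hPI : Module.IsTorsionBySet T P (I : Set T) := by
        refine (Module.isTorsionBySet_span_singleton_iff a).2 fun x => ?_
        obtain ⟨m, rfl⟩ := Submodule.mkQ_surjective _ x
        rw [← map_smul, Submodule.mkQ_apply, Submodule.Quotient.mk_eq_zero]
        exact hrange m
      letI : Module (T ⧸ I) P := hPI.module
      haveI : IsScalarTower T (T ⧸ I) P := hPI.isScalarTower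
      haveI : IsScalarTower R (T ⧸ I) P := hPI.isScalarTower
      haveI : Module.Finite (T ⧸ I) P := Module.Finite.of_restrictScalars_finite T (T ⧸ I) P
      have hIt : I ≤ t := (Ideal.span_singleton_le_iff_mem t).2 hat
      let tI : Ideal (T ⧸ I) := t.map (Ideal.Quotient.mk I)
      haveI : tI.IsPrime := Ideal.map_isPrime_of_surjective Ideal.Quotient.mk_surjective (by rwa [Ideal.mk_ker])
      have htI : tI.comap (Ideal.Quotient.mk I) = t := by
        rw [Ideal.comap_map_of_surjective _ Ideal.Quotient.mk_surjective, ← RingHom.ker_eq_comap_bot, Ideal.mk_ker]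
        exact sup_eq_left.2 hIt
      have hcomap : ∀ τ : Ideal (T ⧸ I), (τ.comap (Ideal.Quotient.mk I)).comap (algebraMap R T) = τ.comap (algebraMap R (T ⧸ I)) :=
        fun τ => by rw [Ideal.comap_comap]; rfl
      have hflatI : Module.Flat R (LocalizedModule tI.primeCompl P) := by
        haveI := hflat t htp
        obtain ⟨e⟩ := exists_equiv_quot (R := R) I t tI htI P
        exact Module.Flat.of_linearEquiv e.symm
      have hdimI : DimLT R (T ⧸ I) p n := by
        intro l
        let φ : {q : PrimeSpectrum (T ⧸ I) // q.asIdeal.comap (algebraMap R (T ⧸ I)) = p} →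
            {q : PrimeSpectrum T // q.asIdeal.comap (algebraMap R T) = p} := fun q =>
          ⟨⟨q.1.asIdeal.comap (Ideal.Quotient.mk I), Ideal.IsPrime.comap _⟩, (hcomap _).trans q.2⟩
        have hφ : StrictMono φ := fun q q' hqq => lt_of_le_of_ne (Ideal.comap_mono (le_of_lt hqq : q ≤ q')) fun he =>
          (ne_of_lt hqq) (Subtype.ext (PrimeSpectrum.ext (Ideal.comap_injective_of_surjective _
            Ideal.Quotient.mk_surjective (congrArg (fun x => x.1.asIdeal) he))))
        let η₀ : {q : PrimeSpectrum T // q.asIdeal.comap (algebraMap R T) = p} := ⟨⟨η, ‹_›⟩, hηp⟩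
        have hlt : η₀ < (l.map φ hφ).head := by
          rw [LTSeries.head_map]
          refine lt_of_le_of_ne (hle_of _ (Ideal.IsPrime.comap _) ((hcomap _).trans l.head.2)) fun he => haη ?_
          rw [show η = (φ l.head).1.asIdeal from congrArg (fun x => x.1.asIdeal) he, Ideal.mem_comap,
            Ideal.Quotient.eq_zero_iff_mem.2 (Ideal.mem_span_singleton_self a)]
          exact zero_mem _
        have := hdim ((l.map φ hφ).cons η₀ hlt)
        simpa [LTSeries.map] using this
      obtain ⟨R₃, _, _, p₃, _, hn, g, tI₃, htI₃, htI₃p, htI₃t, hgt, hproj⟩ :=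
        ih R (T ⧸ I) p tI P (by rw [← hcomap, htI, htp]) hflatI hdimI
      let T₃ := R₃ ⊗[R] T
      let TI₃ := R₃ ⊗[R] (T ⧸ I)
      letI : Algebra T₃ TI₃ :=
        (Algebra.TensorProduct.map (AlgHom.id R₃ R₃) (IsScalarTower.toAlgHom R T (T ⧸ I))).toRingHom.toAlgebra
      letI : Algebra T TI₃ := ((algebraMap (T ⧸ I) TI₃).comp (algebraMap T (T ⧸ I))).toAlgebra
      haveI : IsScalarTower T (T ⧸ I) TI₃ := IsScalarTower.of_algebraMap_eq' rfl
      obtain ⟨h1, h2⟩ := tower_map R R₃ T (T ⧸ I) rfl rfl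
      haveI := h1
      haveI := h2
      haveI := isPushout_map R R₃ T (T ⧸ I)
      obtain ⟨h, rfl⟩ : ∃ h : T₃, algebraMap T₃ TI₃ h = g := by
        refine (?_ : Function.Surjective (LinearMap.lTensor R₃ (IsScalarTower.toAlgHom R T (T ⧸ I)).toLinearMap)) g
        exact LinearMap.lTensor_surjective R₃ Ideal.Quotient.mk_surjective
      haveI := hproj
      let eP : TI₃ ⊗[T ⧸ I] P ≃ₗ[T₃] T₃ ⊗[T] P := Algebra.IsPushout.cancelBaseChange T T₃ (T ⧸ I) TI₃ P
      obtain ⟨e1⟩ := exists_equiv_restrict (R := R₃) (A := T₃) (A' := TI₃) (TI₃ ⊗[T ⧸ I] P) h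
      obtain ⟨e2⟩ := exists_equiv_congr (R := R₃) (A := T₃) (M := TI₃ ⊗[T ⧸ I] P) (M' := T₃ ⊗[T] P) eP h
      refine ⟨R₃, inferInstance, inferInstance, p₃, inferInstance, hn, h, tI₃.comap (algebraMap T₃ TI₃),
        Ideal.IsPrime.comap _, ?_, ?_, fun hm => hgt hm, Module.Projective.of_equiv (e1.symm.trans e2)⟩
      · rw [Ideal.comap_comap, ← IsScalarTower.algebraMap_eq R₃ T₃ TI₃, htI₃p]
      · rw [Ideal.comap_comap, ← IsScalarTower.algebraMap_eq T T₃ TI₃, IsScalarTower.algebraMap_eq T (T ⧸ I) TI₃,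
          ← Ideal.comap_comap, htI₃t]
        exact htI
    · obtain ⟨t₃, ht₃, ht₃p, ht₃t⟩ := exists_prime_of_nhd (Pure.isEtaleNhd_self p) t htp
      refine ⟨R, inferInstance, inferInstance, p, inferInstance, Pure.isEtaleNhd_self p, algebraMap T _ a, t₃, ht₃, ht₃p,
        ht₃t, fun hm => hat (by rw [← ht₃t]; exact hm), ?_⟩
      have hz : ∀ z : (R ⊗[R] T) ⊗[T] P, algebraMap T (R ⊗[R] T) a • z = 0 := fun z => by
        induction z using TensorProduct.induction_on with
        | zero => exact smul_zero _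
        | tmul c x =>
          obtain ⟨m, rfl⟩ := Submodule.mkQ_surjective _ x
          rw [algebraMap_smul, ← tmul_smul, ← map_smul, Submodule.mkQ_apply,
            (Submodule.Quotient.mk_eq_zero _).2 (hrange m), tmul_zero]
        | add x y hx hy => rw [smul_add, hx, hy, add_zero]
      haveI : Subsingleton (LocalizedModule (Submonoid.powers (algebraMap T (R ⊗[R] T) a)) ((R ⊗[R] T) ⊗[T] P)) :=
        LocalizedModule.subsingleton_iff.2 fun z => ⟨_, Submonoid.mem_powers _, hz z⟩
      exact Module.Projective.of_free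
  haveI := hn.1
  let T₃ := R₃ ⊗[R] T
  haveI : IsNoetherianRing R₃ := Algebra.FiniteType.isNoetherianRing R R₃
  haveI : Module.Projective R₃ T₃ := inferInstance
  haveI : IsNoetherianRing T₃ := Algebra.FiniteType.isNoetherianRing R₃ T₃
  haveI : Module.Flat T T₃ := Module.Flat.isBaseChange R T R₃ T₃
    (Algebra.IsPushout.symm (inferInstance : Algebra.IsPushout R R₃ T T₃)).out
  -- the generic point
  obtain ⟨η₃, hη₃, hη₃p, hη₃η⟩ := exists_prime_of_nhd hn η hηp
  haveI := hη₃
  have hp₃ : ∀ {c : R}, c ∉ p → algebraMap R R₃ c ∉ p₃ := fun {c} hc h => hc (by rw [← comap_of_isEtaleNhd hn]; exact h)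
  have hη₃ker : ∀ x ∈ η₃, ∃ c ∉ p₃, algebraMap R₃ T₃ c * x ∈ p₃.map (algebraMap R₃ T₃) := by
    intro x hx
    obtain ⟨c, y, hc, hcy⟩ := exists_approx hn x
    have hy : y ∈ η := by rw [← hη₃η]; exact (mem_iff_of_nhd hn hη₃p hc hcy).1 hx
    obtain ⟨d, hd, hdy⟩ := hη y hy
    have hdy' : algebraMap T T₃ (algebraMap R T d * y) ∈ p₃.map (algebraMap R₃ T₃) := by
      refine (?_ : Ideal.map (algebraMap R T) p ≤ (p₃.map (algebraMap R₃ T₃)).comap (algebraMap T T₃)) hdy
      rw [Ideal.map_le_iff_le_comap, Ideal.comap_comap]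
      intro z hz
      rw [Ideal.mem_comap, ← IsScalarTower.algebraMap_eq, IsScalarTower.algebraMap_apply R R₃ T₃]
      exact Ideal.mem_map_of_mem _ (by rw [← Ideal.mem_comap, comap_of_isEtaleNhd hn]; exact hz)
    refine ⟨algebraMap R R₃ (d * c), hp₃ (‹p.IsPrime›.mul_notMem hd hc), ?_⟩
    have e : algebraMap R₃ T₃ (algebraMap R R₃ (d * c)) * x =
        algebraMap R T₃ d * (algebraMap R T₃ c * x - algebraMap T T₃ y) + algebraMap T T₃ (algebraMap R T d * y) := by
      rw [← IsScalarTower.algebraMap_apply, map_mul, map_mul, ← IsScalarTower.algebraMap_apply]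
      ring
    rw [e]
    exact add_mem (Ideal.mul_mem_left _ _ hcy) hdy'
  have hhη₃ : h ∉ η₃ := by
    intro hh
    obtain ⟨c, hc, hcx⟩ := hη₃ker h hh
    exact hht₃ ((ht₃.mem_or_mem ((Ideal.map_le_iff_le_comap.2 ht₃p.ge) hcx)).resolve_left fun hm => hc (by rw [← ht₃p]; exact hm))
  have hregp : Function.Injective (Pure.act R₃ p₃.ResidueField (N := T₃) h) := by
    rw [injective_iff_map_eq_zero]
    intro z hz
    obtain ⟨c, hc, x, hx⟩ := exists_scalar (p := p₃) z
    have h1 : (1 : p₃.ResidueField) ⊗ₜ[R₃] (h * x) = 0 := by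
      rw [← smul_eq_mul, ← Pure.act_tmul, ← hx, map_smul, hz, smul_zero]
    obtain ⟨d, hd, hdx⟩ := (RG.one_tmul_eq_zero_iff p₃ _).1 h1
    rw [Ideal.smul_top_eq_map, Submodule.restrictScalars_mem, Algebra.smul_def] at hdx
    have hx₃ : x ∈ η₃ := by
      have := (Ideal.map_le_iff_le_comap.2 hη₃p.ge) hdx
      rcases hη₃.mem_or_mem this with h' | h'
      · exact absurd (by rw [← hη₃p]; exact h') hd
      · exact (hη₃.mem_or_mem h').resolve_left hhη₃
    obtain ⟨c', hc', hc'x⟩ := hη₃ker x hx₃
    have h2 : (1 : p₃.ResidueField) ⊗ₜ[R₃] x = 0 := (RG.one_tmul_eq_zero_iff p₃ x).2 ⟨c', hc', by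
      rw [Ideal.smul_top_eq_map, Submodule.restrictScalars_mem, Algebra.smul_def]; exact hc'x⟩
    rw [h2] at hx
    exact (smul_eq_zero.1 hx).resolve_left fun h' => hc (Ideal.algebraMap_residueField_eq_zero.1 h')
  obtain ⟨f₀, hf₀, hregf⟩ := exists_nhd_regular (R := R₃) (S := T₃) (N := T₃) p₃ h hregp
  -- the sequence over `T₃`
  let M₃ := T₃ ⊗[T] N'
  let β : (Fin r → T₃) →ₗ[T₃] M₃ := α.baseChange T₃ ∘ₗ (TensorProduct.piScalarRight T T₃ T₃ (Fin r)).symm.toLinearMap
  let π : M₃ →ₗ[T₃] T₃ ⊗[T] P := (LinearMap.range α).mkQ.baseChange T₃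
  have hexT : Function.Exact (α.baseChange T₃) π :=
    lTensor_exact T₃ (LinearMap.exact_map_mkQ_range α) (Submodule.mkQ_surjective _)
  have hexβ : Function.Exact β π := fun y => by
    rw [hexT y]
    refine ⟨?_, ?_⟩
    · rintro ⟨z, rfl⟩
      exact ⟨TensorProduct.piScalarRight T T₃ T₃ (Fin r) z,
        congrArg (α.baseChange T₃) ((TensorProduct.piScalarRight T T₃ T₃ (Fin r)).symm_apply_apply z)⟩
    · rintro ⟨z, rfl⟩
      exact ⟨_, rfl⟩
  have hkerβ : ∀ v, β v = 0 → algebraMap R R₃ s • v = 0 := by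
    intro v hv
    obtain ⟨z, rfl⟩ := (TensorProduct.piScalarRight T T₃ T₃ (Fin r)).surjective v
    simp only [β, LinearMap.comp_apply, LinearEquiv.coe_coe, LinearEquiv.symm_apply_apply] at hv
    obtain ⟨y, rfl⟩ := (Module.Flat.lTensor_exact T₃ (LinearMap.exact_subtype_ker_map α) z).1 hv
    rw [← algebraMap_smul T₃ (algebraMap R R₃ s), ← IsScalarTower.algebraMap_apply R R₃ T₃,
      IsScalarTower.algebraMap_apply R T T₃, algebraMap_smul, ← LinearEquiv.coe_coe, ← LinearMap.map_smul_of_tower]
    have hy : (algebraMap R T s) • (LinearMap.ker α).subtype.lTensor T₃ y = 0 := by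
      rw [← map_smul]
      clear hv
      have : (algebraMap R T s) • y = 0 := by
        induction y using TensorProduct.induction_on with
        | zero => exact smul_zero _
        | tmul l w =>
          rw [← tmul_smul, show algebraMap R T s • w = 0 from Subtype.ext
            (by rw [Submodule.coe_smul, algebraMap_smul]; exact hker w.1 (LinearMap.mem_ker.1 w.2)), tmul_zero]
        | add a b ha hb => rw [smul_add, ha, hb, add_zero]
      rw [this, map_zero]
    rw [hy, map_zero]
  haveI := hproj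
  have hM : Module.Projective (Localization.Away (f₀ * algebraMap R R₃ s))
      (Localization.Away (f₀ * algebraMap R R₃ s) ⊗[R₃] LocalizedModule (Submonoid.powers h) M₃) :=
    projective_tensor_middle β π hexβ (LinearMap.lTensor_surjective T₃ (Submodule.mkQ_surjective _)) h _ f₀ hkerβ hregf
  -- back to `S'`
  let S₃ := R₃ ⊗[R] S'
  obtain ⟨q₃, hq₃, hq₃p, hq₃q⟩ := exists_prime_of_nhd hn q' hq'
  haveI := hq₃
  refine EPiece.of_nhd R₃ hn hq₃q ?_
  letI : Algebra T₃ S₃ := (Algebra.TensorProduct.map (AlgHom.id R₃ R₃) (IsScalarTower.toAlgHom R T S')).toRingHom.toAlgebra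
  letI : Algebra T S₃ := ((algebraMap S' S₃).comp (algebraMap T S')).toAlgebra
  haveI : IsScalarTower T S' S₃ := IsScalarTower.of_algebraMap_eq' rfl
  obtain ⟨h1, h2⟩ := tower_map R R₃ T S' rfl rfl
  haveI := h1
  haveI := h2
  haveI := isPushout_map R R₃ T S'
  have hgq : algebraMap T₃ S₃ h ∉ q₃ := fun hm => by
    obtain ⟨c, y, hc, hcy⟩ := exists_approx hn h
    have hqT : (q₃.comap (algebraMap T₃ S₃)).comap (algebraMap R₃ T₃) = p₃ := by
      rw [Ideal.comap_comap, ← IsScalarTower.algebraMap_eq R₃ T₃ S₃, hq₃p]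
    have hy := (mem_iff_of_nhd hn hqT hc hcy).1 hm
    have hqt : (q₃.comap (algebraMap T₃ S₃)).comap (algebraMap T T₃) = t := by
      rw [Ideal.comap_comap, ← IsScalarTower.algebraMap_eq T T₃ S₃, IsScalarTower.algebraMap_eq T S' S₃,
        ← Ideal.comap_comap, hq₃q]
    rw [hqt, ← ht₃t] at hy
    exact hht₃ ((mem_iff_of_nhd hn ht₃p hc hcy).2 hy)
  let eN : S₃ ⊗[S'] N' ≃ₗ[T₃] M₃ := Algebra.IsPushout.cancelBaseChange T T₃ S' S₃ N'
  obtain ⟨e1⟩ := exists_equiv_restrict (R := R₃) (A := T₃) (A' := S₃) (S₃ ⊗[S'] N') h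
  obtain ⟨e2⟩ := exists_equiv_congr (R := R₃) eN h
  haveI := hM
  have hne : f₀ * algebraMap R R₃ s ∉ p₃ := ‹p₃.IsPrime›.mul_notMem hf₀ (hp₃ hsp)
  exact epiece_of_localized hq₃p (algebraMap T₃ S₃ h) hgq _ hne
    (Module.Projective.of_equiv (AlgebraTensorModule.congr (LinearEquiv.refl _ _) (e2.symm.trans e1)))

end Groth.Agent.RG.Loc
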