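import Groth.Agent.RG.Loc.Local
import Groth.Agent.LocalCrit.UnivInj
import Groth.Agent.LocalCrit.Criterion
import Mathlib.RingTheory.LocalRing.Module
import Mathlib.RingTheory.Support
import Mathlib.RingTheory.Localization.BaseChange

/-!
# The structure of a flat module over a projective algebra near the generic point of a fibre
-/

set_option autoImplicit false
set_option linter.style.haveILetI false
set_option backward.isDefEq.respectTransparency false

universe u

open TensorProduct

namespace Groth.Agent.RG.Loc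

theorem flat_baseChange_coker {R L : Type u} [CommRing R] [CommRing L] [Algebra R L] [IsLocalRing L]
    {F M P : Type u} [AddCommGroup F] [Module R F] [AddCommGroup M] [Module R M] [AddCommGroup P] [Module R P]
    [Module.Flat R M] (αR : F →ₗ[R] M) (π : M →ₗ[R] P) (hex : Function.Exact αR π) (hπ : Function.Surjective π)
    (hinj : Function.Injective (αR.baseChange L))
    (huniv : ∀ (Q : Type u) [AddCommGroup Q] [Module L Q], Function.Injective ((αR.baseChange L).rTensor Q)) :
    Module.Flat L (L ⊗[R] P) := by
  refine Groth.Agent.LocalCrit.flat_of_exact (αR.baseChange L) hinj (π.baseChange L)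
    (LinearMap.lTensor_surjective L hπ) (lTensor_exact L hex hπ) fun J _ => ?_
  refine (Groth.Agent.LocalCrit.quot_lTensor_injective_iff J (αR.baseChange L)).1 ?_
  exact (LinearMap.lTensor_inj_iff_rTensor_inj _ _).2 (huniv _)

/-- a map to a flat module from a projective one, injective in the fibre at `p`: near `p` its cokernel is flat -/
theorem flat_coker_of_fibre {R T F M : Type u} [CommRing R] [CommRing T] [Algebra R T] [AddCommGroup F] [Module T F]
    [Module R F] [IsScalarTower R T F] [AddCommGroup M] [Module T M] [Module R M] [IsScalarTower R T M]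
    [Module.Projective R F] [Module.Flat R M] {P : Type u} [AddCommGroup P] [Module T P] [Module R P]
    [IsScalarTower R T P] (α : F →ₗ[T] M) (π₀ : M →ₗ[T] P) (hex₀ : Function.Exact α π₀) (hπ₀ : Function.Surjective π₀)
    (p : Ideal R) [p.IsPrime]
    (h : Function.Injective ((α.restrictScalars R).lTensor p.ResidueField)) :
    (∀ v, α v = 0 → ∃ s ∉ p, s • v = 0) ∧ ∀ (τ : Ideal T) [τ.IsPrime], τ.comap (algebraMap R T) = p →
      Module.Flat R (LocalizedModule τ.primeCompl P) := by
  let L := Localization.AtPrime p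
  let αR := α.restrictScalars R
  let αL := αR.baseChange L
  have hres : Function.Injective (αL.lTensor (IsLocalRing.ResidueField L)) :=
    (Pure.injective_lTensor_baseChange αR p.ResidueField).2 h
  have huniv : ∀ (Q : Type u) [AddCommGroup Q] [Module L Q], Function.Injective (αL.rTensor Q) :=
    fun Q _ _ => Groth.Agent.LocalCrit.rTensor_injective_of_residue αL hres Q
  have hLinj : Function.Injective αL := fun a b hab => by
    have h1 : αL.rTensor L (a ⊗ₜ[L] (1 : L)) = αL.rTensor L (b ⊗ₜ[L] (1 : L)) := by simp [hab]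
    simpa using congrArg (TensorProduct.rid L _) (huniv L h1)
  refine ⟨fun v hv => ?_, fun τ _ hτ => ?_⟩
  · have h1 : αL ((1 : L) ⊗ₜ[R] v) = αL 0 := by simp [αL, αR, hv]
    obtain ⟨⟨s, hs⟩, hs0⟩ := (IsLocalizedModule.eq_zero_iff p.primeCompl (TensorProduct.mk R L F 1)).1 (hLinj h1)
    exact ⟨s, hs, hs0⟩
  · let π : M →ₗ[R] P := π₀.restrictScalars R
    have hex : Function.Exact αR π := hex₀
    have hπ : Function.Surjective π := hπ₀
    haveI : Module.Flat L (L ⊗[R] P) := flat_baseChange_coker αR π hex hπ hLinj huniv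
    haveI : Module.Flat R (L ⊗[R] P) := Module.Flat.trans R L _
    let U := Algebra.algebraMapSubmonoid T p.primeCompl
    let g := LocalizedModule.mkLinearMap U P
    haveI : IsLocalizedModule p.primeCompl (g.restrictScalars R) := IsLocalizedModule.restrictScalars _ g
    haveI : Module.Flat R (LocalizedModule U P) := Module.Flat.of_linearEquiv
      (IsLocalizedModule.linearEquiv p.primeCompl (g.restrictScalars R) (TensorProduct.mk R L P 1))
    have hU : U ≤ τ.primeCompl := by
      rintro _ ⟨r, hr, rfl⟩
      exact fun hm => hr (by rw [SetLike.mem_coe, ← hτ]; exact hm)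
    let ψ := IsLocalizedModule.liftOfLE U τ.primeCompl hU g (LocalizedModule.mkLinearMap τ.primeCompl P)
    exact InjFibre.flat_localized τ.primeCompl ψ

theorem exists_scalar {R V : Type u} [CommRing R] [AddCommGroup V] [Module R V] {p : Ideal R} [p.IsPrime]
    (z : p.ResidueField ⊗[R] V) :
    ∃ c : R, c ∉ p ∧ ∃ v, algebraMap R p.ResidueField c • z = (1 : p.ResidueField) ⊗ₜ[R] v := by
  induction z using TensorProduct.induction_on with
  | zero => exact ⟨1, fun h => ‹p.IsPrime›.ne_top ((Ideal.eq_top_iff_one p).2 h), 0, by simp⟩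
  | tmul k v =>
    obtain ⟨r, c, hc, h⟩ := exists_frac_residue (p := p) k
    exact ⟨c, hc, r • v, by rw [smul_tmul', smul_eq_mul, h, Algebra.algebraMap_eq_smul_one, smul_tmul]⟩
  | add z₁ z₂ h₁ h₂ =>
    obtain ⟨c₁, hc₁, v₁, e₁⟩ := h₁
    obtain ⟨c₂, hc₂, v₂, e₂⟩ := h₂
    refine ⟨c₁ * c₂, ‹p.IsPrime›.mul_notMem hc₁ hc₂, c₂ • v₁ + c₁ • v₂, ?_⟩
    rw [map_mul, tmul_add, tmul_smul, tmul_smul, ← e₁, ← e₂, smul_add, mul_smul,
      ← algebraMap_smul p.ResidueField c₁ (_ • z₂), ← algebraMap_smul p.ResidueField c₂ (_ • z₁),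
      mul_smul, smul_comm (algebraMap R p.ResidueField c₁) (algebraMap R p.ResidueField c₂) z₁]

attribute [local instance] Algebra.TensorProduct.rightAlgebra in
theorem exists_structure {R T : Type u} [CommRing R] [IsNoetherianRing R] [CommRing T] [Algebra R T]
    [Algebra.FiniteType R T] [Module.Projective R T] (p : Ideal R) [p.IsPrime] (η : Ideal T) [η.IsPrime]
    (hηp : η.comap (algebraMap R T) = p) (hη : ∀ x ∈ η, ∃ s ∉ p, algebraMap R T s * x ∈ p.map (algebraMap R T))
    (M : Type u) [AddCommGroup M] [Module T M] [Module R M] [IsScalarTower R T M] [Module.Finite T M] [Module.Flat R M] :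
    ∃ (r : ℕ) (α : (Fin r → T) →ₗ[T] M) (a : T) (s : R), a ∉ η ∧ (∀ m, a • m ∈ LinearMap.range α) ∧ s ∉ p ∧
      (∀ v, α v = 0 → s • v = 0) ∧ ∀ (τ : Ideal T) [τ.IsPrime], τ.comap (algebraMap R T) = p →
        Module.Flat R (LocalizedModule τ.primeCompl (M ⧸ LinearMap.range α)) := by
  classical
  let κ := η.ResidueField
  let j : M →ₗ[T] κ ⊗[T] M := TensorProduct.mk T κ M 1
  have hspan : Submodule.span κ (Set.range j) = ⊤ := by
    refine top_le_iff.1 fun z _ => ?_
    induction z using TensorProduct.induction_on with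
    | zero => exact zero_mem _
    | tmul c m =>
      rw [show c ⊗ₜ[T] m = c • j m by simp [j, smul_tmul']]
      exact Submodule.smul_mem _ _ (Submodule.subset_span ⟨m, rfl⟩)
    | add a b ha hb => exact add_mem (ha trivial) (hb trivial)
  obtain ⟨b, hb, hbspan, hbind⟩ := exists_linearIndependent κ (Set.range j)
  haveI : Finite b := hbind.finite
  haveI := Fintype.ofFinite b
  let e := Fintype.equivFin b
  choose m hm using fun i : Fin (Fintype.card b) => hb (e.symm i).2
  let α := Fintype.linearCombination T m
  have hind : LinearIndependent κ fun i => j (m i) := by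
    rw [show (fun i => j (m i)) = (fun i => ((e.symm i : b) : κ ⊗[T] M)) from funext hm]
    exact hbind.comp _ e.symm.injective
  have hjα : ∀ v, j (α v) = ∑ i, algebraMap T κ (v i) • j (m i) := fun v => by
    simp [α, Fintype.linearCombination_apply, algebraMap_smul]
  have hinj : Function.Injective ((α.restrictScalars R).lTensor p.ResidueField) := by
    rw [injective_iff_map_eq_zero]
    intro z hz
    obtain ⟨c, hc, v, hv⟩ := exists_scalar (p := p) z
    have h1 : (1 : p.ResidueField) ⊗ₜ[R] α v = 0 := by
      rw [show (1 : p.ResidueField) ⊗ₜ[R] α v = (α.restrictScalars R).lTensor p.ResidueField ((1 : p.ResidueField) ⊗ₜ[R] v) from rfl,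
        ← hv, algebraMap_smul, map_smul, hz, smul_zero]
    obtain ⟨d, hd, hdα⟩ := (RG.one_tmul_eq_zero_iff p _).1 h1
    have hker : ∀ y ∈ p • (⊤ : Submodule R M), j y = 0 := fun y hy => by
      refine Submodule.smul_induction_on hy (fun a ha y _ => ?_) fun a b ha hb => by rw [map_add, ha, hb, add_zero]
      rw [← algebraMap_smul T a y, map_smul, ← algebraMap_smul κ (algebraMap R T a),
        Ideal.algebraMap_residueField_eq_zero.2 (show algebraMap R T a ∈ η from by rw [← Ideal.mem_comap, hηp]; exact ha),
        zero_smul]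
    have hd' : algebraMap R T d ∉ η := fun h => hd (by rw [← hηp]; exact h)
    have hjv : j (α v) = 0 := by
      have := hker _ hdα
      rw [← algebraMap_smul T d (α v), map_smul, ← algebraMap_smul κ (algebraMap R T d)] at this
      exact (smul_eq_zero.1 this).resolve_left fun h => hd' (Ideal.algebraMap_residueField_eq_zero.1 h)
    rw [hjα] at hjv
    have hv0 : ∀ i, v i ∈ η := fun i => Ideal.algebraMap_residueField_eq_zero.1
      (Fintype.linearIndependent_iff.1 hind _ hjv i)
    choose s hs hsv using fun i => hη (v i) (hv0 i)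
    have hzero : (1 : p.ResidueField) ⊗ₜ[R] v = 0 := by
      refine (RG.one_tmul_eq_zero_iff p v).2 ⟨∏ i, s i, fun h => ?_, ?_⟩
      · obtain ⟨i, -, hi⟩ := ‹p.IsPrime›.prod_mem_iff.1 h
        exact hs i hi
      · rw [← Finset.univ_sum_single v, Finset.smul_sum]
        refine Submodule.sum_mem _ fun i _ => ?_
        rw [← Pi.single_smul, ← Finset.prod_erase_mul _ _ (Finset.mem_univ i), mul_smul, Pi.single_smul]
        refine Submodule.smul_mem _ _ ?_
        have h2 : (s i) • v i ∈ p • (⊤ : Submodule R T) := by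
          rw [Ideal.smul_top_eq_map, Submodule.restrictScalars_mem, Algebra.smul_def]
          exact hsv i
        have h3 := Submodule.mem_map_of_mem (f := LinearMap.single R (fun _ : Fin (Fintype.card b) => T) i) h2
        rw [Submodule.map_smul''] at h3
        exact Submodule.smul_mono le_rfl le_top h3
    rw [hzero] at hv
    exact (smul_eq_zero.1 hv).resolve_left fun h => hc (Ideal.algebraMap_residueField_eq_zero.1 h)
  haveI : Module.Projective R (Fin (Fintype.card b) → T) :=
    Module.Projective.of_equiv (TensorProduct.piScalarRight R R T (Fin (Fintype.card b)))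
  obtain ⟨hker, hflat⟩ := flat_coker_of_fibre α (LinearMap.range α).mkQ (LinearMap.exact_map_mkQ_range α) (Submodule.mkQ_surjective _) p hinj
  haveI : IsNoetherianRing T := Algebra.FiniteType.isNoetherianRing R T
  obtain ⟨G, hG⟩ := IsNoetherian.noetherian (LinearMap.ker α)
  choose s hs hs0 using fun x : G => hker x.1 (LinearMap.mem_ker.1 (hG ▸ Submodule.subset_span x.2))
  let P := M ⧸ LinearMap.range α
  have hP : (⟨η, ‹_›⟩ : PrimeSpectrum T) ∉ Module.support T P := by
    rw [Module.mem_support_iff_nontrivial_residueField_tensorProduct, not_nontrivial_iff_subsingleton]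
    refine subsingleton_of_forall_eq 0 fun z => ?_
    let q : κ ⊗[T] M →ₗ[κ] κ ⊗[T] P := (LinearMap.range α).mkQ.baseChange κ
    obtain ⟨z, rfl⟩ := LinearMap.lTensor_surjective κ (Submodule.mkQ_surjective (LinearMap.range α)) z
    change q z = 0
    have hz : z ∈ LinearMap.ker q := by
      suffices hle : Submodule.span κ (Set.range j) ≤ LinearMap.ker q by
        exact hle (hspan ▸ trivial)
      rw [← hbspan, Submodule.span_le]
      intro y hy
      obtain ⟨i, rfl⟩ : ∃ i, y = j (m i) := ⟨e ⟨y, hy⟩, by rw [hm, Equiv.symm_apply_apply]⟩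
      change q ((1 : κ) ⊗ₜ[T] m i) = 0
      rw [LinearMap.baseChange_tmul, Submodule.mkQ_apply,
        (Submodule.Quotient.mk_eq_zero _).2 (LinearMap.mem_range.2 ⟨Pi.single i 1, by simp [α]⟩), tmul_zero]
    exact hz
  rw [Module.support_eq_zeroLocus, PrimeSpectrum.mem_zeroLocus, Set.not_subset] at hP
  obtain ⟨a, ha, haη⟩ := hP
  refine ⟨_, α, a, ∏ x : G, s x, haη, fun x => ?_, fun h => ?_, fun v hv => ?_, hflat⟩
  · have := Module.mem_annihilator.1 ha (Submodule.Quotient.mk x)
    rwa [← Submodule.Quotient.mk_smul, Submodule.Quotient.mk_eq_zero] at this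
  · obtain ⟨x, -, hx⟩ := ‹p.IsPrime›.prod_mem_iff.1 h
    exact hs x hx
  · have hv' : v ∈ Submodule.span T (G : Set _) := by rw [hG]; exact LinearMap.mem_ker.2 hv
    clear hv
    induction hv' using Submodule.span_induction with
    | mem x hx => rw [← Finset.prod_erase_mul _ _ (Finset.mem_univ (⟨x, hx⟩ : G)), mul_smul, hs0, smul_zero]
    | zero => rw [smul_zero]
    | add x y _ _ hx hy => rw [smul_add, hx, hy, add_zero]
    | smul c x _ hx => rw [smul_comm, hx, smul_zero]

end Groth.Agent.RG.Loc
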